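import Cfsg.Agent.Lib.CommPair.Simple
import Cfsg.Agent.Lib.HalfClasses.Count

/-!
Elements fused into two commuting strongly closed 2-subgroups meeting trivially commute modulo the odd core.
-/

set_option autoImplicit false
set_option linter.unusedSectionVars false
set_option linter.style.haveILetI false

namespace Cfsg.Agent.CommPair

open Subgroup Cfsg.Agent.SylowSplit
open Cfsg.Agent.ClosedAbelian (core core_le core_odd core_normalized conj_mem_core le_core TwoEl)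
open Cfsg.Agent.GateCons (Gate)
open scoped commutatorElement

universe u

/-- The theorem on a commuting pair. -/
def Stmt : Prop :=
  ∀ (G : Type u) [Group G] [Finite G] (P : Sylow 2 G) (S₁ S₂ : Subgroup G), Pair P S₁ S₂ →
    ∀ a b : G, InR S₁ a → InR S₂ b → ⁅a, b⁆ ∈ Cfsg.oddCore G

variable {G : Type u} [Group G] [Finite G] {P : Sylow 2 G} {S₁ S₂ : Subgroup G}

/-- Everything commutes as soon as it does inside the second factor. -/
theorem commute_of_right (h : ∀ a b, InR S₁ a → b ∈ S₂ → Commute a b) {a b : G} (ha : InR S₁ a)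
    (hb : InR S₂ b) : Commute a b := by
  obtain ⟨g, hg⟩ := hb
  have h1 := (h _ _ (ha.conj g) hg).map (MulAut.conj g⁻¹).toMonoidHom
  simpa [mul_assoc] using h1

/-- The fused elements form a normal set, and generate a normal subgroup. -/
theorem closure_inR_normal (S : Subgroup G) (A : Subgroup G) [A.Normal] :
    (closure {y : G | InR S y ∧ y ∈ A}).Normal := by
  refine normalizer_eq_top_iff.1 (eq_top_iff.2 fun g _ => mem_normalizer_fintype fun x hx => ?_)
  suffices h : closure {y : G | InR S y ∧ y ∈ A} ≤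
      (closure {y : G | InR S y ∧ y ∈ A}).comap (MulAut.conj g).toMonoidHom from h hx
  exact (closure_le _).2 fun y hy => subset_closure ⟨hy.1.conj g, ‹A.Normal›.conj_mem y hy.2 g⟩

/-- The core of a normal subgroup is trivial. -/
theorem core_eq_bot_of_normal (hO : Cfsg.oddCore G = ⊥) (N : Subgroup G) [N.Normal] : core N = ⊥ := by
  rw [eq_bot_iff, ← hO]
  refine SEBrick.le_oddCore (normalizer_eq_top_iff.1 (top_le_iff.1 ?_)) ?_
  · rw [← normalizer_eq_top (H := N)]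
    exact ClosedAbelian.normalizer_le_normalizer_core N
  · rw [← Nat.not_even_iff_odd, even_iff_two_dvd]
    exact core_odd N

/-- A normal 2-subgroup lies in every Sylow subgroup. -/
theorem le_sylow (Q : Sylow 2 G) {N : Subgroup G} (hn : N.Normal) (hN : IsPGroup 2 N) :
    N ≤ (Q : Subgroup G) := by
  haveI : Fact (Nat.Prime 2) := ⟨Nat.prime_two⟩
  haveI := hn
  obtain ⟨k, hk⟩ := exists_conj_le Q hN
  intro x hx
  have h := hk _ (hn.conj_mem x hx k⁻¹)
  simpa [mul_assoc] using h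

/-- With no normal 2-subgroup and no odd core a commutative normal subgroup is trivial. -/
theorem comm_normal_eq_bot (hO : Cfsg.oddCore G = ⊥)
    (h2 : ∀ N : Subgroup G, N.Normal → IsPGroup 2 N → N = ⊥) {A : Subgroup G} (hn : A.Normal)
    (hc : ∀ x ∈ A, ∀ y ∈ A, Commute x y) : A = ⊥ := by
  let B : Subgroup G :=
    { carrier := {x | x ∈ A ∧ TwoEl x}
      one_mem' := ⟨one_mem A, 0, one_pow _⟩
      mul_mem' := fun {x y} hx hy => ⟨mul_mem hx.1 hy.1, by
        obtain ⟨i, hi⟩ := hx.2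
        obtain ⟨j, hj⟩ := hy.2
        refine ⟨i + j, ?_⟩
        rw [(hc x hx.1 y hy.1).mul_pow, pow_add, pow_mul, hi, one_pow, one_mul, mul_comm, pow_mul, hj,
          one_pow]⟩
      inv_mem' := fun {x} hx => ⟨inv_mem hx.1, by
        obtain ⟨i, hi⟩ := hx.2
        exact ⟨i, by rw [inv_pow, hi, inv_one]⟩⟩ }
  have hB : B = ⊥ := h2 B ⟨fun x hx g => ⟨hn.conj_mem x hx.1 g, hx.2.conj g⟩⟩ fun ⟨x, hx⟩ => by
    obtain ⟨i, hi⟩ := hx.2
    exact ⟨i, Subtype.ext hi⟩
  rw [eq_bot_iff, ← hO]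
  refine SEBrick.le_oddCore hn ?_
  rw [← Nat.not_even_iff_odd]
  intro he
  obtain ⟨t, htA, ht⟩ := Invol.exists_invol he
  have htB : t ∈ B := ⟨htA, 1, by rw [pow_one, pow_two, Invol.mul_self ht]⟩
  rw [hB, mem_bot] at htB
  exact Invol.ne_one ht htB

/-- A normal subgroup meeting trivially one which has a 2-group above it is a 2-group. -/
theorem isPGroup_of_inf_eq_bot {A B : Subgroup G} [B.Normal] (hAB : A ⊓ B = ⊥)
    (hP : B ⊔ (P : Subgroup G) = ⊤) : IsPGroup 2 A := by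
  set π := QuotientGroup.mk' B with hπ
  have htop : (P : Subgroup G).map π = ⊤ := by
    have hB : B.map π = ⊥ := by rw [Subgroup.map_eq_bot_iff, QuotientGroup.ker_mk']
    rw [← map_top_of_surjective π (QuotientGroup.mk'_surjective B), ← hP, Subgroup.map_sup, hB, bot_sup_eq]
  have hQ : IsPGroup 2 (G ⧸ B) :=
    ((P.isPGroup'.map π).of_equiv ((MulEquiv.subgroupCongr htop).trans Subgroup.topEquiv))
  refine hQ.of_injective (π.comp A.subtype) fun x y hxy => ?_
  have h : ((x : G))⁻¹ * (y : G) ∈ A ⊓ B :=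
    mem_inf.2 ⟨mul_mem (inv_mem x.2) y.2, QuotientGroup.eq.1 hxy⟩
  rw [hAB, mem_bot, inv_mul_eq_one] at h
  exact Subtype.ext h

/-- Below a given order. -/
def Below (n : ℕ) : Prop :=
  ∀ (G : Type u) [Group G] [Finite G], Nat.card G < n → ∀ (P : Sylow 2 G) (S₁ S₂ : Subgroup G), Pair P S₁ S₂ →
    ∀ a b : G, InR S₁ a → InR S₂ b → ⁅a, b⁆ ∈ Cfsg.oddCore G

/-- The conclusion in the proper subgroups. -/
theorem local_of_below (D : Pair P S₁ S₂) (ih : Below.{u} (Nat.card G)) : Local S₁ S₂ := by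
  intro X hX a ha b hb h₁ h₂
  obtain ⟨T, -⟩ := (IsPGroup.of_bot : IsPGroup 2 (⊥ : Subgroup X)).exists_le_sylow
  obtain ⟨T₁, T₂, D', i₁, i₂⟩ := D.restrict T
  have hlt : Nat.card X < Nat.card G := lt_of_le_of_ne (card_le_card_group _) fun e => hX (eq_top_of_card_eq _ e)
  exact ⟨⁅(⟨a, ha⟩ : X), ⟨b, hb⟩⁆, ih X hlt T T₁ T₂ D' _ _ (i₁ ⟨a, ha⟩ h₁) (i₂ ⟨b, hb⟩ h₂), rfl⟩

theorem card_quotient_lt {N : Subgroup G} [N.Normal] (hN : N ≠ ⊥) : Nat.card (G ⧸ N) < Nat.card G := by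
  have h := N.card_mul_index
  have h2 : 1 < Nat.card N := (Subgroup.one_lt_card_iff_ne_bot N).2 hN
  rw [← h]
  exact lt_mul_of_one_lt_left Nat.card_pos h2

/-- A normal 2-subgroup apart from the pair. -/
theorem commute_of_quot (D : Pair P S₁ S₂) (hO : Cfsg.oddCore G = ⊥) (ih : Below.{u} (Nat.card G))
    {N : Subgroup G} [N.Normal] (hN : IsPGroup 2 N) (hne : N ≠ ⊥)
    (hd : ∀ a ∈ S₁, ∀ b ∈ S₂, a⁻¹ * b ∈ N → a ∈ N) (h2 : S₂ ⊓ N = ⊥)
    (hc : ∀ b, InR S₂ b → b ∈ centralizer (N : Set G)) {a b : G} (ha : InR S₁ a) (hb : InR S₂ b) :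
    Commute a b := by
  haveI : Fact (Nat.Prime 2) := ⟨Nat.prime_two⟩
  have hNP : N ≤ (P : Subgroup G) := le_sylow P inferInstance hN
  refine commute_of_right (fun a b ha hb => ?_) ha hb
  have hq := ih (G ⧸ N) (card_quotient_lt hne) _ _ _ (D.quotient (Or.inr hNP) hd)
    (QuotientGroup.mk' N a) (QuotientGroup.mk' N b) (Pair.inR_map _ ha) (Pair.inR_map _ (InR.of_mem hb))
  rw [← map_commutatorElement] at hq
  set C := centralizer (N : Set G) with hC
  haveI hCn : C.Normal := Subgroup.normal_centralizer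
  have hbC : b ∈ C := hc b (InR.of_mem hb)
  have hy : ⁅a, b⁆ ∈ C := mul_mem (hCn.conj_mem b hbC a) (inv_mem hbC)
  -- the commutator lies in `N`
  set Z : Subgroup C := N.subgroupOf C with hZ
  have hZc : Z ≤ center C := fun z hz => mem_center_iff.2 fun g => Subtype.ext
    (mem_centralizer_iff.1 g.2 _ (mem_subgroupOf.1 hz)).symm
  have hCO : Cfsg.pPrimeCore 2 C = ⊥ := by
    have h1 := FittingCores.pPrimeCore_map_subtype_le 2 hCn
    rw [show Cfsg.pPrimeCore 2 G = ⊥ from hO, le_bot_iff,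
      Subgroup.map_eq_bot_iff_of_injective _ C.subtype_injective] at h1
    exact h1
  have hbot := HalfClasses.core_quotient_bot hCO Z (hN.comap_subtype) hZc
  let φ : C ⧸ Z →* G ⧸ N := QuotientGroup.map Z N C.subtype le_rfl
  have hφ : Function.Injective φ := by
    refine (injective_iff_map_eq_one φ).2 fun x => ?_
    induction x using QuotientGroup.induction_on with
    | _ x =>
      intro hx
      exact (QuotientGroup.eq_one_iff x).2 ((QuotientGroup.eq_one_iff (x : G)).1 hx)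
  haveI : (Cfsg.oddCore (G ⧸ N)).Normal := FittingCores.pPrimeCore_normal 2
  have hmem : (QuotientGroup.mk (⟨_, hy⟩ : C) : C ⧸ Z) ∈ Cfsg.oddCore (C ⧸ Z) := by
    refine SEBrick.le_oddCore (X := (Cfsg.oddCore (G ⧸ N)).comap φ) inferInstance ?_ hq
    exact (SEBrick.oddCore_odd (G := G ⧸ N)).of_dvd_nat (Subgroup.card_comap_dvd_of_injective _ φ hφ)
  rw [show Cfsg.oddCore (C ⧸ Z) = ⊥ from hbot, mem_bot, QuotientGroup.eq_one_iff] at hmem
  have hyN : ⁅a, b⁆ ∈ N := mem_subgroupOf.1 hmem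
  -- so it lies in the second factor
  have hab : a * b * a⁻¹ = ⁅a, b⁆ * b := by simp [commutatorElement_def, mul_assoc]
  have h1 : ⁅a, b⁆ * b ∈ S₂ :=
    mem_of D.cl₂ (mul_mem (hNP hyN) (D.cl₂.1 hb)) (hab ▸ (InR.of_mem hb).conj a)
  have h3 : ⁅a, b⁆ ∈ S₂ ⊓ N := mem_inf.2 ⟨by simpa using mul_mem h1 (inv_mem hb), hyN⟩
  rw [h2, mem_bot] at h3
  exact commutatorElement_eq_one_iff_mul_comm.1 h3

/-- A normal 2-subgroup inside a factor. -/
theorem commute_of_le (D : Pair P S₁ S₂) (hO : Cfsg.oddCore G = ⊥) (ih : Below.{u} (Nat.card G))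
    {N : Subgroup G} [hn : N.Normal] (hN : N ≤ S₁) (hne : N ≠ ⊥) {a b : G} (ha : InR S₁ a) (hb : InR S₂ b) :
    Commute a b := by
  refine commute_of_quot D hO ih (P.isPGroup'.to_le (hN.trans D.cl₁.1)) hne (fun x hx y hy hxy => ?_) ?_
    (fun y hy => mem_centralizer_iff.2 fun n hn' => ?_) ha hb
  · have hy1 : y ∈ S₁ := by simpa using mul_mem hx (hN hxy)
    have : y ∈ S₁ ⊓ S₂ := ⟨hy1, hy⟩
    rw [D.disj, mem_bot] at this
    rw [this, mul_one] at hxy
    exact inv_mem_iff.1 hxy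
  · rw [eq_bot_iff]
    exact fun x hx => D.disj ▸ mem_inf.2 ⟨hN (mem_inf.1 hx).2, (mem_inf.1 hx).1⟩
  · obtain ⟨g, hg⟩ := hy
    have h := (D.comm _ (hN (hn.conj_mem n hn' g)) _ hg).map (MulAut.conj g⁻¹).toMonoidHom
    simpa [mul_assoc] using h.eq

/-- A nontrivial normal 2-subgroup settles it. -/
theorem commute_of_two (D : Pair P S₁ S₂) (hO : Cfsg.oddCore G = ⊥) (ih : Below.{u} (Nat.card G))
    {N : Subgroup G} [hn : N.Normal] (hN : IsPGroup 2 N) (hne : N ≠ ⊥) {a b : G} (ha : InR S₁ a)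
    (hb : InR S₂ b) : Commute a b := by
  haveI : Fact (Nat.Prime 2) := ⟨Nat.prime_two⟩
  have hNP : ∀ W : Sylow 2 G, N ≤ (W : Subgroup G) := fun W => le_sylow W hn hN
  have hinf : ∀ {S : Subgroup G}, Cfsg.IsStronglyClosed S (P : Subgroup G) → (N ⊓ S).Normal := fun {S} hS =>
    ⟨fun x hx g => mem_inf.2 ⟨hn.conj_mem x (mem_inf.1 hx).1 g,
      hS.2 x (mem_inf.1 hx).2 g (hNP P (hn.conj_mem x (mem_inf.1 hx).1 g))⟩⟩
  by_cases h1 : N ⊓ S₁ = ⊥
  swap
  · haveI := hinf D.cl₁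
    exact commute_of_le D hO ih inf_le_right h1 ha hb
  by_cases h2 : N ⊓ S₂ = ⊥
  swap
  · haveI := hinf D.cl₂
    exact (commute_of_le D.symm hO ih inf_le_right h2 hb ha).symm
  -- both factors centralise `N`
  have hcen : ∀ {S : Subgroup G}, Cfsg.IsStronglyClosed S (P : Subgroup G) → N ⊓ S = ⊥ →
      ∀ y, InR S y → y ∈ centralizer (N : Set G) := by
    intro S hS hbot y hy
    have hCn : (centralizer (N : Set G)).Normal := Subgroup.normal_centralizer
    obtain ⟨g, hg⟩ := hy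
    suffices h : g * y * g⁻¹ ∈ centralizer (N : Set G) by simpa [mul_assoc] using hCn.conj_mem _ h g⁻¹
    refine mem_centralizer_iff.2 fun n hn' => ?_
    have hnP := hNP P hn'
    have hc : n * (g * y * g⁻¹) * n⁻¹ * (g * y * g⁻¹)⁻¹ ∈ N ⊓ S := by
      refine mem_inf.2 ⟨?_, mul_mem (hS.2 _ hg n (mul_mem (mul_mem hnP (hS.1 hg)) (inv_mem hnP))) (inv_mem hg)⟩
      rw [show n * (g * y * g⁻¹) * n⁻¹ * (g * y * g⁻¹)⁻¹ = n * ((g * y * g⁻¹) * n⁻¹ * (g * y * g⁻¹)⁻¹) by group]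
      exact mul_mem hn' (hn.conj_mem _ (inv_mem hn') _)
    rw [hbot, mem_bot, mul_inv_eq_one, mul_inv_eq_iff_eq_mul] at hc
    exact hc
  by_cases hd : ∀ x ∈ S₁, ∀ y ∈ S₂, x⁻¹ * y ∈ N → x ∈ N
  · exact commute_of_quot D hO ih hN hne hd (by rwa [inf_comm]) (hcen D.cl₂ h2) ha hb
  push_neg at hd
  obtain ⟨x, hx, y, hy, hxy, hxN⟩ := hd
  have hx1 : x ≠ 1 := fun e => hxN (e ▸ one_mem N)
  obtain ⟨j, hj⟩ := two_elt_of_mem P.2 (D.cl₁.1 hx)
  obtain ⟨i, rfl⟩ := Nat.exists_eq_succ_of_ne_zero (n := j)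
    (fun e => hx1 (orderOf_eq_one_iff.1 (by rw [hj, e, pow_zero])))
  set d := x ^ 2 ^ i with hd'
  set e := y ^ 2 ^ i with he'
  have hd2 : orderOf d = 2 := by
    rw [hd', orderOf_pow' _ (pow_ne_zero _ two_ne_zero), hj, Nat.gcd_eq_right (pow_dvd_pow 2 (Nat.le_succ i)),
      pow_succ, Nat.mul_div_cancel_left _ (pow_pos two_pos i)]
  have hdS : d ∈ S₁ := pow_mem hx _
  have heS : e ∈ S₂ := pow_mem hy _
  have hde : d⁻¹ * e ∈ N := by
    rw [hd', he', ← inv_pow, ← (Commute.inv_left (D.comm x hx y hy)).mul_pow]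
    exact pow_mem hxy _
  set C := centralizer (N : Set G) with hC
  haveI hCn : C.Normal := Subgroup.normal_centralizer
  have hdC : d ∈ C := hcen D.cl₁ h1 d (InR.of_mem hdS)
  -- `d` is isolated in `C`
  have hiso : Cfsg.IsIsolated (⟨d, hdC⟩ : C) := by
    rintro ⟨g, hg⟩ hc
    refine Subtype.ext ?_
    show g * d * g⁻¹ = d
    have hc' : Commute d (g * d * g⁻¹) := congrArg Subtype.val hc
    have hge : g * e * g⁻¹ = g * d * g⁻¹ * (d⁻¹ * e) := by
      have hgn : Commute g (d⁻¹ * e) := (mem_centralizer_iff.1 hg _ hde).symm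
      calc g * e * g⁻¹ = g * d * g⁻¹ * (g * (d⁻¹ * e) * g⁻¹) := by group
        _ = _ := by rw [hgn.eq, mul_inv_cancel_right]
    obtain ⟨W, hW⟩ := (pGroup_pair (x := d) (y := g * d * g⁻¹) ⟨1, by rw [hd2, pow_one]⟩
      ⟨1, by rw [Invol.order_conj, hd2, pow_one]⟩
      (by rw [hc'.eq, mul_inv_cancel_right]; exact mem_zpowers _)).exists_le_sylow
    obtain ⟨k, hk⟩ := exists_conj_le P W.isPGroup'
    have hdW := hW (mem_sup_left (mem_zpowers d))
    have hdW' := hW (mem_sup_right (mem_zpowers (g * d * g⁻¹)))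
    have heW : e ∈ (W : Subgroup G) := by simpa using mul_mem hdW (hNP W hde)
    have heW' : g * e * g⁻¹ ∈ (W : Subgroup G) := hge ▸ mul_mem hdW' (hNP W hde)
    have p1 := mem_of D.cl₁ (hk _ hdW) ((InR.of_mem hdS).conj k)
    have p2 := mem_of D.cl₁ (hk _ hdW') (((InR.of_mem hdS).conj g).conj k)
    have q1 := mem_of D.cl₂ (hk _ heW) ((InR.of_mem heS).conj k)
    have q2 := mem_of D.cl₂ (hk _ heW') (((InR.of_mem heS).conj g).conj k)
    have hm : k * (g * d * g⁻¹) * k⁻¹ * (k * d * k⁻¹)⁻¹ ∈ S₁ ⊓ S₂ := by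
      refine mem_inf.2 ⟨mul_mem p2 (inv_mem p1), ?_⟩
      have he2 : k * (g * d * g⁻¹) * k⁻¹ * (k * d * k⁻¹)⁻¹ = k * (g * e * g⁻¹) * k⁻¹ * (k * e * k⁻¹)⁻¹ := by
        rw [hge]; group
      rw [he2]
      exact mul_mem q2 (inv_mem q1)
    rw [D.disj, mem_bot, mul_inv_eq_one] at hm
    simpa using hm
  have hcentral : ∀ g ∈ C, Commute g d := by
    intro g hg
    have h := BrauerSuzuki.zStar C ⟨d, hdC⟩ (by rw [← Subgroup.orderOf_coe]; exact hd2) hiso ⟨g, hg⟩
    have h' := FittingCores.pPrimeCore_map_subtype_le 2 hCn ⟨_, h, rfl⟩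
    rw [show Cfsg.pPrimeCore 2 G = ⊥ from hO, mem_bot] at h'
    have h'' : g * d * g⁻¹ * d⁻¹ = 1 := h'
    rw [mul_inv_eq_one, mul_inv_eq_iff_eq_mul] at h''
    exact h''
  -- its conjugates generate a normal 2-subgroup inside the first factor
  have hconj : ∀ g : G, g * d * g⁻¹ ∈ C := fun g => hCn.conj_mem d hdC g
  have hcomm : ∀ g : G, ∀ w ∈ C, Commute w (g * d * g⁻¹) := fun g w hw => by
    have h := (hcentral (g⁻¹ * w * g) (by simpa using hCn.conj_mem w hw g⁻¹)).map (MulAut.conj g).toMonoidHom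
    simpa [mul_assoc] using h
  let K : Subgroup G := normalClosure {d}
  have hK : ∀ w ∈ K, w ∈ C ∧ (∀ v ∈ C, Commute v w) ∧ w * w = 1 ∧ InR S₁ w := by
    intro w hw
    have hW : ∀ u v : G, u ∈ C → (∀ t ∈ C, Commute t v) → u * u = 1 → v * v = 1 → InR S₁ u → InR S₁ v →
        InR S₁ (u * v) := by
      intro u v hu hv hu2 hv2 hu1 hv1
      have hT : ∀ {t : G}, t * t = 1 → ∃ m, orderOf t = 2 ^ m := fun {t} ht => by
        by_cases h : t = 1
        · exact ⟨0, by rw [h, orderOf_one, pow_zero]⟩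
        · exact ⟨1, by rw [Invol.order_two_of_sq ht h, pow_one]⟩
      exact inR_mul D.cl₁ (pGroup_pair (hT hu2) (hT hv2) (by
        rw [(hv u hu).eq, mul_inv_cancel_right]; exact mem_zpowers _)) (mem_sup_left (mem_zpowers u))
        (mem_sup_right (mem_zpowers v)) hu1 hv1
    induction hw using closure_induction with
    | mem t ht =>
      obtain ⟨s, rfl, hst⟩ := Group.mem_conjugatesOfSet_iff.1 ht
      obtain ⟨g, rfl⟩ := isConj_iff.1 hst
      exact ⟨hconj g, hcomm g, Invol.mul_self ((Invol.order_conj g d).trans hd2),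
        (InR.of_mem hdS).conj g⟩
    | one => exact ⟨one_mem C, fun v _ => Commute.one_right v, one_mul 1, InR.of_mem (one_mem S₁)⟩
    | mul s t _ _ hs ht =>
      refine ⟨mul_mem hs.1 ht.1, fun v hv => (hs.2.1 v hv).mul_right (ht.2.1 v hv), ?_,
        hW s t hs.1 ht.2.1 hs.2.2.1 ht.2.2.1 hs.2.2.2 ht.2.2.2⟩
      rw [(hs.2.1 t ht.1).mul_mul_mul_comm s t, hs.2.2.1, ht.2.2.1, one_mul]
    | inv s _ hs =>
      rw [inv_eq_of_mul_eq_one_right hs.2.2.1]
      exact hs
  have hK2 : IsPGroup 2 K := fun w => ⟨1, Subtype.ext (by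
    rw [SubmonoidClass.coe_pow, pow_one, pow_two]; exact (hK w w.2).2.2.1)⟩
  refine commute_of_le D hO ih (N := K)
    (fun w hw => mem_of D.cl₁ (le_sylow P normalClosure_normal hK2 hw) (hK w hw).2.2.2)
    (fun e' => Invol.ne_one hd2 (mem_bot.1 (e' ▸ subset_normalClosure rfl))) ha hb

/-- A proper normal subgroup above the first kind settles it. -/
theorem commute_of_above (D : Pair P S₁ S₂) (hO : Cfsg.oddCore G = ⊥) (hloc : Local S₁ S₂)
    {A : Subgroup G} [hA : A.Normal] (hP : A ⊔ (P : Subgroup G) ≠ ⊤) {a b : G} (haA : a ∈ A) (ha : InR S₁ a)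
    (hb : b ∈ S₂) : Commute a b := by
  have h := hloc _ hP a (mem_sup_left haA) b (mem_sup_right (D.cl₂.1 hb)) ha (InR.of_mem hb)
  have hA' : ⁅a, b⁆ ∈ A := by
    rw [commutatorElement_def, show a * b * a⁻¹ * b⁻¹ = a * (b * a⁻¹ * b⁻¹) by group]
    exact mul_mem haA (hA.conj_mem _ (inv_mem haA) b)
  have hle : core (A ⊔ (P : Subgroup G)) ⊓ A ≤ core A := by
    refine le_core inf_le_right ?_ fun h => core_odd _ (h.trans (card_dvd_of_le inf_le_left))
    exact (le_inf (le_sup_left.trans (core_normalized _)) Subgroup.le_normalizer).trans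
      inf_normalizer_le_normalizer_inf
  have h' := hle (mem_inf.2 ⟨h, hA'⟩)
  rw [core_eq_bot_of_normal hO A, mem_bot] at h'
  exact commutatorElement_eq_one_iff_mul_comm.1 h'

/-- A minimal normal subgroup avoiding the second factor, when no proper normal subgroup lies above. -/
theorem false_of_avoid (D : Pair P S₁ S₂) (hne : S₂ ≠ ⊥) (hO : Cfsg.oddCore G = ⊥) (hloc : Local S₁ S₂)
    (h2 : ∀ N : Subgroup G, N.Normal → IsPGroup 2 N → N = ⊥)
    (h₁ : closure {y : G | InR S₁ y ∧ y ∈ (⊤ : Subgroup G)} ⊔ (P : Subgroup G) = ⊤)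
    {N : Subgroup G} [hNn : N.Normal] (hN : N ≠ ⊥)
    (hmin : ∀ A : Subgroup G, A.Normal → A ≤ N → A ≠ ⊥ → A = N) (hT : N ⊓ S₂ = ⊥) : False := by
  haveI : Fact (Nat.Prime 2) := ⟨Nat.prime_two⟩
  obtain ⟨n, hn⟩ := IsPGroup.iff_card.1 (P.isPGroup'.to_le D.cl₂.1)
  obtain ⟨⟨t, htS⟩, ht'⟩ := exists_prime_orderOf_dvd_card' (G := S₂) 2 (hn ▸ dvd_pow_self 2
    (fun e => hne (eq_bot_of_card_eq S₂ (by rw [hn, e, pow_zero]))))
  have ht : orderOf t = 2 := by rwa [← Subgroup.orderOf_coe] at ht'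
  -- the involution centralises the minimal normal subgroup
  set X := N ⊔ zpowers t with hX
  have htX : t ∈ X := mem_sup_right (mem_zpowers t)
  have hiso : Cfsg.IsIsolated (⟨t, htX⟩ : X) := by
    rintro ⟨g, hg⟩ hc
    refine Subtype.ext ?_
    show g * t * g⁻¹ = t
    have hc' : Commute t (g * t * g⁻¹) := congrArg Subtype.val hc
    obtain ⟨m, hm, w, hw, rfl⟩ := mem_sup_of_normal_left.1 hg
    obtain ⟨k, rfl⟩ := mem_zpowers_iff.1 hw
    have e : m * t ^ k * t * (m * t ^ k)⁻¹ = m * t * m⁻¹ := by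
      rw [mul_inv_rev, show m * t ^ k * t * ((t ^ k)⁻¹ * m⁻¹) = m * (t ^ k * t * (t ^ k)⁻¹) * m⁻¹ by group,
        ((Commute.refl t).zpow_left k).eq, mul_inv_cancel_right]
    rw [e] at hc' ⊢
    by_contra hne'
    have hI : t ∈ Invs S₂ := ⟨ht, InR.of_mem htS⟩
    have hv := invol_mul D.cl₂ (Invs.conj hI m) hI hc'.symm hne'
    have hvN : m * t * m⁻¹ * t ∈ N := by
      rw [show m * t * m⁻¹ * t = m * (t * m⁻¹ * t⁻¹) * (t * t) by group, Invol.mul_self ht, mul_one]
      exact mul_mem hm (hNn.conj_mem _ (inv_mem hm) t)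
    obtain ⟨c, hc2⟩ := hv.2
    have h' : c * (m * t * m⁻¹ * t) * c⁻¹ ∈ N ⊓ S₂ := ⟨hNn.conj_mem _ hvN c, hc2⟩
    rw [hT, mem_bot] at h'
    exact Invol.ne_one hv.1 (conj_eq_one_iff.1 h')
  have htN : t ∈ centralizer (N : Set G) := mem_centralizer_iff.2 fun m hm => by
    have hmX : m ∈ X := mem_sup_left hm
    have h := BrauerSuzuki.zStar X ⟨t, htX⟩ (by rw [← Subgroup.orderOf_coe]; exact ht) hiso ⟨m, hmX⟩
    have hmem : m * t * m⁻¹ * t⁻¹ ∈ core X ⊓ N := by
      refine mem_inf.2 ⟨⟨_, h, rfl⟩, ?_⟩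
      rw [show m * t * m⁻¹ * t⁻¹ = m * (t * m⁻¹ * t⁻¹) by group]
      exact mul_mem hm (hNn.conj_mem _ (inv_mem hm) t)
    have hle : core X ⊓ N ≤ core N := le_core inf_le_right
      ((le_inf (le_sup_left.trans (core_normalized _)) Subgroup.le_normalizer).trans
        inf_normalizer_le_normalizer_inf) fun h => core_odd _ (h.trans (card_dvd_of_le inf_le_left))
    have h' := hle hmem
    rw [core_eq_bot_of_normal hO N, mem_bot, mul_inv_eq_one, mul_inv_eq_iff_eq_mul] at h'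
    exact h'
  -- the fused elements centralising it
  haveI hCn : (centralizer (N : Set G)).Normal := Subgroup.normal_centralizer
  set K := closure {y : G | InR S₂ y ∧ y ∈ centralizer (N : Set G)} with hK
  haveI hKn : K.Normal := closure_inR_normal S₂ _
  have hKC : K ≤ centralizer (N : Set G) := (closure_le _).2 fun y hy => hy.2
  have hKP : K ⊔ (P : Subgroup G) ≠ ⊤ := fun h => by
    refine hN (h2 N hNn (isPGroup_of_inf_eq_bot (A := N) (B := centralizer (N : Set G)) ?_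
      (top_le_iff.1 (h ▸ sup_le_sup_right hKC _))))
    by_contra hne'
    have hA := hmin _ (normal_inf_normal _ _) inf_le_left hne'
    refine hN (comm_normal_eq_bot hO h2 hNn fun x hx y hy => ?_)
    rw [← hA] at hy
    exact mem_centralizer_iff.1 (mem_inf.1 hy).2 x hx
  have hcomm : ∀ y, InR S₁ y → y ∈ centralizer (K : Set G) := by
    intro y hy
    obtain ⟨g, hg⟩ := hy
    haveI : (centralizer (K : Set G)).Normal := Subgroup.normal_centralizer
    suffices h : g * y * g⁻¹ ∈ centralizer (K : Set G) by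
      simpa [mul_assoc] using ‹(centralizer (K : Set G)).Normal›.conj_mem _ h g⁻¹
    have : K ≤ cc (g * y * g⁻¹) := (closure_le _).2 fun b hb => mem_cc.2 <| by
      exact commute_of_above D.symm hO (fun X hX a ha c hc h₂ h₁ => by
        rw [← commutatorElement_inv]; exact inv_mem (hloc X hX c hc a ha h₁ h₂)) hKP
        (subset_closure hb) hb.1 hg
    exact mem_centralizer_iff.2 fun b hb => (mem_cc.1 (this hb)).eq
  set N₁ := closure {y : G | InR S₁ y ∧ y ∈ (⊤ : Subgroup G)} with hN₁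
  haveI : N₁.Normal := closure_inR_normal S₁ ⊤
  have hN₁K : N₁ ≤ centralizer (K : Set G) := (closure_le _).2 fun y hy => hcomm y hy.1
  have hinf : K ⊓ N₁ = ⊥ := comm_normal_eq_bot hO h2 (normal_inf_normal _ _) fun x hx y hy =>
    mem_centralizer_iff.1 (hN₁K (mem_inf.1 hy).2) x (mem_inf.1 hx).1
  have hKb := h2 K hKn (isPGroup_of_inf_eq_bot hinf h₁)
  have htK : t ∈ K := subset_closure ⟨InR.of_mem htS, htN⟩
  rw [hKb, mem_bot] at htK
  exact Invol.ne_one ht htK

/-- The theorem for trivial odd core. -/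
theorem commute_of_trivial_core (hg : Gate.{u}) (D : Pair P S₁ S₂) (hO : Cfsg.oddCore G = ⊥)
    (ih : Below.{u} (Nat.card G)) {a b : G} (ha : InR S₁ a) (hb : InR S₂ b) : Commute a b := by
  haveI : Fact (Nat.Prime 2) := ⟨Nat.prime_two⟩
  by_cases h2 : ∀ N : Subgroup G, N.Normal → IsPGroup 2 N → N = ⊥
  swap
  · push_neg at h2
    obtain ⟨N, hn, hN, hne⟩ := h2
    haveI := hn
    exact commute_of_two D hO ih hN hne ha hb
  by_cases e₁ : S₁ = ⊥
  · obtain ⟨g, hg'⟩ := ha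
    rw [e₁, mem_bot, conj_eq_one_iff] at hg'
    rw [hg']; exact Commute.one_left b
  by_cases e₂ : S₂ = ⊥
  · obtain ⟨g, hg'⟩ := hb
    rw [e₂, mem_bot, conj_eq_one_iff] at hg'
    rw [hg']; exact Commute.one_right a
  have hloc := local_of_below D ih
  have hloc' : Local S₂ S₁ := fun X hX x hx y hy h₂ h₁ => by
    rw [← commutatorElement_inv]; exact inv_mem (hloc X hX y hy x hx h₁ h₂)
  set N₁ := closure {y : G | InR S₁ y ∧ y ∈ (⊤ : Subgroup G)} with hN₁
  set N₂ := closure {y : G | InR S₂ y ∧ y ∈ (⊤ : Subgroup G)} with hN₂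
  haveI : N₁.Normal := closure_inR_normal S₁ ⊤
  haveI : N₂.Normal := closure_inR_normal S₂ ⊤
  by_cases h₁ : N₁ ⊔ (P : Subgroup G) = ⊤
  swap
  · exact commute_of_right (fun x y hx hy =>
      commute_of_above D hO hloc h₁ (subset_closure ⟨hx, mem_top x⟩) hx hy) ha hb
  by_cases h₂ : N₂ ⊔ (P : Subgroup G) = ⊤
  swap
  · exact (commute_of_right (fun y x hy hx =>
      commute_of_above D.symm hO hloc' h₂ (subset_closure ⟨hy, mem_top y⟩) hy hx) hb ha).symm
  exfalso
  have C : Ctx P S₁ S₂ := ⟨D, hloc, fun y hy hcc => hy (by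
    have hz : y ∈ center G := mem_center_iff.2 fun g => (mem_cc.1 (hcc ▸ mem_top g : g ∈ cc y)).eq
    rwa [comm_normal_eq_bot hO h2 (inferInstance : (center G).Normal)
      (fun p hp q _ => (mem_center_iff.1 hp q).symm), mem_bot] at hz)⟩
  by_cases hs : ∀ N : Subgroup G, N.Normal → N = ⊥ ∨ N = ⊤
  · haveI : Nontrivial G := by
      by_contra h
      rw [not_nontrivial_iff_subsingleton] at h
      exact e₁ (Subsingleton.elim _ _)
    exact Simp.false ⟨C, ⟨hs⟩, e₁, e₂⟩ hg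
  push_neg at hs
  obtain ⟨A, hA, hAb, hAt⟩ := hs
  obtain ⟨N, ⟨hNn, hNA, hNb⟩, hmin'⟩ := wellFounded_lt.has_min
    {N : Subgroup G | N.Normal ∧ N ≤ A ∧ N ≠ ⊥} ⟨A, hA, le_rfl, hAb⟩
  have hmin : ∀ B : Subgroup G, B.Normal → B ≤ N → B ≠ ⊥ → B = N := fun B hB hBN hBb =>
    hBN.eq_or_lt.resolve_right (hmin' B ⟨hB, hBN.trans hNA, hBb⟩)
  by_cases hT₂ : N ⊓ S₂ = ⊥
  · exact false_of_avoid D e₂ hO hloc h2 h₁ hNb hmin hT₂
  by_cases hT₁ : N ⊓ S₁ = ⊥
  · exact false_of_avoid D.symm e₁ hO hloc' h2 h₂ hNb hmin hT₁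
  have hNt : N ≠ ⊤ := fun e => hAt (top_le_iff.1 (e ▸ hNA))
  have hcl : ∀ S : Subgroup G, N ⊓ S ≠ ⊥ → closure {y : G | InR S y ∧ y ∈ N} = N := fun S hS => by
    refine hmin _ (closure_inR_normal S N) ((closure_le _).2 fun y hy => hy.2) fun e => hS ?_
    rw [eq_bot_iff, ← e]
    exact fun y hy => subset_closure ⟨InR.of_mem (mem_inf.1 hy).2, (mem_inf.1 hy).1⟩
  have hgen : closure {y : G | InR S₂ y ∧ y ∈ N} ≤
      centralizer (closure {y : G | InR S₁ y ∧ y ∈ N} : Set G) := by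
    refine (closure_le _).2 fun y hy => ?_
    rw [SetLike.mem_coe, centralizer_closure, mem_centralizer_iff]
    intro x hx
    have h := hloc N hNt x hx.2 y hy.2 hx.1 hy.1
    rw [core_eq_bot_of_normal hO N, mem_bot] at h
    exact commutatorElement_eq_one_iff_mul_comm.1 h
  rw [hcl S₁ hT₁, hcl S₂ hT₂] at hgen
  exact hNb (comm_normal_eq_bot hO h2 hNn fun p hp q hq => mem_centralizer_iff.1 (hgen hq) p hp)

/-- Elements fused into the two factors commute modulo the odd core. -/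
theorem stmt (hg : Gate.{u}) : Stmt.{u} := by
  intro G _ _
  induction hn : Nat.card G using Nat.strong_induction_on generalizing G with
  | _ n ih =>
  intro P S₁ S₂ D a b ha hb
  have ih' : Below.{u} (Nat.card G) := fun H _ _ hlt => ih _ (hn ▸ hlt) H rfl
  by_cases hO : Cfsg.oddCore G = ⊥
  · rw [commutatorElement_eq_one_iff_mul_comm.2 (commute_of_trivial_core hg D hO ih' ha hb).eq]
    exact one_mem _
  haveI : (Cfsg.oddCore G).Normal := FittingCores.pPrimeCore_normal 2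
  haveI : Fact (Nat.Prime 2) := ⟨Nat.prime_two⟩
  have hodd : Odd (Nat.card (Cfsg.oddCore G)) := SEBrick.oddCore_odd
  have D' := D.quotient (N := Cfsg.oddCore G) (Or.inl (Nat.coprime_two_right.2 hodd))
    fun x hx y hy hxy => by
      have hxyP : x⁻¹ * y ∈ (P : Subgroup G) := mul_mem (inv_mem (D.cl₁.1 hx)) (D.cl₂.1 hy)
      obtain ⟨k, hk⟩ := two_elt_of_mem P.2 hxyP
      have h1 : x⁻¹ * y = 1 := by
        have h := SEBrick.odd_order hodd hxy
        rw [hk] at h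
        rcases Nat.eq_zero_or_pos k with h0 | h0
        · exact orderOf_eq_one_iff.1 (by rw [hk, h0, pow_zero])
        · exact absurd (even_iff_two_dvd.2 (dvd_pow_self 2 h0.ne')) (Nat.not_even_iff_odd.2 h)
      rw [inv_mul_eq_one] at h1
      subst h1
      have hx' : x ∈ S₁ ⊓ S₂ := ⟨hx, hy⟩
      rw [D.disj, mem_bot] at hx'
      rw [hx']
      exact one_mem _
  have hq := ih' (G ⧸ Cfsg.oddCore G) (card_quotient_lt hO) _ _ _ D'
    (QuotientGroup.mk' _ a) (QuotientGroup.mk' _ b) (Pair.inR_map _ ha) (Pair.inR_map _ hb)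
  rw [show Cfsg.oddCore (G ⧸ Cfsg.oddCore G) = ⊥ from PBasic.pPrimeCore_quotient_pPrimeCore 2 G, mem_bot,
    ← map_commutatorElement] at hq
  exact (QuotientGroup.eq_one_iff _).1 hq

end Cfsg.Agent.CommPair
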