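import Cfsg.Agent.Lib.CommPair.Basic
import Cfsg.Agent.Lib.GW.InvolAction

/-!
Mixed balance: elements of odd cores which commute with both factors modulo the odd core of a centraliser.
-/

set_option autoImplicit false
set_option linter.unusedSectionVars false
set_option linter.style.haveILetI false

namespace Cfsg.Agent.CommPair

open Subgroup Cfsg.Agent.SylowSplit
open Cfsg.Agent.ClosedAbelian (core core_le core_odd core_normalized conj_mem_core sup_core_odd le_core)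
open scoped commutatorElement

universe u

variable {G : Type u} [Group G] [Finite G]

/-- The elements of `X` commuting with the involutions of `X` fused into `T`, modulo the odd core. -/
def ctr (X T : Subgroup G) : Subgroup G where
  carrier := {c | c ∈ X ∧ ∀ r ∈ X, r ∈ Invs T → ⁅c, r⁆ ∈ core X}
  one_mem' := ⟨one_mem X, fun r _ _ => by simp⟩
  mul_mem' {a b} ha hb := ⟨mul_mem ha.1 hb.1, fun r hr hrT => by
    rw [show ⁅a * b, r⁆ = a * ⁅b, r⁆ * a⁻¹ * ⁅a, r⁆ by simp only [commutatorElement_def]; group]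
    exact mul_mem (conj_mem_core ha.1 (hb.2 r hr hrT)) (ha.2 r hr hrT)⟩
  inv_mem' {a} ha := ⟨inv_mem ha.1, fun r hr hrT => by
    rw [show ⁅a⁻¹, r⁆ = a⁻¹ * ⁅a, r⁆⁻¹ * a⁻¹⁻¹ by simp only [commutatorElement_def]; group]
    exact conj_mem_core (inv_mem ha.1) (inv_mem (ha.2 r hr hrT))⟩

theorem mem_ctr {X T : Subgroup G} {c : G} :
    c ∈ ctr X T ↔ c ∈ X ∧ ∀ r ∈ X, r ∈ Invs T → ⁅c, r⁆ ∈ core X := Iff.rfl

theorem ctr_le (X T : Subgroup G) : ctr X T ≤ X := fun _ h => h.1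

theorem core_le_ctr (X T : Subgroup G) : core X ≤ ctr X T := fun c hc => ⟨core_le X hc, fun r hr _ => by
  rw [commutatorElement_def, show c * r * c⁻¹ * r⁻¹ = c * (r * c⁻¹ * r⁻¹) by group]
  exact mul_mem hc (conj_mem_core hr (inv_mem hc))⟩

theorem conj_mem_ctr {X T : Subgroup G} {g c : G} (hg : g ∈ X) (hc : c ∈ ctr X T) : g * c * g⁻¹ ∈ ctr X T := by
  refine ⟨mul_mem (mul_mem hg hc.1) (inv_mem hg), fun r hr hrT => ?_⟩
  have hr' : g⁻¹ * r * g ∈ Invs T := by simpa using Invs.conj hrT g⁻¹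
  have h := hc.2 (g⁻¹ * r * g) (mul_mem (mul_mem (inv_mem hg) hr) hg) hr'
  have h' := conj_mem_core hg h
  rwa [show g * ⁅c, g⁻¹ * r * g⁆ * g⁻¹ = ⁅g * c * g⁻¹, r⁆ by simp only [commutatorElement_def]; group] at h'

theorem normalized_ctr (X T : Subgroup G) : X ≤ normalizer (ctr X T : Set G) := fun g hg =>
  mem_normalizer_fintype fun _ hc => conj_mem_ctr hg hc

/-- An odd subgroup normalised by the centraliser of an involution, against a normal subgroup centralising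
that involution modulo the odd core. -/
theorem odd_inter {X L M : Subgroup G} {e : G} (heX : e ∈ X) (he : e * e = 1) (hL : L ≤ X)
    (hLn : X ≤ normalizer (L : Set G)) (hO : core X ≤ L) (hLe : ∀ l ∈ L, ⁅l, e⁆ ∈ core X)
    (hM : M ≤ X) (hMo : ¬ 2 ∣ Nat.card M) (hMn : X ⊓ cc e ≤ normalizer (M : Set G)) :
    (∀ d ∈ M, ∀ l ∈ L, ⁅d, l⁆ ∈ core X) ∧ M ⊓ L ≤ core X := by
  haveI : Fact (Nat.Prime 2) := ⟨Nat.prime_two⟩
  set O := core X with hOdef
  have hOo : Odd (Nat.card O) := by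
    rw [← Nat.not_even_iff_odd, even_iff_two_dvd]
    exact core_odd X
  have hMO : L ≤ normalizer ((M ⊔ O : Subgroup G) : Set G) := by
    intro l hl
    have h1 := hLe l⁻¹ (inv_mem hl)
    rw [commutatorElement_def, inv_inv, inv_eq_of_mul_eq_one_right he,
      show l⁻¹ * e * l * e = l⁻¹ * (e * l * e) by group] at h1
    obtain ⟨k, hk, hlk⟩ := GW.exists_cent_mul hOo he h1
    have hkX : k ∈ X := core_le X hk
    have hc : l * k ∈ X ⊓ cc e :=
      mem_inf.2 ⟨mul_mem (hL hl) hkX, mem_cc.2 hlk.symm⟩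
    have hn : l * k ∈ normalizer ((M ⊔ O : Subgroup G) : Set G) :=
      normalizer_inf_normalizer_le_normalizer_sup M O
        (mem_inf.2 ⟨hMn hc, core_normalized X (mem_inf.1 hc).1⟩)
    have hkn : k ∈ normalizer ((M ⊔ O : Subgroup G) : Set G) := le_normalizer (mem_sup_right hk)
    simpa using mul_mem hn (inv_mem hkn)
  have key : (M ⊔ O) ⊓ L ≤ O := by
    set D := (M ⊔ O) ⊓ L with hD
    have hDo : ¬ 2 ∣ Nat.card D := fun h => sup_core_odd hM hMo (h.trans (card_dvd_of_le inf_le_left))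
    have hDn : L ≤ normalizer (D : Set G) :=
      (le_inf hMO le_normalizer).trans inf_normalizer_le_normalizer_inf
    have hDc : D ≤ core L := le_core inf_le_right hDn hDo
    exact hDc.trans (le_core ((core_le L).trans hL)
      (hLn.trans (ClosedAbelian.normalizer_le_normalizer_core L)) (core_odd L))
  refine ⟨fun d hd l hl => key (mem_inf.2 ⟨?_, ?_⟩), fun x hx => key ⟨mem_sup_left hx.1, hx.2⟩⟩
  · rw [commutatorElement_def, show d * l * d⁻¹ * l⁻¹ = d * (l * d⁻¹ * l⁻¹) by group]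
    exact mul_mem (mem_sup_left hd) ((mem_normalizer_iff.1 (hMO hl) _).1 (inv_mem (mem_sup_left hd)))
  · exact mul_mem ((mem_normalizer_iff.1 (hLn (hM hd)) l).1 hl) (inv_mem hl)

/-- The standing hypotheses: a pair, the conclusion for the proper subgroups, and no central element. -/
structure Ctx (P : Sylow 2 G) (S₁ S₂ : Subgroup G) : Prop where
  pair : Pair P S₁ S₂
  loc : Local S₁ S₂
  proper : ∀ y : G, y ≠ 1 → cc y ≠ ⊤

variable {P : Sylow 2 G} {S₁ S₂ : Subgroup G}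

namespace Ctx

theorem symm (C : Ctx P S₁ S₂) : Ctx P S₂ S₁ :=
  ⟨C.pair.symm, fun X hX a ha b hb h₁ h₂ => by
    rw [← commutatorElement_inv]
    exact inv_mem (C.loc X hX b hb a ha h₂ h₁), C.proper⟩

theorem cc_ne_top (C : Ctx P S₁ S₂) {a : G} (ha : orderOf a = 2) : cc a ≠ ⊤ := C.proper a (Invol.ne_one ha)

/-- The involutions of one kind commute modulo the odd core with those of the other. -/
theorem invs_le_ctr (C : Ctx P S₁ S₂) {X : Subgroup G} (hX : X ≠ ⊤) {r : G} (hr : r ∈ Invs S₂) (hrX : r ∈ X) :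
    r ∈ ctr X S₁ :=
  ⟨hrX, fun a ha haT => by rw [← commutatorElement_inv]; exact inv_mem (C.loc X hX a ha r hrX haT.2 hr.2)⟩

/-- A commutator with an involution of one kind commutes with the other kind modulo the odd core. -/
theorem commutator_mem_ctr (C : Ctx P S₁ S₂) {X : Subgroup G} (hX : X ≠ ⊤) {r y : G} (hr : r ∈ Invs S₂)
    (hrX : r ∈ X) (hy : y ∈ X) : ⁅y, r⁆ ∈ ctr X S₁ := by
  have h := C.invs_le_ctr hX hr hrX
  exact mul_mem (conj_mem_ctr hy h) (inv_mem h)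

/-- An odd subgroup normalised by the centraliser of a member of the first kind centralises the second
kind modulo the odd core. -/
theorem le_ctr_of_normalized (C : Ctx P S₁ S₂) {X M : Subgroup G} (hX : X ≠ ⊤) {a : G} (ha : a ∈ Invs S₁)
    (haX : a ∈ X) (hM : M ≤ X) (hMo : ¬ 2 ∣ Nat.card M) (hMn : X ⊓ cc a ≤ normalizer (M : Set G)) :
    M ≤ ctr X S₂ := fun d hd => ⟨hM hd, fun r hr hrT =>
  (odd_inter haX (Invol.mul_self ha.1) (ctr_le X S₁) (normalized_ctr X S₁) (core_le_ctr X S₁)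
    (fun _ hl => hl.2 a haX ha) hM hMo hMn).1 d hd r (C.invs_le_ctr hX hrT hr)⟩

theorem core_inf_normalized (X : Subgroup G) (a : G) :
    X ⊓ cc a ≤ normalizer ((core (cc a) ⊓ X : Subgroup G) : Set G) :=
  (le_inf (inf_le_right.trans (core_normalized _)) (inf_le_left.trans le_normalizer)).trans
    inf_normalizer_le_normalizer_inf

/-- An element of the core at `a` in `X` commuting with the second kind modulo the odd core. -/
theorem core_le_ctr_side (C : Ctx P S₁ S₂) {X : Subgroup G} (hX : X ≠ ⊤) {a : G} (ha : a ∈ Invs S₁)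
    (haX : a ∈ X) : core (cc a) ⊓ X ≤ ctr X S₂ :=
  C.le_ctr_of_normalized hX ha haX inf_le_right
    (fun h => core_odd _ (h.trans (card_dvd_of_le inf_le_left))) (core_inf_normalized X a)

/-- The criterion. -/
theorem mem_core (C : Ctx P S₁ S₂) {X : Subgroup G} {a b : G} (haX : a ∈ X) (hbX : b ∈ X)
    (ha : a = 1 ∨ a ∈ Invs S₁) (hb : b = 1 ∨ b ∈ Invs S₂) (hab : Commute a b) {x : G}
    (hx : x ∈ core (cc (a * b))) (h₁ : x ∈ ctr X S₁) (h₂ : x ∈ ctr X S₂) : x ∈ core X := by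
  have hsq : ∀ {T : Subgroup G} {y : G}, (y = 1 ∨ y ∈ Invs T) → y * y = 1 := by
    rintro T y (rfl | hy)
    · rw [one_mul]
    · exact Invol.mul_self hy.1
  refine (odd_inter (L := ctr X S₁ ⊓ ctr X S₂) (M := core (cc (a * b)) ⊓ X) (mul_mem haX hbX) ?_
    (inf_le_left.trans (ctr_le _ _))
    ((le_inf (normalized_ctr X S₁) (normalized_ctr X S₂)).trans inf_normalizer_le_normalizer_inf)
    (le_inf (core_le_ctr X S₁) (core_le_ctr X S₂)) (fun l hl => ?_) inf_le_right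
    (fun h => core_odd _ (h.trans (card_dvd_of_le inf_le_left))) (core_inf_normalized X _)).2
    (mem_inf.2 ⟨mem_inf.2 ⟨hx, h₁.1⟩, mem_inf.2 ⟨h₁, h₂⟩⟩)
  · rw [show a * b * (a * b) = a * (b * a) * b by group, ← hab.eq,
      show a * (a * b) * b = a * a * (b * b) by group, hsq ha, hsq hb, one_mul]
  · obtain ⟨hl1, hl2⟩ := mem_inf.1 hl
    have hla : ⁅l, a⁆ ∈ core X := by
      rcases ha with rfl | ha
      · simp
      · exact hl1.2 a haX ha
    have hlb : ⁅l, b⁆ ∈ core X := by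
      rcases hb with rfl | hb
      · simp
      · exact hl2.2 b hbX hb
    rw [show ⁅l, a * b⁆ = ⁅l, a⁆ * (a * ⁅l, b⁆ * a⁻¹) by simp only [commutatorElement_def]; group]
    exact mul_mem hla (conj_mem_core haX hlb)

/-- Mixed balance. -/
theorem balance (C : Ctx P S₁ S₂) {a b c : G} (ha : a ∈ Invs S₁) (hb : b ∈ Invs S₂) (hc : c ≠ 1)
    (hca : Commute c a) (hcb : Commute c b) : F a b ⊓ cc c ≤ core (cc c) := by
  intro x hx
  obtain ⟨hxF, hxc⟩ := mem_inf.1 hx
  obtain ⟨hxa, hxb⟩ := mem_inf.1 hxF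
  have hX := C.proper c hc
  refine C.mem_core (a := a) (b := 1) (mem_cc.2 hca.symm) (one_mem _) (Or.inr ha) (Or.inl rfl)
    (Commute.one_right _) (by rwa [mul_one]) ?_ ?_
  · exact C.symm.core_le_ctr_side hX hb (mem_cc.2 hcb.symm) (mem_inf.2 ⟨hxb, hxc⟩)
  · exact C.core_le_ctr_side hX ha (mem_cc.2 hca.symm) (mem_inf.2 ⟨hxa, hxc⟩)

/-- A commutator with the second kind lies in the core at a member of the second kind. -/
theorem commutator_mem (C : Ctx P S₁ S₂) {a b k y : G} (ha : a ∈ Invs S₁) (hb : b ∈ Invs S₂)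
    (hk : k ∈ Invs S₂) (hab : Commute a b) (hka : Commute k a) (hkb : Commute k b) (hy : y ∈ core (cc a))
    (hyb : Commute y b) : ⁅y, k⁆ ∈ F a b := by
  have hX := C.cc_ne_top hb.1
  have hxa : ⁅y, k⁆ ∈ core (cc a) := by
    rw [commutatorElement_def, show y * k * y⁻¹ * k⁻¹ = y * (k * y⁻¹ * k⁻¹) by group]
    exact mul_mem hy (conj_mem_core (mem_cc.2 hka) (inv_mem hy))
  refine mem_inf.2 ⟨hxa, C.mem_core (a := a) (b := 1) (mem_cc.2 hab) (one_mem _) (Or.inr ha) (Or.inl rfl)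
    (Commute.one_right _) (by rwa [mul_one]) (C.commutator_mem_ctr hX hk (mem_cc.2 hkb) (mem_cc.2 hyb)) ?_⟩
  refine C.core_le_ctr_side hX ha (mem_cc.2 hab) (mem_inf.2 ⟨hxa, ?_⟩)
  exact mul_mem (mul_mem (mul_mem (mem_cc.2 hyb) (mem_cc.2 hkb)) (inv_mem (mem_cc.2 hyb)))
    (inv_mem (mem_cc.2 hkb))

/-- A commutator which comes from both kinds lies in both cores. -/
theorem commutator_mem_both (C : Ctx P S₁ S₂) {a b a' b' k₁ k₂ y : G} (ha : a = 1 ∨ a ∈ Invs S₁)
    (hb : b = 1 ∨ b ∈ Invs S₂) (hab : Commute a b) (ha' : a' ∈ Invs S₁) (hb' : b' ∈ Invs S₂)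
    (hk₁ : k₁ ∈ Invs S₁) (hk₂ : k₂ ∈ Invs S₂) (hy : y ∈ core (cc (a * b)))
    (hk : Commute k₁ (a * b)) (he : ⁅y, k₁⁆ = ⁅y, k₂⁆)
    (hA : ∀ c ∈ ({a, b, k₁, k₂, y} : Set G), Commute c a' ∧ Commute c b') : ⁅y, k₁⁆ ∈ F a' b' := by
  have hxe : ⁅y, k₁⁆ ∈ core (cc (a * b)) := by
    rw [commutatorElement_def, show y * k₁ * y⁻¹ * k₁⁻¹ = y * (k₁ * y⁻¹ * k₁⁻¹) by group]
    exact mul_mem hy (conj_mem_core (mem_cc.2 hk) (inv_mem hy))
  have key : ∀ c, orderOf c = 2 → (∀ z ∈ ({a, b, k₁, k₂, y} : Set G), Commute z c) → ⁅y, k₁⁆ ∈ core (cc c) := by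
    intro c hc hcA
    have hX := C.cc_ne_top hc
    refine C.mem_core (mem_cc.2 (hcA a (by simp))) (mem_cc.2 (hcA b (by simp))) ha hb hab hxe ?_ ?_
    · rw [he]
      exact C.commutator_mem_ctr hX hk₂ (mem_cc.2 (hcA k₂ (by simp))) (mem_cc.2 (hcA y (by simp)))
    · exact C.symm.commutator_mem_ctr hX hk₁ (mem_cc.2 (hcA k₁ (by simp))) (mem_cc.2 (hcA y (by simp)))
  exact mem_inf.2 ⟨key a' ha'.1 fun z hz => (hA z hz).1, key b' hb'.1 fun z hz => (hA z hz).2⟩

end Ctx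

theorem F_comm (a b : G) : F a b = F b a := inf_comm _ _

end Cfsg.Agent.CommPair
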