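import Cfsg.Agent.Lib.ClosedAbelian.Basic
import Cfsg.Agent.Lib.ProdFusion.Basic
import Cfsg.Agent.Lib.Involutions.Basic
import Cfsg.Agent.Lib.Functors.ClosedZJ
import Cfsg.Prelude.Def_TwoFusion

/-!
Two commuting strongly closed 2-subgroups meeting trivially: the elements fused into them, restriction to
subgroups and passage to quotients.
-/

set_option autoImplicit false
set_option linter.unusedSectionVars false
set_option linter.style.haveILetI false

namespace Cfsg.Agent.CommPair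

open Subgroup Cfsg.Agent.SylowSplit
open Cfsg.Agent.ClosedAbelian (core)
open scoped commutatorElement

universe u

variable {G : Type u} [Group G] [Finite G]

/-- Two commuting strongly closed subgroups meeting trivially. -/
structure Pair (P : Sylow 2 G) (S₁ S₂ : Subgroup G) : Prop where
  cl₁ : Cfsg.IsStronglyClosed S₁ (P : Subgroup G)
  cl₂ : Cfsg.IsStronglyClosed S₂ (P : Subgroup G)
  comm : ∀ a ∈ S₁, ∀ b ∈ S₂, Commute a b
  disj : S₁ ⊓ S₂ = ⊥

/-- The involutions fused into `T`. -/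
def Invs (T : Subgroup G) : Set G := {y | orderOf y = 2 ∧ InR T y}

/-- The centraliser of an element. -/
def cc (a : G) : Subgroup G := centralizer ({a} : Set G)

theorem mem_cc {a x : G} : x ∈ cc a ↔ Commute x a := mem_centralizer_singleton_iff

/-- The common part of the odd cores of two centralisers. -/
def F (a b : G) : Subgroup G := core (cc a) ⊓ core (cc b)

/-- The conclusion for the proper subgroups: fused elements commute modulo the odd core. -/
def Local (S₁ S₂ : Subgroup G) : Prop :=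
  ∀ X : Subgroup G, X ≠ ⊤ → ∀ a ∈ X, ∀ b ∈ X, InR S₁ a → InR S₂ b → ⁅a, b⁆ ∈ core X

theorem Invs.conj {T : Subgroup G} {a : G} (h : a ∈ Invs T) (g : G) : g * a * g⁻¹ ∈ Invs T :=
  ⟨(Invol.order_conj g a).trans h.1, h.2.conj g⟩

variable {P : Sylow 2 G}

theorem mem_of {T : Subgroup G} (hT : Cfsg.IsStronglyClosed T (P : Subgroup G)) {y : G}
    (hy : y ∈ (P : Subgroup G)) (h : InR T y) : y ∈ T := by
  obtain ⟨g, hg⟩ := h
  have h1 := hT.2 _ hg g⁻¹ (by rwa [show g⁻¹ * (g * y * g⁻¹) * g⁻¹⁻¹ = y by group])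
  rwa [show g⁻¹ * (g * y * g⁻¹) * g⁻¹⁻¹ = y by group] at h1

theorem two_elt {T : Subgroup G} (hT : Cfsg.IsStronglyClosed T (P : Subgroup G)) {y : G} (h : InR T y) :
    ∃ k, orderOf y = 2 ^ k := by
  obtain ⟨g, hg⟩ := h
  obtain ⟨k, hk⟩ := two_elt_of_mem P.2 (hT.1 hg)
  exact ⟨k, by rwa [BrauerSuzuki.orderOf_conj_eq] at hk⟩

/-- Inside a 2-group the fused elements are closed under multiplication. -/
theorem inR_mul {T Q : Subgroup G} (hT : Cfsg.IsStronglyClosed T (P : Subgroup G)) (hQ : IsPGroup 2 Q)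
    {a b : G} (ha : a ∈ Q) (hb : b ∈ Q) (h1 : InR T a) (h2 : InR T b) : InR T (a * b) := by
  obtain ⟨k, hk⟩ := exists_conj_le P hQ
  refine ⟨k, ?_⟩
  rw [show k * (a * b) * k⁻¹ = k * a * k⁻¹ * (k * b * k⁻¹) by group]
  exact mul_mem (mem_of hT (hk a ha) (h1.conj k)) (mem_of hT (hk b hb) (h2.conj k))

/-- Two commuting different involutions fused into `T` have a product fused into `T`. -/
theorem invol_mul {T : Subgroup G} (hT : Cfsg.IsStronglyClosed T (P : Subgroup G)) {a b : G}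
    (ha : a ∈ Invs T) (hb : b ∈ Invs T) (hc : Commute a b) (hne : a ≠ b) : a * b ∈ Invs T := by
  refine ⟨Invol.order_two_of_sq ?_ ?_, inR_mul hT ?_ (mem_sup_left (mem_zpowers a))
    (mem_sup_right (mem_zpowers b)) ha.2 hb.2⟩
  · rw [show a * b * (a * b) = a * (b * a) * b by group, ← hc.eq,
      show a * (a * b) * b = a * a * (b * b) by group, Invol.mul_self ha.1, Invol.mul_self hb.1, one_mul]
  · exact fun h => hne ((mul_eq_one_iff_eq_inv.1 h).trans (Invol.inv_self hb.1))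
  · exact pGroup_pair ⟨1, by rw [ha.1, pow_one]⟩ ⟨1, by rw [hb.1, pow_one]⟩
      (by rw [hc.eq, mul_inv_cancel_right]; exact mem_zpowers b)

/-- Two involutions fused into `T` are conjugate, or a third one commutes with both. -/
theorem dihedral {T : Subgroup G} (hT : Cfsg.IsStronglyClosed T (P : Subgroup G)) {a c : G}
    (ha : a ∈ Invs T) (hc : c ∈ Invs T) :
    (∃ d ∈ closure ({a, c} : Set G), d * a * d⁻¹ = c) ∨
      ∃ w ∈ Invs T, w ∈ closure ({a, c} : Set G) ∧ Commute w a ∧ Commute w c := by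
  rcases (orderOf (a * c)).even_or_odd with hev | hodd
  swap
  · exact Or.inl (Invol.conj_of_odd ha.1 hc.1 hodd)
  refine Or.inr ?_
  obtain ⟨y, w, b, hgx, -, hyb, hb, hwy, -, hwo, hpg⟩ := ProdFusion.involution_product ha.1 hc.1
  have hy1 : y ≠ 1 := fun h => by
    rw [hgx, h, one_mul] at hev
    exact Nat.not_even_iff_odd.2 hwo hev
  have hyQ : y ∈ zpowers a ⊔ zpowers y := mem_sup_right (mem_zpowers y)
  have haQ : a ∈ zpowers a ⊔ zpowers y := mem_sup_left (mem_zpowers a)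
  have hbQ : b ∈ zpowers a ⊔ zpowers y := by
    rw [show b = a⁻¹ * y by rw [hyb]; group]
    exact mul_mem (inv_mem haQ) hyQ
  obtain ⟨d, hd⟩ := isConj_iff.1 hb
  have hbR : InR T b := hd ▸ hc.2.conj d
  have hb2 : b * b = 1 := by
    rw [← hd, show d * c * d⁻¹ * (d * c * d⁻¹) = d * (c * c) * d⁻¹ by group, Invol.mul_self hc.1]
    group
  have hyR : InR T y := hyb ▸ inR_mul hT hpg haQ hbQ ha.2 hbR
  obtain ⟨j, hj⟩ := two_elt hT hyR
  have hj1 : 1 ≤ j := Nat.one_le_iff_ne_zero.2 fun e => hy1 (orderOf_eq_one_iff.1 (by rw [hj, e, pow_zero]))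
  have hinv : a * y * a⁻¹ = y⁻¹ := by
    rw [hyb, mul_inv_rev, show a * (a * b) * a⁻¹ = a * a * b * a⁻¹ by group, Invol.mul_self ha.1, one_mul,
      show b⁻¹ = b from inv_eq_of_mul_eq_one_right hb2]
  have hacC : a * c ∈ closure ({a, c} : Set G) :=
    mul_mem (subset_closure (Set.mem_insert _ _)) (subset_closure (Set.mem_insert_of_mem _ rfl))
  have hyC : y ∈ closure ({a, c} : Set G) := zpowers_le.2 hacC (by
    -- `y` is the 2-part of `a * c`
    obtain ⟨l, hl⟩ := Nat.chineseRemainder (n := 2 ^ j) (m := orderOf w)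
      ((Nat.coprime_two_left.2 hwo).pow_left j) 1 0
    refine mem_zpowers_iff.2 ⟨(l : ℤ), ?_⟩
    rw [zpow_natCast, hgx, (hwy.symm).mul_pow]
    have h1 : y ^ l = y := by
      nth_rewrite 2 [← pow_one y]
      rw [pow_eq_pow_iff_modEq, hj]; exact hl.1
    have h2 : w ^ l = 1 := orderOf_dvd_iff_pow_eq_one.1 (Nat.modEq_zero_iff_dvd.1 hl.2)
    rw [h1, h2, mul_one])
  set v := y ^ 2 ^ (j - 1) with hv
  have hv2 : orderOf v = 2 := by
    rw [hv, orderOf_pow_of_dvd (by positivity) (by rw [hj]; exact pow_dvd_pow 2 (by omega)), hj,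
      Nat.pow_div (by omega) two_pos, show j - (j - 1) = 1 by omega, pow_one]
  have hav : Commute v a := by
    have h : a * v * a⁻¹ = v := by
      rw [hv, ← conj_pow, hinv, inv_pow]
      exact Invol.inv_self hv2
    exact (mul_inv_eq_iff_eq_mul.1 h).symm
  have hvac : Commute v (a * c) := by
    rw [hgx]
    exact ((Commute.pow_self y _).mul_right (hwy.symm.pow_left _))
  have hvR : InR T v := by
    have hall : ∀ n : ℕ, InR T (y ^ n) := fun n => by
      induction n with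
      | zero => rw [pow_zero]; exact InR.of_mem (one_mem T)
      | succ n ih => rw [pow_succ]; exact inR_mul hT hpg (pow_mem hyQ n) hyQ ih hyR
    exact hall _
  refine ⟨v, ⟨hv2, hvR⟩, pow_mem hyC _, hav, ?_⟩
  have h := hav.mul_right hvac
  rwa [← mul_assoc, Invol.mul_self ha.1, one_mul] at h

namespace Pair

variable {S₁ S₂ : Subgroup G}

theorem symm (D : Pair P S₁ S₂) : Pair P S₂ S₁ :=
  ⟨D.cl₂, D.cl₁, fun a ha b hb => (D.comm b hb a ha).symm, by rw [inf_comm]; exact D.disj⟩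

theorem eq_one (D : Pair P S₁ S₂) {y : G} (h₁ : InR S₁ y) (h₂ : InR S₂ y) : y = 1 := by
  obtain ⟨g, hg⟩ := h₁
  have h : g * y * g⁻¹ ∈ S₁ ⊓ S₂ := mem_inf.2 ⟨hg, mem_of D.cl₂ (D.cl₁.1 hg) (h₂.conj g)⟩
  rw [D.disj, mem_bot] at h
  exact conj_eq_one_iff.1 h

/-- Elements fused into different factors commute inside a 2-group. -/
theorem commute (D : Pair P S₁ S₂) {Q : Subgroup G} (hQ : IsPGroup 2 Q) {a b : G} (ha : a ∈ Q) (hb : b ∈ Q)
    (h₁ : InR S₁ a) (h₂ : InR S₂ b) : Commute a b := by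
  obtain ⟨k, hk⟩ := exists_conj_le P hQ
  have h := (D.comm _ (mem_of D.cl₁ (hk a ha) (h₁.conj k)) _ (mem_of D.cl₂ (hk b hb) (h₂.conj k))).map
    (MulAut.conj k⁻¹).toMonoidHom
  simpa [mul_assoc] using h

/-- The part of the pair in a subgroup. -/
theorem restrict (D : Pair P S₁ S₂) {X : Subgroup G} (T : Sylow 2 X) :
    ∃ T₁ T₂ : Subgroup X, Pair T T₁ T₂ ∧ (∀ y : X, InR S₁ (y : G) → InR T₁ y) ∧
      (∀ y : X, InR S₂ (y : G) → InR T₂ y) := by
  haveI : Fact (Nat.Prime 2) := ⟨Nat.prime_two⟩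
  obtain ⟨k, hk⟩ := exists_conj_le P (T.2.map X.subtype)
  set φ : X →* G := (MulAut.conj k).toMonoidHom.comp X.subtype
  have hφ : ∀ y : X, φ y = k * (y : G) * k⁻¹ := fun y => rfl
  have hin : ∀ (R : Subgroup G), Cfsg.IsStronglyClosed R (P : Subgroup G) →
      Cfsg.IsStronglyClosed ((T : Subgroup X) ⊓ R.comap φ) (T : Subgroup X) ∧
        ∀ y : X, InR R (y : G) → InR ((T : Subgroup X) ⊓ R.comap φ) y := by
    intro R hR
    refine ⟨⟨inf_le_left, fun x hx g hg => mem_inf.2 ⟨hg, ?_⟩⟩, fun y hy => ?_⟩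
    · rw [mem_comap, hφ]
      refine mem_of hR (hk _ ⟨_, hg, rfl⟩) (InR.conj ?_ k)
      have h1 : InR R ((x : X) : G) := ⟨k, (mem_inf.1 hx).2⟩
      simpa using h1.conj (g : G)
    · obtain ⟨c, hc⟩ := exists_conj_mem T (x := y) (by
        obtain ⟨i, hi⟩ := two_elt hR hy
        exact ⟨i, by rw [← Subgroup.orderOf_coe]; exact hi⟩)
      refine ⟨c, mem_inf.2 ⟨hc, ?_⟩⟩
      rw [mem_comap, hφ]
      refine mem_of hR (hk _ ⟨_, hc, rfl⟩) (InR.conj ?_ k)
      simpa using hy.conj (c : G)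
  obtain ⟨h1, h1'⟩ := hin S₁ D.cl₁
  obtain ⟨h2, h2'⟩ := hin S₂ D.cl₂
  refine ⟨_, _, ⟨h1, h2, fun a ha b hb => ?_, ?_⟩, h1', h2'⟩
  · refine Subtype.ext ?_
    have h := (D.comm _ (mem_inf.1 ha).2 _ (mem_inf.1 hb).2).map (MulAut.conj k⁻¹).toMonoidHom
    simpa [hφ, mul_assoc, Commute, SemiconjBy] using h
  · rw [eq_bot_iff]
    intro x hx
    have : φ x ∈ S₁ ⊓ S₂ := mem_inf.2 ⟨(mem_inf.1 (mem_inf.1 hx).1).2, (mem_inf.1 (mem_inf.1 hx).2).2⟩
    rw [D.disj, mem_bot, hφ, conj_eq_one_iff] at this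
    exact mem_bot.2 (Subtype.ext this)

theorem inR_map {H : Type u} [Group H] (f : G →* H) {R : Subgroup G} {y : G} (h : InR R y) :
    InR (R.map f) (f y) := by
  obtain ⟨g, hg⟩ := h
  exact ⟨f g, _, hg, by simp⟩

/-- The image in a quotient. -/
theorem quotient (D : Pair P S₁ S₂) {N : Subgroup G} [N.Normal]
    (hN : (Nat.card N).Coprime 2 ∨ N ≤ (P : Subgroup G))
    (hd : ∀ a ∈ S₁, ∀ b ∈ S₂, a⁻¹ * b ∈ N → a ∈ N) :
    Pair (P.mapSurjective (QuotientGroup.mk'_surjective N)) (S₁.map (QuotientGroup.mk' N))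
      (S₂.map (QuotientGroup.mk' N)) := by
  haveI : Fact (Nat.Prime 2) := ⟨Nat.prime_two⟩
  refine ⟨ClosedZJ.stronglyClosed_map P D.cl₁ hN, ClosedZJ.stronglyClosed_map P D.cl₂ hN, ?_, ?_⟩
  · rintro _ ⟨a, ha, rfl⟩ _ ⟨b, hb, rfl⟩
    exact (D.comm a ha b hb).map _
  · rw [eq_bot_iff]
    rintro _ ⟨⟨a, ha, rfl⟩, b, hb, he⟩
    exact mem_bot.2 ((QuotientGroup.eq_one_iff a).2 (hd a ha b hb (QuotientGroup.eq.1 he.symm)))

end Pair

end Cfsg.Agent.CommPair
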