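import Cfsg.Agent.Lib.GoldStruct.Main
import Cfsg.Agent.Lib.SEMain.Proof
import Cfsg.Agent.Lib.ClosedAbelian.Basic

/-!
Odd elements centralising a Sylow 2-subgroup of a simple group with a strongly embedded subgroup, and 2-elements
centralising an abelian Sylow 2-subgroup of a simple group with a strongly closed one.
-/

set_option autoImplicit false
set_option linter.unusedSectionVars false
set_option linter.style.haveILetI false

namespace Cfsg.Agent.CommPair

open Subgroup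
open Cfsg.Agent.ClosedAbelian (TwoEl)

universe u

variable {G : Type u} [Group G] [Finite G]

/-- An odd element centralising a Sylow 2-subgroup centralises the whole. -/
theorem centralizes_of_se (K : Subgroup G) (hs : IsSimpleGroup K) {H : Subgroup K}
    (hse : Cfsg.IsStronglyEmbedded H) (T : Sylow 2 K) {w : G} (hwo : Odd (orderOf w))
    (hn : w ∈ normalizer (K : Set G)) (hwT : ∀ t ∈ (T : Subgroup K), Commute w (t : G)) :
    w ∈ centralizer (K : Set G) := by
  haveI : Fact (Nat.Prime 2) := ⟨Nat.prime_two⟩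
  haveI := hs
  obtain ⟨R, hR⟩ := SEMain.exists_reg_simple SEMain.stmt hse
  have hRidx : ¬ 2 ∣ R.index := by
    have h1 := (hR.odd_index hse).mul (SEMain.index_odd hse)
    rw [show (R.subgroupOf H).index = R.relIndex H from rfl, relIndex_mul_index hR.le] at h1
    exact fun h => Nat.not_even_iff_odd.2 h1 (even_iff_two_dvd.2 h)
  obtain ⟨k₀, hk₀⟩ := MulAction.exists_smul_eq K T (hR.two.toSylow hRidx)
  -- the conjugate centralising the regular subgroup
  set v := (k₀ : G) * w * (k₀ : G)⁻¹ with hv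
  have hvn : v ∈ normalizer (K : Set G) :=
    mul_mem (mul_mem (Subgroup.le_normalizer k₀.2) hn) (inv_mem (Subgroup.le_normalizer k₀.2))
  have hvo : Odd (orderOf v) := by rwa [hv, Invol.order_conj]
  have hvR : ∀ q ∈ R, Commute v (q : G) := by
    intro q hq
    have hq' : q ∈ ((k₀ • T : Sylow 2 K) : Subgroup K) := by rw [hk₀]; exact hq
    obtain ⟨t, ht, rfl⟩ := hq'
    exact (hwT t ht).map (MulAut.conj (k₀ : G)).toMonoidHom
  suffices hvc : v ∈ centralizer (K : Set G) by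
    refine mem_centralizer_iff.2 fun x hx => ?_
    have h := mem_centralizer_iff.1 hvc ((k₀ : G) * x * (k₀ : G)⁻¹)
      (mul_mem (mul_mem k₀.2 hx) (inv_mem k₀.2))
    rw [hv] at h
    calc x * w = (k₀ : G)⁻¹ * ((k₀ : G) * x * (k₀ : G)⁻¹ * ((k₀ : G) * w * (k₀ : G)⁻¹)) * k₀ := by group
      _ = w * x := by rw [h]; group
  set N₀ := normalizer ((R.map K.subtype : Subgroup G) : Set G) with hN₀
  have hmemH : ∀ x : K, (x : G) ∈ N₀ ↔ x ∈ H := by
    intro x
    constructor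
    · intro hx
      obtain ⟨q, hq, hq2⟩ := Invol.exists_invol (K := R) (by
        obtain ⟨t, htH, ht⟩ := Invol.exists_invol hse.2.1
        exact Invol.even_of_invol_mem ht (hR.invol_mem hse htH ht))
      obtain ⟨q', hq', he⟩ := (mem_normalizer_iff.1 hx (q : G)).1 ⟨q, hq, rfl⟩
      refine Invol.se_mem_of_conj hse hq2 (hR.le hq) ?_
      rw [show x * q * x⁻¹ = q' from Subtype.ext he.symm]
      exact hR.le hq'
    · intro hx
      refine mem_normalizer_fintype fun y hy => ?_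
      obtain ⟨q, hq, rfl⟩ := hy
      exact ⟨x * q * x⁻¹, hR.conj_mem hx hq, rfl⟩
  have hvN : v ∈ N₀ := mem_normalizer_fintype fun y hy => by
    obtain ⟨q, hq, rfl⟩ := hy
    refine ⟨q, hq, ?_⟩
    show (q : G) = v * (q : G) * v⁻¹
    rw [(hvR q hq).eq, mul_inv_cancel_right]
  have hconjH : ∀ {z : G}, z ∈ N₀ → z ∈ normalizer (K : Set G) → ∀ {x : G}, x ∈ N₀ → x ∈ K →
      z * x * z⁻¹ ∈ N₀ ∧ z * x * z⁻¹ ∈ K := fun hz hz' _ hx hx' =>
    ⟨mul_mem (mul_mem hz hx) (inv_mem hz), (mem_normalizer_iff.1 hz' _).1 hx'⟩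
  have key : ∀ k : K, (k : G)⁻¹ * v * k ∈ N₀ := by
    intro k
    by_cases hk : k ∈ H
    · exact mul_mem (mul_mem (inv_mem ((hmemH k).2 hk)) hvN) ((hmemH k).2 hk)
    set k' : K := ⟨v * k * v⁻¹, (mem_normalizer_iff.1 hvn _).1 k.2⟩ with hk'
    have hk'H : k' ∉ H := fun h => hk ((hmemH k).1 (by
      have h' := (hconjH (inv_mem hvN) (inv_mem hvn) ((hmemH k').2 h) k'.2).1
      simpa [hk', mul_assoc] using h'))
    obtain ⟨q, hq, hqe⟩ := hR.trans k k' hk hk'H
    have h1 : (k : G)⁻¹ * (v⁻¹ * q) * k ∈ N₀ := by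
      have h := mul_mem (inv_mem hvN) ((hmemH _).2 hqe)
      simpa [hk', mul_assoc] using h
    have hc : Commute v⁻¹ (q : G) := (hvR q hq).inv_left
    have h2 := pow_mem h1 (orderOf v)
    have e : ((k : G)⁻¹ * (v⁻¹ * (q : G)) * k) ^ orderOf v = (k : G)⁻¹ * (q : G) ^ orderOf v * k := by
      have h := conj_pow (a := (k : G)⁻¹) (b := v⁻¹ * (q : G)) (i := orderOf v)
      rw [inv_inv] at h
      rw [h, hc.mul_pow, inv_pow, pow_orderOf_eq_one, inv_one, one_mul]
    rw [e] at h2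
    have hq1 : q ^ orderOf v = 1 := by
      refine hR.reg k hk _ (pow_mem hq _) ((hmemH _).1 ?_)
      simpa [mul_assoc] using h2
    have hq0 : q = 1 := by
      obtain ⟨j, hj⟩ := IsPGroup.iff_orderOf.1 hR.two ⟨q, hq⟩
      rw [Subgroup.orderOf_mk] at hj
      exact orderOf_eq_one_iff.1 (Nat.eq_one_of_dvd_coprimes
        (Nat.Coprime.pow_left j (Nat.coprime_two_left.2 hvo)) hj.dvd (orderOf_dvd_of_pow_eq_one hq1))
    rw [hq0, OneMemClass.coe_one, mul_one] at h1
    have := inv_mem h1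
    simpa [mul_assoc] using this
  refine mem_centralizer_iff.2 fun x hx => ?_
  set c : K := ⟨v * x * v⁻¹ * x⁻¹, mul_mem ((mem_normalizer_iff.1 hvn _).1 hx) (inv_mem hx)⟩ with hc
  have hcore : c ∈ H.normalCore := fun g => by
    rw [← hmemH]
    have h1 := key g⁻¹
    have h2 := inv_mem (key (⟨x, hx⟩⁻¹ * g⁻¹))
    have h := mul_mem h1 h2
    simp only [Subgroup.coe_mul, InvMemClass.coe_inv] at h ⊢
    convert h using 1
    simp only [hc]
    group
  rw [SEMain.core_eq_bot_of_simple hse.1, mem_bot] at hcore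
  have h : v * x * v⁻¹ * x⁻¹ = 1 := congrArg Subtype.val hcore
  rw [mul_inv_eq_one, mul_inv_eq_iff_eq_mul] at h
  exact h.symm

/-- A 2-element centralising an abelian Sylow 2-subgroup acts as one of its elements. -/
theorem exists_inner (h1 : GoldGroups.ClosedAbelianSimple.{u}) (hW : GoldGroups.WalterGood.{u})
    (hNF : GoldGroups.RJNoField.{u}) (K : Subgroup G) (hs : IsSimpleGroup K) (hna : ¬ IsMulCommutative K)
    (T : Sylow 2 K) (hne : (T : Subgroup K) ≠ ⊥)
    (hab : ∀ x ∈ (T : Subgroup K), ∀ y ∈ (T : Subgroup K), x * y = y * x) {a : G} (ha2 : TwoEl a)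
    (hn : a ∈ normalizer (K : Set G)) (haT : ∀ t ∈ (T : Subgroup K), Commute a (t : G)) :
    ∃ t ∈ (T : Subgroup K), a⁻¹ * (t : G) ∈ centralizer (K : Set G) := by
  classical
  haveI : Fact (Nat.Prime 2) := ⟨Nat.prime_two⟩
  haveI := hs
  set G₀ := K ⊔ zpowers a with hG₀
  have hG₀n : G₀ ≤ normalizer (K : Set G) := sup_le Subgroup.le_normalizer (zpowers_le.2 hn)
  haveI hCn : ((centralizer (K : Set G)).subgroupOf G₀).Normal :=
    normal_subgroupOf_of_le_normalizer (by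
      intro g hg
      refine mem_normalizer_fintype fun c hc => mem_centralizer_iff.2 fun x hx => ?_
      have h := mem_centralizer_iff.1 hc (g⁻¹ * x * g) (by
        simpa using (mem_normalizer_iff.1 (inv_mem (hG₀n hg)) x).1 hx)
      calc x * (g * c * g⁻¹) = g * ((g⁻¹ * x * g) * c) * g⁻¹ := by group
        _ = g * (c * (g⁻¹ * x * g)) * g⁻¹ := by rw [h]
        _ = g * c * g⁻¹ * x := by group)
  haveI hKn : (K.subgroupOf G₀).Normal := normal_subgroupOf_of_le_normalizer hG₀n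
  set f := QuotientGroup.mk' ((centralizer (K : Set G)).subgroupOf G₀) with hf
  have hfs : Function.Surjective f := QuotientGroup.mk'_surjective _
  have hker : ∀ x : G₀, f x = 1 ↔ (x : G) ∈ centralizer (K : Set G) := fun x => by
    rw [hf, QuotientGroup.mk'_apply, QuotientGroup.eq_one_iff]; rfl
  let g₁ : K →* G₀ ⧸ (centralizer (K : Set G)).subgroupOf G₀ := f.comp (Subgroup.inclusion le_sup_left)
  have hg₁ : Function.Injective g₁ := (injective_iff_map_eq_one g₁).2 fun l hl => by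
    have hc : l ∈ Subgroup.center K := mem_center_iff.2 fun v =>
      Subtype.ext (mem_centralizer_iff.1 ((hker _).1 hl) v v.2)
    rwa [GoldStruct.simple_center_bot hna, mem_bot] at hc
  set N := g₁.range with hN
  have hNe : N = (K.subgroupOf G₀).map f := by
    ext z
    constructor
    · rintro ⟨l, rfl⟩; exact ⟨_, mem_subgroupOf.2 l.2, rfl⟩
    · rintro ⟨x, hx, rfl⟩; exact ⟨⟨x, hx⟩, rfl⟩
  haveI hNn : N.Normal := hNe ▸ hKn.map f hfs
  have hNs : IsSimpleGroup N := (MonoidHom.ofInjective hg₁).symm.isSimpleGroup_congr.2 hs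
  have hNna : ¬ IsMulCommutative N := fun h => hna ⟨⟨fun p q => hg₁ (by
    rw [map_mul, map_mul]
    exact congrArg Subtype.val (h.is_comm.comm (⟨g₁ p, p, rfl⟩ : N) ⟨g₁ q, q, rfl⟩))⟩⟩
  -- an abelian Sylow subgroup
  set fa := f ⟨a, mem_sup_right (mem_zpowers a)⟩ with hfa
  set T' := (T : Subgroup K).map g₁ with hT'
  have hcT : ∀ t ∈ T', Commute fa t := by
    rintro _ ⟨t, ht, rfl⟩
    exact Commute.map (show Commute (⟨a, mem_sup_right (mem_zpowers a)⟩ : G₀) _ from Subtype.ext (haT t ht).eq) f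
  have hle : zpowers fa ≤ normalizer (T' : Set _) :=
    zpowers_le.2 (mem_normalizer_fintype fun t ht => by rwa [(hcT t ht).eq, mul_inv_cancel_right])
  obtain ⟨j, hj⟩ := ha2
  have hWp : IsPGroup 2 (T' ⊔ zpowers fa : Subgroup _) :=
    (T.isPGroup'.map g₁).to_sup_of_normal_left' (ClosedAbelian.TwoEl.isPGroup ⟨j, by
      rw [hfa, ← map_pow, show (⟨a, mem_sup_right (mem_zpowers a)⟩ : G₀) ^ 2 ^ j = 1 from Subtype.ext hj,
        map_one]⟩) hle
  obtain ⟨P, hP⟩ := hWp.exists_le_sylow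
  have hPN : ∀ x ∈ N, x ∈ P.toSubgroup → x ∈ T' := by
    rintro _ ⟨l, rfl⟩ hlP
    refine ⟨l, ?_, rfl⟩
    have hle' : (T : Subgroup K) ≤ P.toSubgroup.comap g₁ := fun t ht =>
      hP (mem_sup_left (mem_map_of_mem g₁ ht))
    have := T.is_maximal' (P.isPGroup'.comap_of_injective g₁ hg₁) hle'
    rw [← this]
    exact hlP
  have hgen : ∀ y, ∃ n ∈ N, ∃ z ∈ zpowers fa, y = n * z := fun y => by
    obtain ⟨⟨x, hx⟩, rfl⟩ := hfs y
    rw [hG₀, ← SetLike.mem_coe, coe_mul_of_right_le_normalizer_left _ _ (zpowers_le.2 hn)] at hx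
    obtain ⟨l, hl, z, hz, rfl⟩ := hx
    obtain ⟨i, rfl⟩ := mem_zpowers_iff.1 hz
    refine ⟨g₁ ⟨l, hl⟩, ⟨_, rfl⟩, fa ^ i, zpow_mem (mem_zpowers fa) i, ?_⟩
    rw [hfa, ← map_zpow]
    show f _ = f _ * f _
    rw [← map_mul]
    exact congrArg f (Subtype.ext (by simp))
  have hPle : P.toSubgroup ≤ T' ⊔ zpowers fa := by
    intro y hy
    obtain ⟨n, hnN, z, hz, rfl⟩ := hgen y
    have hzP := hP (mem_sup_right hz)
    exact mul_mem (mem_sup_left (hPN n hnN (by simpa using mul_mem hy (inv_mem hzP)))) (mem_sup_right hz)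
  have hPc : ∀ x ∈ P.toSubgroup, ∀ y ∈ P.toSubgroup, x * y = y * x := by
    have hmem : ∀ x ∈ P.toSubgroup, ∃ t ∈ T', ∃ i : ℤ, t * fa ^ i = x := fun x hx => by
      have h := hPle hx
      rw [← SetLike.mem_coe, coe_mul_of_right_le_normalizer_left _ _ hle] at h
      obtain ⟨t, ht, z, hz, rfl⟩ := h
      obtain ⟨i, rfl⟩ := mem_zpowers_iff.1 hz
      exact ⟨t, ht, i, rfl⟩
    intro x hx y hy
    obtain ⟨t, ht, i, rfl⟩ := hmem x hx
    obtain ⟨t', ht', i', rfl⟩ := hmem y hy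
    have htt : Commute t t' := by
      obtain ⟨p, hp, rfl⟩ := ht
      obtain ⟨q, hq, rfl⟩ := ht'
      exact Commute.map (hab p hp q hq) g₁
    exact ((htt.mul_right ((hcT t ht).symm.zpow_right i')).mul_left
      (((hcT t' ht').zpow_left i).mul_right ((Commute.refl fa).zpow_zpow i i'))).eq
  have hSC : GoldStruct.SC P P.toSubgroup := ⟨hPc, le_rfl, fun _ _ _ h => h⟩
  have hAN : P.toSubgroup ⊓ N ≠ ⊥ := fun e => hne (by
    rw [eq_bot_iff]
    intro t ht
    have h : g₁ t ∈ P.toSubgroup ⊓ N := ⟨hP (mem_sup_left ⟨t, ht, rfl⟩), t, rfl⟩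
    rw [e, mem_bot, ← map_one g₁] at h
    exact mem_bot.2 (hg₁ h))
  have hsup : N ⊔ P.toSubgroup = ⊤ := eq_top_iff.2 fun y _ => by
    obtain ⟨n, hnN, z, hz, rfl⟩ := hgen y
    exact mul_mem (mem_sup_left hnN) (mem_sup_right (hP (mem_sup_right hz)))
  have hC : centralizer (N : Set (G₀ ⧸ (centralizer (K : Set G)).subgroupOf G₀)) = ⊥ := by
    rw [eq_bot_iff]
    intro z hz
    obtain ⟨x, rfl⟩ := hfs z
    rw [mem_bot, hker, mem_centralizer_iff]
    intro l hl
    have h := mem_centralizer_iff.1 hz (g₁ ⟨l, hl⟩) ⟨_, rfl⟩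
    have h3 : (x : G)⁻¹ * l⁻¹ * x * l ∈ centralizer (K : Set G) := by
      have h2 : f (x⁻¹ * (Subgroup.inclusion le_sup_left (⟨l, hl⟩ : K))⁻¹ * x *
          Subgroup.inclusion le_sup_left (⟨l, hl⟩ : K)) = 1 := by
        rw [map_mul, map_mul, map_mul, map_inv, map_inv]
        show (f x)⁻¹ * (g₁ ⟨l, hl⟩)⁻¹ * f x * g₁ ⟨l, hl⟩ = 1
        rw [mul_assoc ((f x)⁻¹ * _), ← h]
        group
      exact (hker _).1 h2
    have h4 : (x : G)⁻¹ * l⁻¹ * x * l ∈ K := by
      refine mul_mem ?_ hl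
      simpa using (mem_normalizer_iff.1 (inv_mem (hG₀n x.2)) l⁻¹).1 (inv_mem hl)
    have hc : (⟨_, h4⟩ : K) ∈ Subgroup.center K := mem_center_iff.2 fun v =>
      Subtype.ext (mem_centralizer_iff.1 h3 v v.2)
    rw [GoldStruct.simple_center_bot hna, mem_bot] at hc
    have h5 : (x : G)⁻¹ * l⁻¹ * x * l = 1 := congrArg Subtype.val hc
    calc l * x = l * x * ((x : G)⁻¹ * l⁻¹ * x * l) := by rw [h5, mul_one]
      _ = x * l := by group
  have hi := GoldStruct.inSimple.{u, u} h1 hW hNF hSC hNn hNs hNna hAN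
  have htop := GoldStruct.inner hSC hNn hNs hNna hC hsup hAN hi
  obtain ⟨t, ht, hte⟩ := hPN fa (htop ▸ mem_top _) (hP (mem_sup_right (mem_zpowers fa)))
  refine ⟨t, ht, ?_⟩
  have h : f ((⟨a, mem_sup_right (mem_zpowers a)⟩ : G₀)⁻¹ * Subgroup.inclusion le_sup_left t) = 1 := by
    rw [map_mul, map_inv, ← hfa]
    show fa⁻¹ * g₁ t = 1
    rw [hte, inv_mul_cancel]
  exact (hker _).1 h

end Cfsg.Agent.CommPair
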