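import Cfsg.Agent.Lib.CommPair.Main
import Cfsg.Agent.Lib.CommPair.Component

/-!
Two commuting strongly closed 2-subgroups: the commutator of their normal closures lies in the normal closure of
their intersection times the odd core.
-/

set_option autoImplicit false
set_option linter.unusedSectionVars false
set_option linter.style.haveILetI false

namespace Cfsg.Agent.CommPair

open Subgroup Cfsg.Agent.SylowSplit
open Cfsg.Agent.ClosedAbelian (core core_le core_odd core_normalized conj_mem_core le_core TwoEl)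
open Cfsg.Agent.GateCons (Gate)
open scoped commutatorElement

universe u

variable {G : Type u} [Group G] [Finite G]

/-- An element centralising a normal 2-subgroup, odd modulo it, splits. -/
theorem split_core (N : Subgroup G) [N.Normal] (hN : IsPGroup 2 N) {y : G}
    (hy : QuotientGroup.mk' N y ∈ Cfsg.oddCore (G ⧸ N)) (hc : y ∈ centralizer (N : Set G)) :
    ∃ n ∈ N, ∃ o ∈ Cfsg.oddCore G, n * o = y := by
  haveI : Fact (Nat.Prime 2) := ⟨Nat.prime_two⟩
  haveI : (Cfsg.oddCore (G ⧸ N)).Normal := FittingCores.pPrimeCore_normal 2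
  set D := (Cfsg.oddCore (G ⧸ N)).comap (QuotientGroup.mk' N) ⊓ centralizer (N : Set G) with hD
  haveI hDn : D.Normal := normal_inf_normal _ _
  set Z := N.subgroupOf D with hZ
  have hZc : ∀ z ∈ Z, ∀ x : D, z * x = x * z := fun z hz x => Subtype.ext
    (mem_centralizer_iff.1 (mem_inf.1 x.2).2 _ (mem_subgroupOf.1 hz))
  obtain ⟨k, hk⟩ : ∃ k, Nat.card Z = 2 ^ k := IsPGroup.iff_card.1 (hN.comap_subtype (K := D))
  have hidx : Z.index ∣ Nat.card (Cfsg.oddCore (G ⧸ N)) := by
    have e : ((QuotientGroup.mk' N).comp D.subtype).ker = Z := by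
      ext x
      rw [MonoidHom.mem_ker]
      exact QuotientGroup.eq_one_iff (x : G)
    rw [← e, Subgroup.index_ker]
    refine card_dvd_of_le ?_
    rintro _ ⟨x, rfl⟩
    exact (mem_inf.1 x.2).1
  have hodd : Odd Z.index := (SEBrick.oddCore_odd (G := G ⧸ N)).of_dvd_nat hidx
  obtain ⟨H, hH⟩ := Subgroup.exists_right_complement'_of_coprime (N := Z) (by
    rw [hk]; exact (Nat.coprime_two_left.2 hodd).pow_left k)
  have hprod : ∀ x : D, ∃ z ∈ Z, ∃ h ∈ H, z * h = x := fun x => by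
    obtain ⟨⟨z, h⟩, he⟩ := (hH.existsUnique x).exists
    exact ⟨z, z.2, h, h.2, he⟩
  have hHn : H.Normal := ⟨fun h hh x => by
    obtain ⟨z, hz, h', hh', rfl⟩ := hprod x
    rw [show z * h' * h * (z * h')⁻¹ = z * (h' * h * h'⁻¹) * z⁻¹ by group, hZc z hz, mul_inv_cancel_right]
    exact mul_mem (mul_mem hh' hh) (inv_mem hh')⟩
  have hHo : Odd (Nat.card H) := by rwa [← hH.symm.index_eq_card]
  obtain ⟨z, hz, h, hh, he⟩ := hprod ⟨y, mem_inf.2 ⟨hy, hc⟩⟩
  exact ⟨z, hz, h, FittingCores.pPrimeCore_map_subtype_le 2 hDn ⟨h, SEBrick.le_oddCore hHn hHo hh, rfl⟩,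
    congrArg Subtype.val he⟩

theorem conj_centralizer {K : Subgroup G} {g c : G} (hg : g ∈ normalizer (K : Set G))
    (hc : c ∈ centralizer (K : Set G)) : g * c * g⁻¹ ∈ centralizer (K : Set G) := by
  refine mem_centralizer_iff.2 fun x hx => ?_
  have h := mem_centralizer_iff.1 hc (g⁻¹ * x * g) (by
    simpa using (mem_normalizer_iff.1 (inv_mem hg) x).1 hx)
  calc x * (g * c * g⁻¹) = g * ((g⁻¹ * x * g) * c) * g⁻¹ := by group
    _ = g * (c * (g⁻¹ * x * g)) * g⁻¹ := by rw [h]
    _ = g * c * g⁻¹ * x := by group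

/-- An element fixing a nontrivial element of a component of a normal subgroup fixes the component. -/
theorem normalizes_component (M : Subgroup G) [M.Normal] (hF : Cfsg.fittingSubgroup M = ⊥) {K : Subgroup M}
    (hK : Cfsg.IsComponent K) {i : M} (hi : i ∈ K) (hi1 : i ≠ 1) {g : G} (hg : Commute g (i : G)) :
    g ∈ normalizer (K.map M.subtype : Set G) := by
  set K' := K.map (MulAut.conjNormal g : MulAut M).toMonoidHom with hK'
  have hi' : i ∈ K' := ⟨i, hi, Subtype.ext (by
    show ((MulAut.conjNormal g i : M) : G) = i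
    rw [MulAut.conjNormal_apply, hg.eq, mul_inv_cancel_right])⟩
  have heq : K' = K := by
    by_contra hne
    have hc := commutator_eq_bot_iff_le_centralizer.1
      (Components.components_commute (Components.component_map_equiv (MulAut.conjNormal g : MulAut M) hK) hK hne)
      hi'
    obtain ⟨hs, hna⟩ := GoldStruct.component_facts hF hK
    haveI := hs
    have hz : (⟨i, hi⟩ : K) ∈ Subgroup.center K := mem_center_iff.2 fun v =>
      Subtype.ext (mem_centralizer_iff.1 hc v v.2)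
    rw [GoldStruct.simple_center_bot hna, mem_bot] at hz
    exact hi1 (congrArg Subtype.val hz)
  refine mem_normalizer_fintype fun x hx => ?_
  obtain ⟨l, hl, rfl⟩ := hx
  refine ⟨MulAut.conjNormal g l, ?_, MulAut.conjNormal_apply g l⟩
  have h : MulAut.conjNormal g l ∈ K' := ⟨l, hl, rfl⟩
  rwa [heq] at h

/-- A commutator of an odd element centralising the Sylow subgroup of the normal closure of a strongly closed
abelian subgroup with a 2-element centralising that subgroup centralises the normal closure. -/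
theorem commutator_centralizes (h1 : GoldGroups.ClosedAbelianSimple.{u}) (hW : GoldGroups.WalterGood.{u})
    (hNF : GoldGroups.RJNoField.{u}) {S : Sylow 2 G} {A : Subgroup G} (hA : GoldStruct.SC S A) (M : Subgroup G)
    [M.Normal] (hM : M = normalClosure (A : Set G)) (hO : Cfsg.oddCore G = ⊥)
    (hA0 : ∀ N : Subgroup G, N.Normal → N ≤ A → N = ⊥) {w a : G} (hwo : Odd (orderOf w))
    (hw : ∀ q ∈ (S : Subgroup G), q ∈ M → Commute w q) (ha2 : TwoEl a) (ha : ∀ i ∈ A, Commute a i) :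
    ⁅w, a⁆ ∈ centralizer (M : Set G) := by
  classical
  haveI : Fact (Nat.Prime 2) := ⟨Nat.prime_two⟩
  have hAM : A ≤ M := hM ▸ fun x hx => subset_normalClosure hx
  obtain ⟨U, hU⟩ := GoldStruct.sylow_inf S (inferInstance : M.Normal)
  have memU : ∀ x : M, x ∈ (U : Subgroup M) ↔ (x : G) ∈ (S : Subgroup G) := fun x => by
    rw [hU]; exact ⟨fun h => h.1, fun h => ⟨h, x.2⟩⟩
  set A' := A.subgroupOf M with hA'
  have h' : GoldStruct.SC U A' := ⟨fun p hp q hq => Subtype.ext (hA.comm p hp q hq),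
    fun p hp => (memU p).2 (hA.le hp), fun p hp g hg =>
      hA.mem (a := (p : G)) hp (g := (g : G)) ((memU _).1 hg)⟩
  have hgen := GoldStruct.normalClosure_eq_top hA M hM
  have hO' : ∀ N : Subgroup M, N.Normal → Odd (Nat.card N) → N = ⊥ := by
    intro N hN hodd
    have h := (SEBrick.le_oddCore hN hodd : N ≤ Cfsg.oddCore M)
    have h2 := (map_mono (f := M.subtype) h).trans
      (FittingCores.pPrimeCore_map_subtype_le 2 (inferInstance : M.Normal))
    rw [show Cfsg.pPrimeCore 2 G = ⊥ from hO, le_bot_iff] at h2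
    exact (Subgroup.map_eq_bot_iff_of_injective _ M.subtype_injective).1 h2
  obtain ⟨-, -, hAeq, -⟩ := GoldStruct.structure_of h1 hW hNF hO' h' hgen
  have h2 : Cfsg.pCore 2 M = ⊥ := by
    haveI := LEBasic.pCore_characteristic (p := 2) (G := M)
    refine (Subgroup.map_eq_bot_iff_of_injective _ M.subtype_injective).1
      (hA0 _ (ConjAct.normal_of_characteristic_of_normal) ?_)
    rintro _ ⟨x, hx, rfl⟩
    have h : x ∈ A' := hAeq ▸ mem_sup_left hx
    exact h
  have hF := GoldStruct.fitting_bot hO' h2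
  set z := ⁅w, a⁆ with hz
  have hkey : ∀ K : Subgroup M, Cfsg.IsComponent K → ∀ l ∈ K, Commute z (l : G) := by
    intro K hK
    obtain ⟨hs, hna⟩ := GoldStruct.component_facts hF hK
    haveI := hs
    have hKn := GoldStruct.component_normal hO' hF h' hgen hK
    haveI := hKn
    obtain ⟨-, -, hi⟩ := GoldStruct.projection h1 hW hNF hO' hF h' hgen hK
    obtain ⟨R, hR⟩ := GoldStruct.sylow_inf U hKn
    have memR : ∀ x : K, x ∈ (R : Subgroup K) ↔ ((x : M) : G) ∈ (S : Subgroup G) := fun x => by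
      rw [hR, ← memU]; exact ⟨fun h => h.1, fun h => ⟨h, x.2⟩⟩
    set KG := K.map M.subtype with hKG
    let e : K ≃* KG := K.equivMapOfInjective M.subtype M.subtype_injective
    have he : ∀ x : K, ((e x : KG) : G) = ((x : M) : G) := fun x => rfl
    have hsG : IsSimpleGroup KG := e.symm.isSimpleGroup_congr.2 hs
    have hnaG : ¬ IsMulCommutative KG := fun h => hna ⟨⟨fun p q => e.injective (by
      rw [map_mul, map_mul]; exact h.is_comm.comm _ _)⟩⟩
    obtain ⟨x, hx, hx2⟩ := GoldStruct.exists_invol_component hO' U hK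
    have hxS : (x : G) ∈ (S : Subgroup G) := (memU x).1 hx.1
    have hwn : w ∈ normalizer (KG : Set G) :=
      normalizes_component M hF hK hx.2 (Invol.ne_one hx2) (hw _ hxS x.2)
    have hAK := GoldStruct.inf_component_ne_bot hO' hF h' hgen hK
    obtain ⟨i, hi', hi2⟩ := GoldStruct.exists_involution (h'.isPGroup.to_le inf_le_left) hAK
    have han : a ∈ normalizer (KG : Set G) :=
      normalizes_component M hF hK hi'.2 (Invol.ne_one hi2) (ha _ hi'.1)
    let T : Sylow 2 KG := R.mapSurjective (f := e.toMonoidHom) e.surjective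
    have hT : ∀ t ∈ (T : Subgroup KG), ∃ r ∈ (R : Subgroup K), e r = t := fun t ht => ht
    have hwT : ∀ t ∈ (T : Subgroup KG), Commute w (t : G) := fun t ht => by
      obtain ⟨r, hr, rfl⟩ := hT t ht
      rw [he]
      exact hw _ ((memR r).1 hr) (r : M).2
    suffices hzK : z ∈ centralizer (KG : Set G) from
      fun l hl => (mem_centralizer_iff.1 hzK (l : G) ⟨l, hl, rfl⟩).symm
    have hsc : GoldStruct.SC R (A'.subgroupOf K) := ⟨fun p hp q hq => Subtype.ext (h'.comm p hp q hq),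
      fun p hp => (memR p).2 ((memU _).1 (h'.le hp)), fun p hp g hg =>
        h'.mem (a := (p : M)) hp (g := (g : M)) ((memU _).2 ((memR _).1 hg))⟩
    have hne : A'.subgroupOf K ≠ ⊥ := fun e' => hAK (subgroupOf_eq_bot.1 e').eq_bot
    rcases h1 K R (A'.subgroupOf K) hne hsc.isMulCommutative hsc.closed with hab | ⟨H, hH⟩
    · -- an abelian Sylow subgroup lies in the strongly closed subgroup
      have hRc : ∀ p ∈ (R : Subgroup K), ∀ q ∈ (R : Subgroup K), p * q = q * p := fun p hp q hq => by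
        haveI := hab
        exact congrArg Subtype.val (mul_comm' (⟨p, hp⟩ : (R : Subgroup K)) ⟨q, hq⟩)
      have hRA : ∀ p ∈ (R : Subgroup K), (p : M) ∈ A' := by
        intro p hp
        refine (hi.inv p p.2 ((memU _).2 ((memR p).1 hp))).1 ?_
        by_contra hpp
        obtain ⟨d, hd, hne'⟩ := (hi.bend R).nocomm p hp fun e' => hpp (congrArg Subtype.val e')
        exact hne' (hRc p hp _ ((mem_normalizer_iff.1 hd p).1 hp))
      have hTne : (T : Subgroup KG) ≠ ⊥ := fun hbot => by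
        have hxR : (⟨x, hx.2⟩ : K) ∈ (R : Subgroup K) := (memR _).2 hxS
        have h : e ⟨x, hx.2⟩ ∈ (T : Subgroup KG) := ⟨_, hxR, rfl⟩
        rw [hbot, mem_bot, map_eq_one_iff e e.injective] at h
        exact Invol.ne_one hx2 (congrArg Subtype.val h)
      obtain ⟨t, ht, hc⟩ := exists_inner h1 hW hNF KG hsG hnaG T hTne (fun p hp q hq => by
          obtain ⟨r, hr, rfl⟩ := hT p hp
          obtain ⟨s, hs', rfl⟩ := hT q hq
          rw [← map_mul, ← map_mul, hRc r hr s hs']) ha2 han fun t ht => by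
        obtain ⟨r, hr, rfl⟩ := hT t ht
        rw [he]
        exact ha _ (hRA r hr)
      have hwt : Commute w (t : G) := hwT t ht
      set c := (a⁻¹ * (t : G))⁻¹ with hcdef
      have hac : a = (t : G) * c := by rw [hcdef]; group
      have hzc : z = (t : G) * ((w * c * w⁻¹) * c⁻¹) * (t : G)⁻¹ := by
        rw [hz, hac, commutatorElement_def, mul_inv_rev,
          show w * ((t : G) * c) * w⁻¹ * (c⁻¹ * (t : G)⁻¹) = w * t * (c * w⁻¹ * c⁻¹) * (t : G)⁻¹ by group,
          hwt.eq]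
        group
      rw [hzc]
      exact conj_centralizer (Subgroup.le_normalizer t.2)
        (mul_mem (conj_centralizer hwn (inv_mem hc)) (inv_mem (inv_mem hc)))
    · -- a strongly embedded subgroup
      have hse : Cfsg.IsStronglyEmbedded (H.map e.toMonoidHom) := by
        refine ⟨fun htop => hH.1 ?_, ?_, fun g hg => ?_⟩
        · exact (map_injective e.injective) (htop.trans (map_top_of_surjective _ e.surjective).symm)
        · rw [card_map_of_injective e.injective]; exact hH.2.1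
        · obtain ⟨k, rfl⟩ := e.surjective g
          have hk : k ∉ H := fun h => hg ⟨k, h, rfl⟩
          have hconj : (H.map e.toMonoidHom).map (MulAut.conj (e k)).toMonoidHom =
              (H.map (MulAut.conj k).toMonoidHom).map e.toMonoidHom := by
            rw [Subgroup.map_map, Subgroup.map_map]
            congr 1
          rw [hconj, ← Subgroup.map_inf _ _ _ e.injective, card_map_of_injective e.injective]
          exact hH.2.2 k hk
      have hwK := centralizes_of_se KG hsG hse T hwo hwn hwT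
      rw [hz, commutatorElement_def, show w * a * w⁻¹ * a⁻¹ = w * (a * w⁻¹ * a⁻¹) by group]
      exact mul_mem hwK (conj_centralizer han (inv_mem hwK))
  refine mem_centralizer_iff.2 fun m hm => ?_
  have hd : z * m * z⁻¹ * m⁻¹ ∈ M := mul_mem (‹M.Normal›.conj_mem m hm z) (inv_mem hm)
  have hdc : (⟨_, hd⟩ : M) ∈ centralizer (Cfsg.layer M : Set M) := by
    refine mem_centralizer_iff.2 fun y hy => ?_
    have hle : Cfsg.layer M ≤ centralizer ({⟨_, hd⟩} : Set M) := Components.layer_le_iff.2 fun K hK l hl => by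
      haveI := GoldStruct.component_normal hO' hF h' hgen hK
      rw [mem_centralizer_singleton_iff]
      have hl' : (⟨m, hm⟩ : M)⁻¹ * l * ⟨m, hm⟩ ∈ K := by
        simpa using ‹K.Normal›.conj_mem l hl (⟨m, hm⟩ : M)⁻¹
      have c1 : Commute z (l : G) := hkey K hK l hl
      have c2 : Commute z (m⁻¹ * (l : G) * m) := hkey K hK _ hl'
      refine Subtype.ext ?_
      show (l : G) * (z * m * z⁻¹ * m⁻¹) = z * m * z⁻¹ * m⁻¹ * l
      calc (l : G) * (z * m * z⁻¹ * m⁻¹) = (l * z) * (m * z⁻¹ * m⁻¹) := by group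
        _ = (z * l) * (m * z⁻¹ * m⁻¹) := by rw [c1.eq]
        _ = z * m * ((m⁻¹ * l * m) * z⁻¹) * m⁻¹ := by group
        _ = z * m * (z⁻¹ * (m⁻¹ * l * m)) * m⁻¹ := by rw [c2.inv_left.eq]
        _ = _ := by group
    exact mem_centralizer_singleton_iff.1 (hle hy)
  rw [GoldStruct.centralizer_layer_bot hF, mem_bot] at hdc
  have h : z * m * z⁻¹ * m⁻¹ = 1 := congrArg Subtype.val hdc
  rw [mul_inv_eq_one, mul_inv_eq_iff_eq_mul] at h
  exact h.symm

variable {S : Sylow 2 G} {S₁ S₂ : Subgroup G}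

/-- Two commuting strongly closed subgroups. -/
structure CPair (S : Sylow 2 G) (S₁ S₂ : Subgroup G) : Prop where
  cl₁ : Cfsg.IsStronglyClosed S₁ (S : Subgroup G)
  cl₂ : Cfsg.IsStronglyClosed S₂ (S : Subgroup G)
  comm : ∀ a ∈ S₁, ∀ b ∈ S₂, Commute a b

namespace CPair

theorem sc (D : CPair S S₁ S₂) : GoldStruct.SC S (S₁ ⊓ S₂) :=
  ⟨fun a ha b hb => (D.comm a ha.1 b hb.2).eq, inf_le_left.trans D.cl₁.1,
    fun x hx g hg => ⟨D.cl₁.2 x hx.1 g hg, D.cl₂.2 x hx.2 g hg⟩⟩

/-- Fused elements centralise a normal subgroup inside the intersection. -/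
theorem centralizes_normal (D : CPair S S₁ S₂) {N : Subgroup G} (hn : N.Normal) (hN : N ≤ S₁ ⊓ S₂) {a : G}
    (ha : InR S₁ a ∨ InR S₂ a) : a ∈ centralizer (N : Set G) := by
  obtain ⟨g, hg⟩ : ∃ g : G, g * a * g⁻¹ ∈ S₁ ∨ g * a * g⁻¹ ∈ S₂ := by
    rcases ha with ⟨g, h⟩ | ⟨g, h⟩
    exacts [⟨g, Or.inl h⟩, ⟨g, Or.inr h⟩]
  refine mem_centralizer_iff.2 fun n hn' => ?_
  have hN' := hN (hn.conj_mem n hn' g)
  have hc : Commute (g * n * g⁻¹) (g * a * g⁻¹) := by
    rcases hg with h | h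
    exacts [(D.comm _ h _ hN'.2).symm, D.comm _ hN'.1 _ h]
  have h := hc.map (MulAut.conj g⁻¹).toMonoidHom
  simpa [mul_assoc] using h.eq

/-- The image in a quotient, where the intersection maps onto the intersection. -/
theorem quotient (D : CPair S S₁ S₂) {N : Subgroup G} [N.Normal]
    (hN : (Nat.card N).Coprime 2 ∨ N ≤ (S : Subgroup G))
    (hd : ∀ a ∈ S₁, ∀ b ∈ S₂, a⁻¹ * b ∈ N → b ∈ S₁) :
    CPair (S.mapSurjective (QuotientGroup.mk'_surjective N)) (S₁.map (QuotientGroup.mk' N))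
        (S₂.map (QuotientGroup.mk' N)) ∧
      (S₁ ⊓ S₂).map (QuotientGroup.mk' N) = S₁.map (QuotientGroup.mk' N) ⊓ S₂.map (QuotientGroup.mk' N) := by
  haveI : Fact (Nat.Prime 2) := ⟨Nat.prime_two⟩
  refine ⟨⟨ClosedZJ.stronglyClosed_map S D.cl₁ hN, ClosedZJ.stronglyClosed_map S D.cl₂ hN, ?_⟩, ?_⟩
  · rintro _ ⟨a, ha, rfl⟩ _ ⟨b, hb, rfl⟩
    exact (D.comm a ha b hb).map _
  · refine le_antisymm (map_inf_le _ _ _) ?_
    rintro _ ⟨⟨a, ha, rfl⟩, b, hb, he⟩
    exact ⟨b, ⟨hd a ha b hb (QuotientGroup.eq.1 he.symm), hb⟩, he⟩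

/-- Fused elements of the normaliser of the Sylow subgroup of the normal closure commute modulo the
intersection. -/
theorem mem_inter (hg : Gate.{u}) (h1 : GoldGroups.ClosedAbelianSimple.{u}) (hW : GoldGroups.WalterGood.{u})
    (hNF : GoldGroups.RJNoField.{u}) (D : CPair S S₁ S₂) (hO : Cfsg.oddCore G = ⊥)
    (h0 : ∀ N : Subgroup G, N.Normal → N ≤ S₁ ⊓ S₂ → N = ⊥) (M : Subgroup G) [M.Normal]
    (hM : M = normalClosure ((S₁ ⊓ S₂ : Subgroup G) : Set G)) {a b : G}
    (haL : a ∈ normalizer (((S : Subgroup G) ⊓ M : Subgroup G) : Set G))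
    (hbL : b ∈ normalizer (((S : Subgroup G) ⊓ M : Subgroup G) : Set G))
    (ha : InR S₁ a) (hb : InR S₂ b) : ⁅a, b⁆ ∈ S₁ ⊓ S₂ := by
  classical
  haveI : Fact (Nat.Prime 2) := ⟨Nat.prime_two⟩
  set I := S₁ ⊓ S₂ with hI
  set Q := (S : Subgroup G) ⊓ M with hQ
  set L := normalizer (Q : Set G) with hL
  have hIQ : I ≤ Q := le_inf D.sc.le (hM ▸ fun x hx => subset_normalClosure hx)
  have hSL : (S : Subgroup G) ≤ L :=
    (le_inf Subgroup.le_normalizer (le_top.trans (normalizer_eq_top (H := M)).ge)).trans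
      inf_normalizer_le_normalizer_inf
  set T := S.subtype hSL with hT
  have memT : ∀ x : L, x ∈ (T : Subgroup L) ↔ (x : G) ∈ (S : Subgroup G) := fun x => Iff.rfl
  have hcl : ∀ R : Subgroup G, Cfsg.IsStronglyClosed R (S : Subgroup G) →
      Cfsg.IsStronglyClosed (R.subgroupOf L) (T : Subgroup L) := fun R hR =>
    ⟨fun x hx => (memT x).2 (hR.1 hx), fun x hx g hg' => hR.2 (x : G) hx (g : G) ((memT _).1 hg')⟩
  -- the intersection is normal there
  have hIn : ∀ n ∈ L, ∀ i ∈ I, n * i * n⁻¹ ∈ I := fun n hn i hi =>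
    D.sc.mem hi ((mem_normalizer_iff.1 hn i).1 (hIQ hi)).1
  set J := I.subgroupOf L with hJ
  haveI : J.Normal := ⟨fun x hx g => hIn g g.2 x hx⟩
  have hJ2 : IsPGroup 2 J := D.sc.isPGroup.comap_subtype
  have hJT : J ≤ (T : Subgroup L) := fun x hx => (memT x).2 (D.sc.le hx)
  have hdisj : (S₁.subgroupOf L).map (QuotientGroup.mk' J) ⊓ (S₂.subgroupOf L).map (QuotientGroup.mk' J) = ⊥ := by
    rw [eq_bot_iff]
    rintro _ ⟨⟨x, hx, rfl⟩, y, hy, he⟩
    have hxy' : x⁻¹ * y ∈ J := by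
      have he' : (x : L ⧸ J) = (y : L ⧸ J) := he.symm
      exact QuotientGroup.eq.1 he'
    have hxy : ((x : G))⁻¹ * (y : G) ∈ I := hxy'
    have hy1 : (y : G) ∈ S₁ := by simpa using mul_mem (show (x : G) ∈ S₁ from hx) hxy.1
    rw [mem_bot, ← he]
    exact (QuotientGroup.eq_one_iff y).2 (show (y : G) ∈ I from ⟨hy1, hy⟩)
  have hp : Pair (T.mapSurjective (QuotientGroup.mk'_surjective J)) ((S₁.subgroupOf L).map (QuotientGroup.mk' J))
      ((S₂.subgroupOf L).map (QuotientGroup.mk' J)) :=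
    ⟨ClosedZJ.stronglyClosed_map T (hcl S₁ D.cl₁) (Or.inr hJT),
      ClosedZJ.stronglyClosed_map T (hcl S₂ D.cl₂) (Or.inr hJT), by
        rintro _ ⟨x, hx, rfl⟩ _ ⟨y, hy, rfl⟩
        exact Commute.map (show Commute x y from Subtype.ext (D.comm _ hx _ hy).eq) _, hdisj⟩
  have hin : ∀ {R : Subgroup G}, Cfsg.IsStronglyClosed R (S : Subgroup G) → ∀ x : L, InR R (x : G) →
      InR (R.subgroupOf L) x := fun {R} hR x hx => by
    obtain ⟨k, hk⟩ := exists_conj_mem T (x := x) (by
      obtain ⟨i, hi⟩ := two_elt hR hx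
      exact ⟨i, by rw [← Subgroup.orderOf_coe]; exact hi⟩)
    exact ⟨k, mem_of hR ((memT _).1 hk) (hx.conj (k : G))⟩
  have hcen : ∀ {x : G}, x ∈ L → InR S₁ x ∨ InR S₂ x → ∀ i ∈ I, Commute x i := by
    intro x hx hR i hi
    obtain ⟨k, hk⟩ : ∃ k : L, ((k : G) * x * (k : G)⁻¹) ∈ S₁ ∨ ((k : G) * x * (k : G)⁻¹) ∈ S₂ := by
      rcases hR with h | h
      · obtain ⟨k, hk⟩ := hin D.cl₁ ⟨x, hx⟩ h; exact ⟨k, Or.inl hk⟩
      · obtain ⟨k, hk⟩ := hin D.cl₂ ⟨x, hx⟩ h; exact ⟨k, Or.inr hk⟩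
    have hki := hIn k k.2 i hi
    have hc : Commute ((k : G) * x * (k : G)⁻¹) ((k : G) * i * (k : G)⁻¹) := by
      rcases hk with h | h
      exacts [D.comm _ h _ hki.2, (D.comm _ hki.1 _ h).symm]
    have h := hc.map (MulAut.conj (k : G)⁻¹).toMonoidHom
    simpa [mul_assoc] using h
  -- the commutator modulo the intersection
  set a' : L := ⟨a, haL⟩ with ha'
  set b' : L := ⟨b, hbL⟩ with hb'
  have hq := stmt hg (L ⧸ J) _ _ _ hp (QuotientGroup.mk' J a') (QuotientGroup.mk' J b')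
    (Pair.inR_map _ (hin D.cl₁ a' ha)) (Pair.inR_map _ (hin D.cl₂ b' hb))
  rw [← map_commutatorElement] at hq
  have hyc : ⁅a', b'⁆ ∈ centralizer (J : Set L) := by
    have h1' : a' ∈ centralizer (J : Set L) := mem_centralizer_iff.2 fun i hi =>
      Subtype.ext (hcen haL (Or.inl ha) i hi).eq.symm
    have h2' : b' ∈ centralizer (J : Set L) := mem_centralizer_iff.2 fun i hi =>
      Subtype.ext (hcen hbL (Or.inr hb) i hi).eq.symm
    exact mul_mem (mul_mem (mul_mem h1' h2') (inv_mem h1')) (inv_mem h2')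
  obtain ⟨i, hi, o, ho, hio⟩ := split_core J hJ2 hq hyc
  -- the odd part centralises the Sylow subgroup of the normal closure
  haveI : (Cfsg.oddCore L).Normal := FittingCores.pPrimeCore_normal 2
  haveI : (Q.subgroupOf L).Normal := normal_subgroupOf_of_le_normalizer le_rfl
  have hQ2 : IsPGroup 2 (Q.subgroupOf L) := (S.isPGroup'.to_le inf_le_left).comap_subtype
  have hdQ : Disjoint (Cfsg.oddCore L) (Q.subgroupOf L) := by
    rw [disjoint_iff, eq_bot_iff]
    intro x hx
    obtain ⟨k, hk⟩ := hQ2 ⟨x, hx.2⟩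
    exact mem_bot.2 (ClosedAbelian.TwoEl.eq_one_of_odd ⟨k, congrArg Subtype.val hk⟩
      (SEBrick.odd_order SEBrick.oddCore_odd hx.1))
  have hoQ : ∀ w ∈ Cfsg.oddCore L, ∀ q ∈ (S : Subgroup G), q ∈ M → Commute (w : G) q := fun w hw q hq hqM =>
    congrArg Subtype.val (commute_of_normal_of_disjoint _ _ inferInstance inferInstance hdQ w
      ⟨q, Subgroup.le_normalizer (show q ∈ Q from ⟨hq, hqM⟩)⟩ hw (show q ∈ Q from ⟨hq, hqM⟩)).eq
  have ha2 : TwoEl a := by
    obtain ⟨k, hk⟩ := two_elt D.cl₁ ha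
    exact ⟨k, by rw [← hk, pow_orderOf_eq_one]⟩
  have haI : ∀ i ∈ I, Commute a i := hcen haL (Or.inl ha)
  set C := centralizer (M : Set G) with hC
  haveI : C.Normal := Subgroup.normal_centralizer
  have hCL : C ≤ L := fun c hc => mem_normalizer_fintype fun q hq => by
    have hqM : q ∈ M := (show q ∈ Q from hq).2
    rw [← mem_centralizer_iff.1 hc q hqM, mul_inv_cancel_right]
    exact hq
  have hzero : ∀ w ∈ Cfsg.oddCore L, Commute (w : G) a := by
    intro w hw
    have hwo : Odd (orderOf (w : G)) := by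
      rw [Subgroup.orderOf_coe]; exact SEBrick.odd_order SEBrick.oddCore_odd hw
    have hz := commutator_centralizes h1 hW hNF D.sc M hM hO h0 hwo (hoQ w hw) ha2 haI
    set W := (Cfsg.oddCore L).map L.subtype with hW'
    have hzW : ⁅(w : G), a⁆ ∈ W := ⟨⁅w, a'⁆, by
      rw [commutatorElement_def, show w * a' * w⁻¹ * a'⁻¹ = w * (a' * w⁻¹ * a'⁻¹) by group]
      exact mul_mem hw (‹(Cfsg.oddCore L).Normal›.conj_mem _ (inv_mem hw) a'), rfl⟩
    have hWn : L ≤ normalizer (W : Set G) := core_normalized L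
    have hle : W ⊓ C ≤ core C := le_core inf_le_right
      ((le_inf (hCL.trans hWn) Subgroup.le_normalizer).trans inf_normalizer_le_normalizer_inf)
      fun h => core_odd L (h.trans (card_dvd_of_le inf_le_left))
    have h := hle (mem_inf.2 ⟨hzW, hz⟩)
    rw [core_eq_bot_of_normal hO C, mem_bot] at h
    exact commutatorElement_eq_one_iff_mul_comm.1 h
  -- so the odd part is trivial
  set y := ⁅a, b⁆ with hy
  have hyio : (i : G) * (o : G) = y := congrArg Subtype.val hio
  have hya : Commute a y := by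
    rw [← hyio]
    exact (haI _ hi).mul_right (hzero o ho).symm
  have hconj : ∀ n : ℕ, a ^ n * b * (a ^ n)⁻¹ = y ^ n * b := by
    intro n
    induction n with
    | zero => simp
    | succ n ih =>
      rw [pow_succ', show a * a ^ n * b * (a * a ^ n)⁻¹ = a * (a ^ n * b * (a ^ n)⁻¹) * a⁻¹ by group, ih,
        show a * (y ^ n * b) * a⁻¹ = a * y ^ n * a⁻¹ * (a * b * a⁻¹) by group, (hya.pow_right n).eq,
        mul_inv_cancel_right, show a * b * a⁻¹ = y * b by rw [hy, commutatorElement_def]; group, ← mul_assoc,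
        ← pow_succ]
  obtain ⟨k, hk⟩ := ha2
  have hyk : y ^ 2 ^ k = 1 := by
    have h := hconj (2 ^ k)
    rw [hk, one_mul, inv_one, mul_one] at h
    exact (right_eq_mul.1 h)
  obtain ⟨j, hj⟩ := hJ2 ⟨i, hi⟩
  have hij : (i : G) ^ 2 ^ j = 1 := congrArg (fun x : J => ((x : L) : G)) hj
  have hio' : Commute (i : G) (o : G) := ((hoQ o ho _ (D.sc.le hi) (hIQ hi).2)).symm
  have ho2 : TwoEl (o : G) := ⟨j + k, by
    have h : ((i : G) * (o : G)) ^ 2 ^ (j + k) = 1 := by
      rw [hyio, pow_add, mul_comm, pow_mul, hyk, one_pow]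
    rw [hio'.mul_pow, pow_add, pow_mul (i : G), hij, one_pow, one_mul] at h
    rw [pow_add]; exact h⟩
  have ho1 : (o : G) = 1 := ho2.eq_one_of_odd (by
    rw [Subgroup.orderOf_coe]; exact SEBrick.odd_order SEBrick.oddCore_odd ho)
  rw [← hyio, ho1, mul_one]
  exact hi

end CPair

/-- Below a given order. -/
def BelowC (n : ℕ) : Prop :=
  ∀ (G : Type u) [Group G] [Finite G], Nat.card G < n → ∀ (S : Sylow 2 G) (S₁ S₂ : Subgroup G), CPair S S₁ S₂ →
    ∀ a b : G, InR S₁ a → InR S₂ b →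
      ⁅a, b⁆ ∈ normalClosure ((S₁ ⊓ S₂ : Subgroup G) : Set G) ⊔ Cfsg.oddCore G

/-- Fused elements commute modulo the normal closure of the intersection and the odd core. -/
theorem commutator_mem_closure (hg : Gate.{u}) (h1 : GoldGroups.ClosedAbelianSimple.{u})
    (hW : GoldGroups.WalterGood.{u}) (hNF : GoldGroups.RJNoField.{u}) :
    ∀ n : ℕ, ∀ (G : Type u) [Group G] [Finite G], Nat.card G = n → ∀ (S : Sylow 2 G) (S₁ S₂ : Subgroup G),
      CPair S S₁ S₂ → ∀ a b : G, InR S₁ a → InR S₂ b →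
        ⁅a, b⁆ ∈ normalClosure ((S₁ ⊓ S₂ : Subgroup G) : Set G) ⊔ Cfsg.oddCore G := by
  intro n
  induction n using Nat.strong_induction_on with
  | _ n ih =>
  intro G _ _ hn S S₁ S₂ D a b ha hb
  haveI : Fact (Nat.Prime 2) := ⟨Nat.prime_two⟩
  have ih' : BelowC.{u} (Nat.card G) := fun H _ _ hlt => ih _ (hn ▸ hlt) H rfl
  set M := normalClosure ((S₁ ⊓ S₂ : Subgroup G) : Set G) with hM
  haveI : M.Normal := normalClosure_normal
  haveI hOn : (Cfsg.oddCore G).Normal := FittingCores.pPrimeCore_normal 2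
  by_cases hO : Cfsg.oddCore G = ⊥
  swap
  · have hodd : Odd (Nat.card (Cfsg.oddCore G)) := SEBrick.oddCore_odd
    obtain ⟨D', he⟩ := D.quotient (N := Cfsg.oddCore G) (Or.inl (Nat.coprime_two_right.2 hodd))
      fun x hx y hy hxy => by
        obtain ⟨k, hk⟩ := S.isPGroup' ⟨x⁻¹ * y, mul_mem (inv_mem (D.cl₁.1 hx)) (D.cl₂.1 hy)⟩
        have h := ClosedAbelian.TwoEl.eq_one_of_odd ⟨k, congrArg Subtype.val hk⟩ (SEBrick.odd_order hodd hxy)
        rw [inv_mul_eq_one] at h
        exact h ▸ hx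
    have hq := ih' (G ⧸ Cfsg.oddCore G) (card_quotient_lt hO) _ _ _ D'
      (QuotientGroup.mk' _ a) (QuotientGroup.mk' _ b) (Pair.inR_map _ ha) (Pair.inR_map _ hb)
    rw [show Cfsg.oddCore (G ⧸ Cfsg.oddCore G) = ⊥ from PBasic.pPrimeCore_quotient_pPrimeCore 2 G, sup_bot_eq,
      ← he, coe_map, ← map_normalClosure _ _ (QuotientGroup.mk'_surjective _), ← map_commutatorElement] at hq
    obtain ⟨m, hm, hme⟩ := hq
    have : m⁻¹ * ⁅a, b⁆ ∈ Cfsg.oddCore G := QuotientGroup.eq.1 hme
    have hr := mul_mem (mem_sup_left (T := Cfsg.oddCore G) hm) (mem_sup_right (S := M) this)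
    rwa [mul_inv_cancel_left] at hr
  refine mem_sup_left ?_
  by_cases h0 : ∀ N : Subgroup G, N.Normal → N ≤ S₁ ⊓ S₂ → N = ⊥
  swap
  · push Not at h0
    obtain ⟨N, hNn, hN, hne⟩ := h0
    haveI := hNn
    have hN2 : IsPGroup 2 N := D.sc.isPGroup.to_le hN
    obtain ⟨D', he⟩ := D.quotient (N := N) (Or.inr (hN.trans D.sc.le))
      fun x hx y _ hxy => by simpa using mul_mem hx (hN hxy).1
    have hq := ih' (G ⧸ N) (card_quotient_lt hne) _ _ _ D'
      (QuotientGroup.mk' _ a) (QuotientGroup.mk' _ b) (Pair.inR_map _ ha) (Pair.inR_map _ hb)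
    rw [← he, coe_map, ← map_normalClosure _ _ (QuotientGroup.mk'_surjective _), ← map_commutatorElement] at hq
    haveI : (M.map (QuotientGroup.mk' N)).Normal := Normal.map inferInstance _ (QuotientGroup.mk'_surjective _)
    obtain ⟨m', ⟨m, hm, rfl⟩, o', ho', hmo⟩ := mem_sup_of_normal_left.1 hq
    have hMc : M ≤ centralizer (N : Set G) := by
      haveI : (centralizer (N : Set G)).Normal := Subgroup.normal_centralizer
      exact normalClosure_le_normal fun i hi =>
        mem_centralizer_iff.2 fun x hx => D.sc.comm x (hN hx) i hi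
    set l := m⁻¹ * ⁅a, b⁆ with hl
    have hlc : l ∈ centralizer (N : Set G) := by
      have ha' := D.centralizes_normal hNn hN (Or.inl ha)
      have hb' := D.centralizes_normal hNn hN (Or.inr hb)
      exact mul_mem (inv_mem (hMc hm)) (mul_mem (mul_mem (mul_mem ha' hb') (inv_mem ha')) (inv_mem hb'))
    have hlo : QuotientGroup.mk' N l ∈ Cfsg.oddCore (G ⧸ N) := by
      rw [hl, map_mul, map_inv, ← hmo, inv_mul_cancel_left]
      exact ho'
    obtain ⟨p, hp, o, ho, hpo⟩ := split_core N hN2 hlo hlc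
    rw [hO, mem_bot] at ho
    rw [ho, mul_one] at hpo
    have hpM : p ∈ M := subset_normalClosure (hN hp)
    have hr := mul_mem hm (show l ∈ M from hpo ▸ hpM)
    rwa [hl, mul_inv_cancel_left] at hr
  obtain ⟨U, hU⟩ := GoldStruct.sylow_inf S (inferInstance : M.Normal)
  have hFr : normalizer (((S : Subgroup G) ⊓ M : Subgroup G) : Set G) ⊔ M = ⊤ := by
    have h := U.normalizer_sup_eq_top
    rwa [hU, map_subgroupOf_eq_of_le inf_le_right] at h
  -- move into the normaliser
  have hmove : ∀ {T : Subgroup G}, Cfsg.IsStronglyClosed T (S : Subgroup G) → ∀ x, InR T x →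
      ∃ x' ∈ normalizer (((S : Subgroup G) ⊓ M : Subgroup G) : Set G), InR T x' ∧
        QuotientGroup.mk' M x' = QuotientGroup.mk' M x := by
    intro T hT x hx
    obtain ⟨g, hgx⟩ := hx
    obtain ⟨l, hl, m, hm, hlm⟩ := mem_sup_of_normal_right.1
      (show g⁻¹ ∈ normalizer (((S : Subgroup G) ⊓ M : Subgroup G) : Set G) ⊔ M by rw [hFr]; exact mem_top _)
    have hSL : (S : Subgroup G) ≤ normalizer (((S : Subgroup G) ⊓ M : Subgroup G) : Set G) :=
      (le_inf Subgroup.le_normalizer (le_top.trans (normalizer_eq_top (H := M)).ge)).trans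
        inf_normalizer_le_normalizer_inf
    refine ⟨l * (g * x * g⁻¹) * l⁻¹, mul_mem (mul_mem hl (hSL (hT.1 hgx))) (inv_mem hl),
      (InR.of_mem hgx).conj l, ?_⟩
    have hlg : QuotientGroup.mk' M l = QuotientGroup.mk' M g⁻¹ := by
      rw [← hlm, map_mul, show QuotientGroup.mk' M m = 1 from (QuotientGroup.eq_one_iff m).2 hm, mul_one]
    rw [map_mul, map_mul, map_inv, hlg, ← map_inv, ← map_mul, ← map_mul]
    exact congrArg _ (by group)
  obtain ⟨a', ha'L, ha', hea⟩ := hmove D.cl₁ a ha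
  obtain ⟨b', hb'L, hb', heb⟩ := hmove D.cl₂ b hb
  have h := D.mem_inter hg h1 hW hNF hO h0 M hM ha'L hb'L ha' hb'
  have h' : QuotientGroup.mk' M ⁅a, b⁆ = 1 := by
    rw [map_commutatorElement, ← hea, ← heb, ← map_commutatorElement]
    exact (QuotientGroup.eq_one_iff _).2 (subset_normalClosure h)
  exact (QuotientGroup.eq_one_iff _).1 h'

/-- The commutator of the normal closures (S2767). -/
theorem S2767_of (hg : Gate.{u}) (h1 : GoldGroups.ClosedAbelianSimple.{u}) (hW : GoldGroups.WalterGood.{u})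
    (hNF : GoldGroups.RJNoField.{u}) {G : Type u} [Group G] [Finite G] (S : Sylow 2 G) (S₁ S₂ : Subgroup G)
    (h₁ : Cfsg.IsStronglyClosed S₁ (S : Subgroup G)) (h₂ : Cfsg.IsStronglyClosed S₂ (S : Subgroup G))
    (hc : ∀ a ∈ S₁, ∀ b ∈ S₂, a * b = b * a) :
    ⁅normalClosure (S₁ : Set G), normalClosure (S₂ : Set G)⁆ ≤
      normalClosure ((S₁ ⊓ S₂ : Subgroup G) : Set G) ⊔ Cfsg.pPrimeCore 2 G := by
  haveI : (Cfsg.pPrimeCore 2 G).Normal := FittingCores.pPrimeCore_normal 2
  set J := normalClosure ((S₁ ⊓ S₂ : Subgroup G) : Set G) ⊔ Cfsg.pPrimeCore 2 G with hJ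
  haveI : J.Normal := sup_normal _ _
  set π := QuotientGroup.mk' J with hπ
  suffices h : (⁅normalClosure (S₁ : Set G), normalClosure (S₂ : Set G)⁆).map π = ⊥ by
    rwa [Subgroup.map_eq_bot_iff, hπ, QuotientGroup.ker_mk'] at h
  rw [map_commutator, commutator_eq_bot_iff_le_centralizer, normalClosure, normalClosure,
    MonoidHom.map_closure, MonoidHom.map_closure, centralizer_closure, closure_le]
  rintro _ ⟨x, hx, rfl⟩
  rw [SetLike.mem_coe, mem_centralizer_iff]
  rintro _ ⟨y, hy, rfl⟩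
  obtain ⟨s, hs, hsx⟩ := Group.mem_conjugatesOfSet_iff.1 hx
  obtain ⟨t, ht, hty⟩ := Group.mem_conjugatesOfSet_iff.1 hy
  obtain ⟨g, rfl⟩ := isConj_iff.1 hsx
  obtain ⟨k, rfl⟩ := isConj_iff.1 hty
  have h := commutator_mem_closure hg h1 hW hNF _ G rfl S S₁ S₂ ⟨h₁, h₂, hc⟩ _ _
    ((InR.of_mem (show s ∈ S₁ from hs)).conj g) ((InR.of_mem (show t ∈ S₂ from ht)).conj k)
  have h' : π ⁅g * s * g⁻¹, k * t * k⁻¹⁆ = 1 := (QuotientGroup.eq_one_iff _).2 h
  rw [map_commutatorElement, commutatorElement_eq_one_iff_mul_comm] at h'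
  exact h'.symm

end Cfsg.Agent.CommPair
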