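import Cfsg.Agent.Lib.CommPair.Graph
import Cfsg.Agent.Lib.GateCons.Split
import Cfsg.Agent.Lib.GateCons.CoverProof
import Cfsg.Agent.Lib.GateCons.Semiregular
import Cfsg.Agent.Lib.SEMain.Proof

/-!
When the involutions of one kind in a centraliser fall into several components, the cores of their centralisers
balance.
-/

set_option autoImplicit false
set_option linter.unusedSectionVars false
set_option linter.style.haveILetI false

namespace Cfsg.Agent.CommPair

open Subgroup Cfsg.Agent.SylowSplit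
open Cfsg.Agent.ClosedAbelian (core core_le core_odd core_normalized conj_mem_core)
open Cfsg.Agent.GateCons (Gate coreOdd coreOdd_le coreOdd_odd coreOdd_normal)
open scoped commutatorElement

universe u

variable {G : Type u} [Group G] [Finite G] {P : Sylow 2 G} {S₁ S₂ : Subgroup G}

/-- The odd core of a centraliser fixes every point, so lies in the smaller core. -/
theorem Ctx.core_inf_le (C : Ctx P S₁ S₂) (hg : Gate.{u}) (hO : Cfsg.oddCore G = ⊥) {a b : G}
    (ha : a ∈ Invs S₁) (hdis : ¬ Connected (cc a) S₂) (hb : b ∈ Invs S₂) (hab : Commute a b) :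
    core (cc b) ⊓ cc a ≤ core (cc a) := by
  classical
  haveI : Fact (Nat.Prime 2) := ⟨Nat.prime_two⟩
  have hT := C.pair.cl₂
  set X := cc a with hX
  have hbX : b ∈ X := mem_cc.2 hab.symm
  set M : Subgroup X := (stab X S₂ b).subgroupOf X with hM
  set z : X := ⟨b, hbX⟩ with hz
  have hzo : orderOf z = 2 := by rw [← Subgroup.orderOf_coe]; exact hb.1
  have hMmem : ∀ {g : X}, g ∈ M ↔ (g : G) ∈ stab X S₂ b := Iff.rfl
  have hcen : ∀ {g : X}, Commute (g : G) b → g ∈ M := fun {g} h =>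
    hMmem.2 (cc_le_stab (Conn.refl b) (mem_inf.2 ⟨mem_cc.2 h, g.2⟩))
  -- a central conjugate
  obtain ⟨T₀, hT₀⟩ := (LESylow.isPGroup_zpowers (k := 1) (show orderOf z = 2 ^ 1 by rw [hzo, pow_one]) :
    IsPGroup 2 (zpowers z)).exists_le_sylow
  obtain ⟨z₀, hz₀, hz₀W, hz₀c⟩ := exists_central hT (T₀.isPGroup'.map X.subtype)
    (show b ∈ (T₀ : Subgroup X).map X.subtype from ⟨z, hT₀ (mem_zpowers z), rfl⟩) hb
  have hz₀X : z₀ ∈ X := map_subtype_le _ hz₀W
  obtain ⟨d₀, hd₀X, hd₀⟩ := conj_of_not_connected hT hdis hz₀X hz₀ hbX hb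
  set d₀' : X := ⟨d₀, hd₀X⟩
  set S := d₀' • T₀ with hS
  have hSz : ∀ s ∈ S, Commute s z := by
    intro s hs
    rw [hS] at hs
    obtain ⟨t, ht, rfl⟩ := hs
    have h := hz₀c (t : G) ⟨t, ht, rfl⟩
    refine Subtype.ext ?_
    show (d₀ * t * d₀⁻¹) * b = b * (d₀ * t * d₀⁻¹)
    rw [← hd₀, show d₀ * t * d₀⁻¹ * (d₀ * z₀ * d₀⁻¹) = d₀ * (t * z₀) * d₀⁻¹ by group, h.eq]
    group
  have hzS : z ∈ S := ⟨⟨z₀, hz₀X⟩, by
    obtain ⟨t, ht, he⟩ := hz₀W
    rwa [show (⟨z₀, hz₀X⟩ : X) = t from Subtype.ext he.symm], Subtype.ext hd₀⟩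
  have hcon : ∀ {y : X}, (y : G) ∈ Invs S₂ → IsConj z y := fun {y} hy => by
    obtain ⟨d, hdX, hd⟩ := conj_of_not_connected hT hdis hbX hb y.2 hy
    exact isConj_iff.2 ⟨⟨d, hdX⟩, Subtype.ext hd⟩
  have d : GateCons.Data M z :=
    { ne_top := fun h => hdis (connected_of_stab hT hbX hb (subgroupOf_eq_top.1 h))
      order := hzo
      mem := hcen (Commute.refl b)
      central := ⟨S, hzS, hSz⟩
      fix := fun g hg' => stab_fix hT hbX hb g.2 hg'
      prod := fun g hc hne x hx => by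
        have hc' : Commute b ((g : G) * b * (g : G)⁻¹) := congrArg Subtype.val hc
        have hne' : b ≠ (g : G) * b * (g : G)⁻¹ := fun e => hne (Subtype.ext e.symm)
        have hv := invol_mul hT hb (Invs.conj hb _) hc' hne'
        have hvX : b * ((g : G) * b * (g : G)⁻¹) ∈ X := (z * (g * z * g⁻¹)).2
        refine hMmem.2 (cc_le_stab (Conn.commute hbX hb hvX hv ((Commute.refl b).mul_right hc'))
          (mem_inf.2 ⟨mem_cc.2 ?_, x.2⟩))
        exact congrArg Subtype.val (mem_centralizer_singleton_iff.1 hx) }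
  haveI := coreOdd_normal M
  set π := QuotientGroup.mk' (coreOdd M) with hπ
  set K := normalClosure ({z} : Set X) with hK
  have hzK : z ∈ K := subset_normalClosure rfl
  have hOM := coreOdd_le M
  have hconK : ∀ {y : X}, (y : G) ∈ Invs S₂ → y ∈ K := fun {y} hy => by
    obtain ⟨k, rfl⟩ := isConj_iff.1 (hcon hy)
    exact normalClosure_normal.conj_mem z hzK k
  have hoX : ∀ {y : X}, y ∈ coreOdd M → (y : G) ∈ core X := fun {y} hy => ⟨y, hy.1, rfl⟩
  -- the kernel part is odd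
  have hthree : ∀ p q r : X, p ∈ M → q ∈ M → r ∈ M → IsConj z p → IsConj z q → IsConj z r →
      GateCons.Data.CommMod M p q → GateCons.Data.CommMod M p r → GateCons.Data.CommMod M q r → p * q * r ∈ M.normalCore → p * q * r ∈ coreOdd M := by
    intro p q r _ _ _ hp hq hr hpq hpr hqr hR
    have hord : ∀ {y : X}, IsConj z y → orderOf y = 2 := fun {y} hy => by
      obtain ⟨k, rfl⟩ := isConj_iff.1 hy
      exact (Invol.order_conj k z).trans hzo
    have hIn : ∀ {y : X}, IsConj z y → InR S₂ (y : G) := fun {y} hy => by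
      obtain ⟨k, rfl⟩ := isConj_iff.1 hy
      exact hb.2.conj (k : G)
    have h1 : ∀ {y : X}, IsConj z y → π y * π y = 1 := fun {y} hy => by
      rw [← map_mul, Invol.mul_self (hord hy), map_one]
    set A := closure ({π p, π q, π r} : Set (X ⧸ coreOdd M)) with hA
    have hAc : ∀ s ∈ ({π p, π q, π r} : Set (X ⧸ coreOdd M)), ∀ t ∈ ({π p, π q, π r} : Set (X ⧸ coreOdd M)),
        s * t = t * s := by
      rintro s (rfl | rfl | rfl) t (rfl | rfl | rfl)
      exacts [rfl, hpq.eq, hpr.eq, hpq.eq.symm, rfl, hqr.eq, hpr.eq.symm, hqr.eq.symm, rfl]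
    haveI : IsMulCommutative A := isMulCommutative_closure hAc
    have hA2 : IsPGroup 2 A := fun ⟨y, hy⟩ => ⟨1, Subtype.ext (by
      rw [SubmonoidClass.coe_pow, pow_one, pow_two, OneMemClass.coe_one]
      show y * y = 1
      induction hy using closure_induction with
      | mem y hy =>
        rcases hy with rfl | rfl | rfl
        exacts [h1 hp, h1 hq, h1 hr]
      | one => exact one_mul 1
      | mul s t hs ht ihs iht =>
        have hc : Commute s t := congrArg Subtype.val (mul_comm' (⟨s, hs⟩ : A) ⟨t, ht⟩)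
        rw [hc.symm.mul_mul_mul_comm s t, ihs, iht, one_mul]
      | inv s _ ihs => rw [← mul_inv_rev, ihs, inv_one])⟩
    obtain ⟨k, hk⟩ := exists_conj_le (S.mapSurjective (QuotientGroup.mk'_surjective (coreOdd M))) hA2
    obtain ⟨k', rfl⟩ := QuotientGroup.mk'_surjective (coreOdd M) k
    have hlift : ∀ {y : X}, IsConj z y → π y ∈ A →
        ∃ s ∈ (S : Subgroup X), π s = π (k' * y * k'⁻¹) ∧ InR S₂ (s : G) := by
      intro y hy hyA
      obtain ⟨s, hs, hse⟩ := hk _ hyA
      have hse' : π s = π (k' * y * k'⁻¹) := by rw [map_mul, map_mul, map_inv]; exact hse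
      refine ⟨s, hs, hse', ?_⟩
      have hy' : orderOf (k' * y * k'⁻¹) = 2 := (Invol.order_conj k' y).trans (hord hy)
      have hs2 : s * s = 1 := GateCons.eq_one_of_two_mem_coreOdd S.isPGroup' (mul_mem hs hs)
        ((QuotientGroup.eq_one_iff _).1 (show π (s * s) = 1 by
          rw [map_mul, hse', ← map_mul, Invol.mul_self hy', map_one]))
      have hne : s ≠ 1 := fun e => Invol.ne_one (SEMain.order_mk hOM (coreOdd_odd M) hy') (by
        show π (k' * y * k'⁻¹) = 1
        rw [← hse', e, map_one])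
      have hmem : k' * y * k'⁻¹ * s ∈ coreOdd M := (QuotientGroup.eq_one_iff _).1
        (show π (k' * y * k'⁻¹ * s) = 1 by rw [map_mul, hse', ← map_mul, Invol.mul_self hy', map_one])
      obtain ⟨e, -, he⟩ := Invol.conj_of_odd hy' (Invol.order_two_of_sq hs2 hne)
        (SEBrick.odd_order (coreOdd_odd M) hmem)
      rw [← he]
      exact ((hIn hy).conj (k' : G)).conj (e : G)
    obtain ⟨s₁, hs₁, e₁, i₁⟩ := hlift hp (subset_closure (by simp))
    obtain ⟨s₂, hs₂, e₂, i₂⟩ := hlift hq (subset_closure (by simp))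
    obtain ⟨s₃, hs₃, e₃, i₃⟩ := hlift hr (subset_closure (by simp))
    have he : π (s₁ * s₂ * s₃) = π (k' * (p * q * r) * k'⁻¹) := by
      rw [map_mul, map_mul, e₁, e₂, e₃, ← map_mul, ← map_mul]
      exact congrArg π (by group)
    have hyS : s₁ * s₂ * s₃ ∈ (S : Subgroup X) := mul_mem (mul_mem hs₁ hs₂) hs₃
    by_cases hy1 : s₁ * s₂ * s₃ = 1
    · rw [hy1, map_one] at he
      have h := (coreOdd_normal M).conj_mem _ ((QuotientGroup.eq_one_iff _).1 he.symm) k'⁻¹
      convert h using 1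
      group
    have hy2 : (s₁ * s₂ * s₃) * (s₁ * s₂ * s₃) = 1 := by
      refine GateCons.eq_one_of_two_mem_coreOdd S.isPGroup' (mul_mem hyS hyS)
        ((QuotientGroup.eq_one_iff _).1 (show π (_ * _) = 1 from ?_))
      rw [map_mul, he, ← map_mul, show k' * (p * q * r) * k'⁻¹ * (k' * (p * q * r) * k'⁻¹) =
        k' * (p * q * r * (p * q * r)) * k'⁻¹ by group, map_mul, map_mul]
      have hA' : π (p * q * r) ∈ A := by
        rw [map_mul, map_mul]
        exact mul_mem (mul_mem (subset_closure (by simp)) (subset_closure (by simp))) (subset_closure (by simp))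
      have h2 : (⟨_, hA'⟩ : A) ^ 2 ^ 1 = 1 := by
        obtain ⟨j, hj⟩ := hA2 ⟨_, hA'⟩
        have : ∀ y : A, (y : X ⧸ coreOdd M) * y = 1 := fun ⟨y, hy⟩ => by
          show y * y = 1
          induction hy using closure_induction with
          | mem y hy =>
            rcases hy with rfl | rfl | rfl
            exacts [h1 hp, h1 hq, h1 hr]
          | one => exact one_mul 1
          | mul s t hs ht ihs iht =>
            have hc : Commute s t := congrArg Subtype.val (mul_comm' (⟨s, hs⟩ : A) ⟨t, ht⟩)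
            rw [hc.symm.mul_mul_mul_comm s t, ihs, iht, one_mul]
          | inv s _ ihs => rw [← mul_inv_rev, ihs, inv_one]
        rw [pow_one, pow_two]
        exact Subtype.ext (this _)
      rw [pow_one, pow_two] at h2
      have h2' : π (p * q * r) * π (p * q * r) = 1 := congrArg Subtype.val h2
      rw [← map_mul] at h2'
      rw [h2', mul_one, ← map_mul, mul_inv_cancel, map_one]
    have hyI : ((s₁ * s₂ * s₃ : X) : G) ∈ Invs S₂ := by
      refine ⟨by rw [Subgroup.orderOf_coe]; exact Invol.order_two_of_sq hy2 hy1, ?_⟩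
      have hp' : IsPGroup 2 ((S : Subgroup X).map X.subtype) := S.isPGroup'.map _
      exact inR_mul hT hp' ⟨_, mul_mem hs₁ hs₂, rfl⟩ ⟨_, hs₃, rfl⟩
        (inR_mul hT hp' ⟨_, hs₁, rfl⟩ ⟨_, hs₂, rfl⟩ i₁ i₂) i₃
    obtain ⟨c, hc⟩ := isConj_iff.1 (hcon hyI)
    have hyR : s₁ * s₂ * s₃ ∈ M.normalCore := by
      have h1' := mul_mem (M.normalCore_normal.conj_mem _ hR k')
        ((inf_le_right : coreOdd M ≤ _) (QuotientGroup.eq.1 he.symm))
      convert h1' using 1
      group
    refine absurd ?_ d.z_notMem_core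
    have h := M.normalCore_normal.conj_mem _ hyR c⁻¹
    rw [← hc] at h
    convert h using 1
    group
  have hodd := d.odd_of_cover hg SEMain.stmt GateCons.cover hthree
  obtain ⟨hse, hcore⟩ := d.se_mod hg hodd
  haveI : (K.map π).Normal := Normal.map normalClosure_normal π (QuotientGroup.mk'_surjective _)
  have hmem : ∀ {g : X}, π g ∈ M.map π ↔ g ∈ M := fun {g} => SEMain.mem_map_iff hOM
  -- a pair
  obtain ⟨E, hE, hbE, hEc⟩ := exists_four C.pair.symm hO (Q := zpowers a ⊔ zpowers b)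
    (pGroup_pair ⟨1, by rw [ha.1, pow_one]⟩ ⟨1, by rw [hb.1, pow_one]⟩
      (by rw [hab.eq, mul_inv_cancel_right]; exact mem_zpowers b))
    (mem_sup_right (mem_zpowers b)) hb C.proper
  obtain ⟨b', hb'E, hb'1, hb'b⟩ := hE.exists_other (a := b)
  have hb'I := hE.mem b' hb'E hb'1
  have hb'X : b' ∈ X := mem_cc.2 (hEc b' hb'E a (mem_sup_left (mem_zpowers a)) ha.2)
  have hpair : SEMain.HasPair ((M.map π).subgroupOf (K.map π)) := by
    refine ⟨⟨π z, z, hzK, rfl⟩, ⟨π ⟨b', hb'X⟩, ⟨b', hb'X⟩, hconK hb'I, rfl⟩, hmem.2 d.mem,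
      hmem.2 (hcen (hE.comm hb'E hbE)), ?_, ?_, fun e => hb'b ?_, ?_⟩
    · rw [← Subgroup.orderOf_coe]; exact SEMain.order_mk hOM (coreOdd_odd M) hzo
    · rw [← Subgroup.orderOf_coe]
      exact SEMain.order_mk hOM (coreOdd_odd M) (by rw [← Subgroup.orderOf_coe]; exact hb'I.1)
    · have e' : π z = π ⟨b', hb'X⟩ := congrArg Subtype.val e
      rw [QuotientGroup.mk'_eq_mk'] at e'
      obtain ⟨o, ho, hoe⟩ := e'
      have hbb : (o : G) * (o : G) = 1 := by
        have : (o : G) = b⁻¹ * b' := by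
          rw [eq_inv_mul_iff_mul_eq]
          exact congrArg Subtype.val hoe
        have hc : Commute b b' := hE.comm hbE hb'E
        rw [this, hc.inv_left.symm.mul_mul_mul_comm b⁻¹ b', Invol.inv_self hb.1, Invol.mul_self hb.1,
          Invol.mul_self hb'I.1, one_mul]
      have ho1 : (o : G) = 1 := Invol.eq_one_of_sq_of_odd
        (by rw [Subgroup.orderOf_coe]; exact SEBrick.odd_order (coreOdd_odd M) ho) (by rw [pow_two]; exact hbb)
      have := congrArg Subtype.val hoe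
      simp only [Subgroup.coe_mul, ho1, mul_one] at this
      exact this.symm
    · refine Subtype.ext ?_
      show π z * π ⟨b', hb'X⟩ = π ⟨b', hb'X⟩ * π z
      rw [← map_mul, ← map_mul]
      exact congrArg π (Subtype.ext (hE.comm hbE hb'E).eq)
  obtain ⟨R, hR⟩ := SEMain.exists_reg SEMain.stmt hse hcore hpair
  have hReq := GateCons.reg_eq_inter (S.mapSurjective (QuotientGroup.mk'_surjective (coreOdd M)))
    (map_mono (d.sylow_le hSz)) hse hR
  -- the element
  intro x hx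
  obtain ⟨hxb, hxX⟩ := mem_inf.1 hx
  set x' : X := ⟨x, hxX⟩
  have hxM : x' ∈ M := hcen (mem_cc.1 (core_le _ hxb))
  set D : Subgroup X := (core (cc b)).subgroupOf X with hD
  have hDodd : Odd (Nat.card D) := by
    rw [← Nat.not_even_iff_odd, even_iff_two_dvd]
    exact fun h => core_odd (cc b) (h.trans (Subgroup.card_comap_dvd_of_injective _ X.subtype X.subtype_injective))
  have hcommR : ∀ q ∈ R, π x' * (q : X ⧸ coreOdd M) = (q : X ⧸ coreOdd M) * π x' := by
    intro q hq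
    have hq' : (q : X ⧸ coreOdd M) ∈ (S : Subgroup X).map π := by
      rw [hReq] at hq
      exact hq
    obtain ⟨s, hs, hse'⟩ := hq'
    have hsb : Commute (s : G) b := congrArg Subtype.val (hSz s hs)
    have hy : x' * s * x'⁻¹ * s⁻¹ ∈ D := by
      show x * s * x⁻¹ * (s : G)⁻¹ ∈ core (cc b)
      rw [show x * s * x⁻¹ * (s : G)⁻¹ = x * (s * x⁻¹ * (s : G)⁻¹) by group]
      exact mul_mem hxb (conj_mem_core (mem_cc.2 hsb) (inv_mem hxb))
    have hyo : Odd (orderOf (π (x' * s * x'⁻¹ * s⁻¹))) :=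
      (SEBrick.odd_order hDodd hy).of_dvd_nat (orderOf_map_dvd π _)
    have hcq : π x' * (q : X ⧸ coreOdd M) * (π x')⁻¹ ∈ K.map π :=
      ‹(K.map π).Normal›.conj_mem _ q.2 _
    have h1 : (⟨_, hcq⟩ : K.map π) ∈ R := by
      refine hR.mem_of_two hse (mem_subgroupOf.2 ?_) ?_
      · exact mul_mem (mul_mem (hmem.2 hxM) (mem_subgroupOf.1 (hR.le hq))) (inv_mem (hmem.2 hxM))
      · obtain ⟨j, hj⟩ := IsPGroup.iff_orderOf.1 hR.two ⟨q, hq⟩
        rw [Subgroup.orderOf_mk] at hj
        exact ⟨j, by rw [← Subgroup.orderOf_coe, Invol.order_conj, Subgroup.orderOf_coe, hj]⟩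
    obtain ⟨j, hj⟩ := IsPGroup.iff_orderOf.1 hR.two ⟨_, mul_mem h1 (inv_mem hq)⟩
    rw [Subgroup.orderOf_mk, ← Subgroup.orderOf_coe] at hj
    change orderOf (π x' * (q : X ⧸ coreOdd M) * (π x')⁻¹ * (q : X ⧸ coreOdd M)⁻¹) = 2 ^ j at hj
    have e : π (x' * s * x'⁻¹ * s⁻¹) = π x' * (q : X ⧸ coreOdd M) * (π x')⁻¹ * (q : X ⧸ coreOdd M)⁻¹ := by
      rw [map_mul, map_mul, map_mul, map_inv, map_inv, hse']
    rw [e, hj] at hyo
    have hj0 : j = 0 := by
      by_contra h0
      exact Nat.not_even_iff_odd.2 hyo (even_iff_two_dvd.2 (dvd_pow_self 2 h0))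
    rw [hj0, pow_zero, orderOf_eq_one_iff, mul_inv_eq_one, mul_inv_eq_iff_eq_mul] at hj
    exact hj
  have hfix : ∀ k ∈ K, k⁻¹ * x' * k ∈ M := by
    intro k hk
    by_cases hkM : k ∈ M
    · exact mul_mem (mul_mem (inv_mem hkM) hxM) hkM
    set g₁ : K.map π := ⟨π k, mem_map_of_mem π hk⟩ with hg₁
    set g₂ : K.map π := ⟨π x' * π k * (π x')⁻¹,
      ‹(K.map π).Normal›.conj_mem _ (mem_map_of_mem π hk) _⟩ with hg₂
    have hn₁ : g₁ ∉ (M.map π).subgroupOf (K.map π) := fun h => hkM (hmem.1 h)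
    have hn₂ : g₂ ∉ (M.map π).subgroupOf (K.map π) := fun h => hn₁ (mem_subgroupOf.2 (by
      have := mul_mem (mul_mem (inv_mem (hmem.2 hxM)) (mem_subgroupOf.1 h)) (hmem.2 hxM)
      simpa [hg₂, mul_assoc] using this))
    obtain ⟨u, hu, hue⟩ := hR.trans g₁ g₂ hn₁ hn₂
    have hue' : (π k)⁻¹ * ((π x')⁻¹ * u) * π k ∈ M.map π := by
      have h := mul_mem (inv_mem (hmem.2 hxM)) (mem_subgroupOf.1 hue)
      simpa [hg₁, hg₂, mul_assoc] using h
    have hc : Commute (π x')⁻¹ (u : X ⧸ coreOdd M) := (show Commute (π x') (u : X ⧸ coreOdd M) from hcommR u hu).inv_left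
    set n := orderOf (π x') with hn
    have hno : Odd n := (SEBrick.odd_order hDodd (show x' ∈ D from hxb)).of_dvd_nat (orderOf_map_dvd π _)
    have hpow := pow_mem hue' n
    have e : ((π k)⁻¹ * ((π x')⁻¹ * u) * π k) ^ n = (π k)⁻¹ * (u : X ⧸ coreOdd M) ^ n * π k := by
      have h := conj_pow (a := (π k)⁻¹) (b := (π x')⁻¹ * (u : X ⧸ coreOdd M)) (i := n)
      rw [inv_inv] at h
      rw [h, hc.mul_pow, inv_pow, hn, pow_orderOf_eq_one, inv_one, one_mul]
    rw [e] at hpow
    have hun : u ^ n = 1 := hR.reg g₁ hn₁ (u ^ n) (pow_mem hu n) (mem_subgroupOf.2 (by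
      simpa only [hg₁, Subgroup.coe_mul, InvMemClass.coe_inv, SubmonoidClass.coe_pow, mul_assoc] using hpow))
    have hu1 : u = 1 := by
      obtain ⟨j, hj⟩ := IsPGroup.iff_orderOf.1 hR.two ⟨u, hu⟩
      rw [Subgroup.orderOf_mk] at hj
      exact orderOf_eq_one_iff.1 (Nat.eq_one_of_dvd_coprimes
        (Nat.Coprime.pow_left j (Nat.coprime_two_left.2 hno)) hj.dvd (orderOf_dvd_of_pow_eq_one hun))
    rw [hu1, OneMemClass.coe_one, mul_one, ← map_inv, ← map_inv, ← map_mul, ← map_mul, hmem] at hue'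
    have := inv_mem hue'
    simpa [mul_assoc] using this
  have hxR : x' ∈ M.normalCore := by
    intro g
    obtain ⟨k, hk, m, hm, hkm⟩ :=
      mem_sup_of_normal_left.1 (d.sup_eq_top.symm ▸ mem_top g⁻¹ : g⁻¹ ∈ K ⊔ M)
    have hg' : g = m⁻¹ * k⁻¹ := by rw [← inv_inv g, ← hkm, mul_inv_rev]
    rw [hg', show m⁻¹ * k⁻¹ * x' * (m⁻¹ * k⁻¹)⁻¹ = m⁻¹ * (k⁻¹ * x' * k) * m by group]
    exact mul_mem (mul_mem (inv_mem hm) (hfix k hk)) hm
  refine C.mem_core (a := 1) (b := b) (one_mem _) hbX (Or.inl rfl) (Or.inr hb) (Commute.one_left b)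
    (by rwa [one_mul]) (C.symm.core_le_ctr_side (C.cc_ne_top ha.1) hb hbX hx) ⟨hxX, fun r hrX hr => ?_⟩
  exact hoX (d.comm_closure (hconK (y := ⟨r, hrX⟩) hr) hxR)

end Cfsg.Agent.CommPair
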