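import Cfsg.Agent.Lib.CommPair.Basic
import Cfsg.Agent.Lib.Solvable.Coprime
import Cfsg.Agent.Lib.Signalizer.Basic
import Cfsg.Agent.Lib.OddChar.OddTheorem

/-!
A four group acting on a group of odd order: normal subgroups of the fixed point groups which contain the
commutators and agree on the common fixed points are the fixed point groups of their join.
-/

set_option autoImplicit false
set_option linter.unusedSectionVars false
set_option linter.style.haveILetI false

namespace Cfsg.Agent.CommPair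

open Subgroup
open scoped commutatorElement

universe u

variable {G : Type u} [Group G] [Finite G] {V U : Subgroup G} {N : G → Subgroup G}

/-- The data: a four group, an odd group and coherent normal subgroups of the fixed point groups. -/
structure FourData (V U : Subgroup G) (N : G → Subgroup G) : Prop where
  ea : Cfsg.IsElementaryAbelian 2 V
  card : Nat.card V = 4
  odd : ¬ 2 ∣ Nat.card U
  inv : V ≤ normalizer (U : Set G)
  le : ∀ v ∈ V, v ≠ 1 → N v ≤ U ⊓ cc v
  norm : ∀ v ∈ V, v ≠ 1 → U ⊓ cc v ≤ normalizer (N v : Set G)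
  ninv : ∀ v ∈ V, v ≠ 1 → V ≤ normalizer (N v : Set G)
  comm : ∀ v ∈ V, v ≠ 1 → ⁅U ⊓ cc v, V⁆ ≤ N v
  fixed : ∀ v ∈ V, v ≠ 1 → ∀ w ∈ V, w ≠ 1 → N v ⊓ centralizer (V : Set G) ≤ N w

/-- The join of the subgroups. -/
def span (V : Subgroup G) (N : G → Subgroup G) : Subgroup G := ⨆ v : {v : G // v ∈ V ∧ v ≠ 1}, N v

theorem le_span {v : G} (hv : v ∈ V) (h1 : v ≠ 1) : N v ≤ span V N :=
  le_iSup (fun v : {v : G // v ∈ V ∧ v ≠ 1} => N v) ⟨v, hv, h1⟩

namespace FourData

theorem le_cc (D : FourData V U N) {v : G} (hv : v ∈ V) : V ≤ cc v :=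
  Signalizer.ea_le_centralizer_singleton D.ea hv

theorem cop (D : FourData V U N) {X : Subgroup G} (hX : X ≤ U) :
    (Nat.card V).Coprime (Nat.card X) :=
  haveI : Fact (Nat.Prime 2) := ⟨Nat.prime_two⟩
  Signalizer.coprime_card (Signalizer.ea_isPGroup D.ea) fun h => D.odd (h.trans (card_dvd_of_le hX))

theorem solvable (D : FourData V U N) {X : Subgroup G} (hX : X ≤ U) : Group.IsSolvable X := by
  refine OddChar.oddSolvable _ ?_
  rw [← Nat.not_even_iff_odd, even_iff_two_dvd]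
  exact fun h => D.odd (h.trans (card_dvd_of_le hX))

theorem split (D : FourData V U N) {X : Subgroup G} (hX : X ≤ U) (hV : V ≤ normalizer (X : Set G)) :
    ⁅X, V⁆ ⊔ (X ⊓ centralizer (V : Set G)) = X :=
  CoprimeAct.commutator_sup_centralizer hV (D.cop hX) (Or.inr (D.solvable hX))

theorem gen (D : FourData V U N) {X Y : Subgroup G} (hX : X ≤ U) (hV : V ≤ normalizer (X : Set G))
    (h : ∀ v ∈ V, v ≠ 1 → X ⊓ cc v ≤ Y) : X ≤ Y := by
  haveI : Fact (Nat.Prime 2) := ⟨Nat.prime_two⟩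
  exact Signalizer.le_of_centralizer_le D.ea (by rw [D.card]; norm_num) hV
    (fun h => D.odd (h.trans (card_dvd_of_le hX))) h

theorem inv_cc (D : FourData V U N) {X : Subgroup G} (hV : V ≤ normalizer (X : Set G)) {v : G} (hv : v ∈ V) :
    V ≤ normalizer ((X ⊓ cc v : Subgroup G) : Set G) :=
  (le_inf hV ((D.le_cc hv).trans le_normalizer)).trans inf_normalizer_le_normalizer_inf

theorem restrict (D : FourData V U N) {X : Subgroup G} (hX : X ≤ U) (hV : V ≤ normalizer (X : Set G)) :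
    FourData V X fun v => N v ⊓ X where
  ea := D.ea
  card := D.card
  odd h := D.odd (h.trans (card_dvd_of_le hX))
  inv := hV
  le v hv h1 := le_inf inf_le_right (inf_le_left.trans ((D.le v hv h1).trans inf_le_right))
  norm v hv h1 := (le_inf ((inf_le_inf_right _ hX).trans (D.norm v hv h1))
    (inf_le_left.trans le_normalizer)).trans inf_normalizer_le_normalizer_inf
  ninv v hv h1 := (le_inf (D.ninv v hv h1) hV).trans inf_normalizer_le_normalizer_inf
  comm v hv h1 := le_inf ((commutator_mono (inf_le_inf_right _ hX) le_rfl).trans (D.comm v hv h1))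
    ((commutator_mono inf_le_left le_rfl).trans (CoprimeAct.commutator_le_left hV))
  fixed v hv h1 w hw hw1 := le_inf ((inf_le_inf_right _ inf_le_left).trans (D.fixed v hv h1 w hw hw1))
    (inf_le_left.trans inf_le_right)

theorem span_le (D : FourData V U N) : span V N ≤ U :=
  iSup_le fun v => (D.le v.1 v.2.1 v.2.2).trans inf_le_left

theorem span_inv (D : FourData V U N) : V ≤ normalizer (span V N : Set G) :=
  (le_iInf fun v : {v : G // v ∈ V ∧ v ≠ 1} => D.ninv v.1 v.2.1 v.2.2).trans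
    (iInf_normalizer_le_normalizer_iSup _)

end FourData

/-- The common fixed points of the join are good. -/
theorem span_fixed : ∀ (n : ℕ) (V U : Subgroup G) (N : G → Subgroup G), FourData V U N →
    Nat.card (span V N) = n → ∀ w ∈ V, w ≠ 1 → span V N ⊓ centralizer (V : Set G) ≤ N w := by
  intro n
  induction n using Nat.strong_induction_on with
  | _ n ih =>
  intro V U N D hn u hu hu1
  set W := span V N with hW
  by_cases hW1 : W = ⊥
  · rw [hW1]; exact inf_le_left.trans bot_le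
  have hWU := D.span_le
  have hWV := D.span_inv
  set W' := ⁅W, W⁆ with hW'
  have hW'W : W' ≤ W := CoprimeAct.commutator_le_left le_normalizer
  have hW'n : W ≤ normalizer (W' : Set G) := normalizer_commutator_ge_left W W
  have hW'V : V ≤ normalizer (W' : Set G) := fun v hv => by
    rw [mem_normalizer_iff_map_conj_eq, hW', map_commutator, mem_normalizer_iff_map_conj_eq.1 (hWV hv)]
  have hlt : Nat.card W' < n := by
    rw [← hn]
    refine lt_of_le_of_ne (card_le_of_le hW'W) fun e => ?_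
    have he : W' = W := eq_of_le_of_card_ge hW'W e.ge
    haveI := D.solvable hWU
    haveI : Nontrivial W := (nontrivial_iff_ne_bot W).2 hW1
    have h1 := Group.IsSolvable.commutator_lt_top_of_nontrivial W
    refine h1.ne ?_
    rw [eq_top_iff]
    intro x _
    have hx : (x : G) ∈ (commutator W).map W.subtype := by
      rw [commutator_def, map_commutator, ← MonoidHom.range_eq_map, range_subtype, ← hW', he]
      exact x.2
    obtain ⟨y, hy, hyx⟩ := hx
    rwa [← W.subtype_injective hyx]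
  have D' := D.restrict (hW'W.trans hWU) hW'V
  set W1 := span V (fun v => N v ⊓ W') with hW1def
  have hW1W : W1 ≤ W' := iSup_le fun v => inf_le_right
  have hfix1 : ∀ v ∈ V, v ≠ 1 → W1 ⊓ centralizer (V : Set G) ≤ N v := fun v hv h1 =>
    (ih _ ((card_le_of_le hW1W).trans_lt hlt) V W' _ D' rfl v hv h1).trans inf_le_left
  have hW1V : V ≤ normalizer (W1 : Set G) := D'.span_inv
  -- the fixed points of the derived group normalise its pieces
  set C := W' ⊓ centralizer (V : Set G) with hC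
  have hCv : ∀ v ∈ V, C ≤ W' ⊓ cc v := fun v hv => inf_le_inf_left _ (centralizer_le (by simpa using hv))
  have hCn : C ≤ normalizer (W1 : Set G) :=
    (le_iInf fun v : {v : G // v ∈ V ∧ v ≠ 1} => (hCv v.1 v.2.1).trans (D'.norm v.1 v.2.1 v.2.2)).trans
      (iInf_normalizer_le_normalizer_iSup _)
  have hdec : W' ≤ W1 ⊔ C := D'.gen le_rfl hW'V fun v hv h1 => by
    have hV' := D'.inv_cc hW'V hv
    rw [← D'.split (inf_le_left : W' ⊓ cc v ≤ W') hV']
    refine sup_le_sup ((D'.comm v hv h1).trans ?_) (inf_le_inf_right _ inf_le_left)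
    exact le_span (N := fun v => N v ⊓ W') hv h1
  have hmem : ∀ x ∈ W', ∃ w ∈ W1, ∃ c ∈ C, x = w * c := fun x hx => by
    have h := hdec hx
    rw [← SetLike.mem_coe, coe_mul_of_right_le_normalizer_left _ _ hCn] at h
    obtain ⟨w, hw, c, hc, rfl⟩ := h
    exact ⟨w, hw, c, hc, rfl⟩
  have hcV : ∀ {c : G}, c ∈ C → ∀ v ∈ V, v * c = c * v := fun hc v hv =>
    mem_centralizer_iff.1 (mem_inf.1 hc).2 v hv
  have hmod : ∀ v ∈ V, ∀ q ∈ W', q * (v * q * v⁻¹)⁻¹ ∈ W1 := by
    intro v hv q hq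
    obtain ⟨w, hw, c, hc, rfl⟩ := hmem q hq
    rw [show v * (w * c) * v⁻¹ = v * w * v⁻¹ * (v * c * v⁻¹) by group, hcV hc v hv,
      mul_inv_cancel_right, show w * c * (v * w * v⁻¹ * c)⁻¹ = w * (v * w * v⁻¹)⁻¹ by group]
    exact mul_mem hw (inv_mem ((mem_normalizer_iff.1 (hW1V hv) w).1 hw))
  have htwo : ∀ i ∈ V, i ≠ 1 → ∀ l ∈ V, l ≠ 1 → l ≠ i → ∀ v ∈ V,
      v = 1 ∨ v = i ∨ v = l ∨ v = i * l := by
    intro i hi hi1 l hl hl1 hli v hv
    classical
    by_contra hnot
    push Not at hnot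
    haveI := Fintype.ofFinite V
    have h5 : ({⟨1, one_mem V⟩, ⟨i, hi⟩, ⟨l, hl⟩, ⟨i * l, mul_mem hi hl⟩, ⟨v, hv⟩} : Finset V).card ≤ 4 := by
      refine le_trans (Finset.card_le_univ _) ?_
      rw [← Nat.card_eq_fintype_card, D.card]
    have hsq : i * i = 1 := by rw [← pow_two]; exact D.ea.2 i hi
    have h1 : i * l ≠ 1 := fun e => hli (mul_left_cancel (e.trans hsq.symm))
    rw [Finset.card_insert_of_notMem, Finset.card_insert_of_notMem, Finset.card_insert_of_notMem,
      Finset.card_pair] at h5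
    · omega
    all_goals simp only [Finset.mem_insert, Finset.mem_singleton, Subtype.mk.injEq, ne_eq, not_or]
    · exact fun e => hnot.2.2.2 e.symm
    · exact ⟨fun e => hi1 (mul_eq_right.1 e.symm), fun e => hnot.2.2.1 e.symm⟩
    · exact ⟨fun e => hli e.symm, fun e => hl1 (mul_eq_left.1 e.symm), fun e => hnot.2.1 e.symm⟩
    · exact ⟨fun e => hi1 e.symm, fun e => hl1 e.symm, fun e => h1 e.symm, fun e => hnot.1 e.symm⟩
  -- a piece maps into the derived pieces
  have hconj : ∀ l ∈ V, l ≠ 1 → ∀ y ∈ N l, ∀ i ∈ V, i ≠ 1 → ∀ p ∈ N i ⊓ W', y * p * y⁻¹ ∈ W1 := by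
    intro l hl hl1 y hy i hi hi1 p hp
    obtain ⟨hyU, hyl⟩ := mem_inf.1 (D.le l hl hl1 hy)
    have hyW : y ∈ W := le_span hl hl1 hy
    have hyW' : ∀ {x}, x ∈ W' → y * x * y⁻¹ ∈ W' := fun hx => (mem_normalizer_iff.1 (hW'n hyW) _).1 hx
    have hin : ∀ {x}, x ∈ N l → x ∈ W' → y * x * y⁻¹ ∈ W1 := fun hx hx' =>
      le_span (N := fun v => N v ⊓ W') hl hl1 (mem_inf.2 ⟨mul_mem (mul_mem hy hx) (inv_mem hy), hyW' hx'⟩)
    rcases eq_or_ne l i with rfl | hli
    · exact hin (mem_inf.1 hp).1 (mem_inf.1 hp).2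
    let K : Subgroup G := W1.comap (MulAut.conj y).toMonoidHom
    suffices h : N i ⊓ W' ≤ K from h hp
    have hPU : N i ⊓ W' ≤ U := inf_le_right.trans (hW'W.trans hWU)
    rw [← D.split hPU (D'.ninv i hi hi1)]
    refine sup_le ?_ fun x hx => ?_
    swap
    · obtain ⟨hxP, hxV⟩ := mem_inf.1 hx
      exact hin (D.fixed i hi hi1 l hl hl1 (mem_inf.2 ⟨(mem_inf.1 hxP).1, hxV⟩)) (mem_inf.1 hxP).2
    rw [commutator_le]
    intro x hx v hv
    show y * ⁅x, v⁆ * y⁻¹ ∈ W1
    have hxi : x * i = i * x := mem_cc.1 (mem_inf.1 (D.le i hi hi1 (mem_inf.1 hx).1)).2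
    have key : y * ⁅x, l⁆ * y⁻¹ ∈ W1 := by
      have hyl' : y * l = l * y := mem_cc.1 hyl
      have e : y * ⁅x, l⁆ * y⁻¹ = y * x * y⁻¹ * (l * (y * x * y⁻¹) * l⁻¹)⁻¹ := by
        calc y * ⁅x, l⁆ * y⁻¹ = y * x * y⁻¹ * ((y * l) * x⁻¹ * (l⁻¹ * y⁻¹)) := by
              rw [commutatorElement_def]; group
          _ = _ := by rw [← mul_inv_rev y l, hyl']; group
      rw [e]
      exact hmod l hl _ (hyW' (mem_inf.1 hx).2)
    rcases htwo i hi hi1 l hl hl1 hli v hv with rfl | rfl | rfl | rfl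
    · simp
    · rw [show ⁅x, v⁆ = 1 from commutatorElement_eq_one_iff_mul_comm.2 hxi]; simp
    · exact key
    · have hil : i * l = l * i := Signalizer.ea_comm D.ea hi hl
      have e : ⁅x, i * l⁆ = ⁅x, l⁆ := by
        rw [hil, commutatorElement_def, mul_inv_rev,
          show x * (l * i) * x⁻¹ * (i⁻¹ * l⁻¹) = x * l * (i * x⁻¹ * i⁻¹) * l⁻¹ by group,
          show i * x⁻¹ = x⁻¹ * i from ((show Commute x i from hxi).symm.inv_right).eq,
          mul_inv_cancel_right, commutatorElement_def]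
      rwa [e]
  have hn1 : W ≤ normalizer (W1 : Set G) := by
    refine iSup_le fun l y hy => mem_normalizer_fintype fun z hz => ?_
    suffices h : W1 ≤ W1.comap (MulAut.conj y).toMonoidHom from h hz
    exact iSup_le fun i p hp => hconj l.1 l.2.1 l.2.2 y hy i.1 i.2.1 i.2.2 p hp
  have hW1c : ∀ {w g : G}, w ∈ W1 → g ∈ W → g * w * g⁻¹ ∈ W1 := fun hw hg =>
    (mem_normalizer_iff.1 (hn1 hg) _).1 hw
  -- the derived group is central modulo its pieces
  have hcent : ∀ l ∈ V, l ≠ 1 → ∀ z ∈ N l, ∀ x ∈ W', ⁅x, z⁆ ∈ W1 := by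
    intro l hl hl1 z hz x hx
    obtain ⟨w, hw, c, hc, rfl⟩ := hmem x hx
    have hzW : z ∈ W := le_span hl hl1 hz
    have hcW : c ∈ W := hW'W (mem_inf.1 hc).1
    have h1 : ⁅c, z⁆ ∈ W1 := le_span (N := fun v => N v ⊓ W') hl hl1 (mem_inf.2
      ⟨mul_mem ((mem_normalizer_iff.1 (D.norm l hl hl1 (mem_inf.2 ⟨hWU hcW, (mem_inf.1 (hCv l hl hc)).2⟩)) z).1 hz)
        (inv_mem hz), commutator_mem_commutator hcW hzW⟩)
    have h2 : ⁅w, z⁆ ∈ W1 := by
      rw [commutatorElement_def, show w * z * w⁻¹ * z⁻¹ = w * (z * w⁻¹ * z⁻¹) by group]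
      exact mul_mem hw (hW1c (inv_mem hw) hzW)
    have e : ⁅w * c, z⁆ = w * ⁅c, z⁆ * w⁻¹ * ⁅w, z⁆ := by simp only [commutatorElement_def]; group
    rw [e]
    exact mul_mem (mul_mem (mul_mem hw h1) (inv_mem hw)) h2
  let L : ∀ x : G, x ∈ W → Subgroup G := fun x hx =>
    { carrier := {g | g ∈ W ∧ ⁅x, g⁆ ∈ W1}
      one_mem' := ⟨one_mem _, by simp⟩
      mul_mem' := fun {a b} ha hb => ⟨mul_mem ha.1 hb.1, by
        rw [show ⁅x, a * b⁆ = ⁅x, a⁆ * (a * ⁅x, b⁆ * a⁻¹) by simp only [commutatorElement_def]; group]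
        exact mul_mem ha.2 (hW1c hb.2 ha.1)⟩
      inv_mem' := fun {a} ha => ⟨inv_mem ha.1, by
        rw [show ⁅x, a⁻¹⁆ = a⁻¹ * ⁅x, a⁆⁻¹ * a⁻¹⁻¹ by simp only [commutatorElement_def]; group]
        exact hW1c (inv_mem ha.2) (inv_mem ha.1)⟩ }
  have hall : ∀ x ∈ W', ∀ g ∈ W, ⁅x, g⁆ ∈ W1 := fun x hx g hg =>
    ((iSup_le fun v y hy => ⟨le_span v.2.1 v.2.2 hy, hcent v.1 v.2.1 v.2.2 y hy x hx⟩ :
      W ≤ L x (hW'W hx)) hg).2
  haveI hQn : (W1.subgroupOf W).Normal := normal_subgroupOf_of_le_normalizer hn1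
  set π := QuotientGroup.mk' (W1.subgroupOf W) with hπ
  have hπ1 : ∀ {y : W}, π y = 1 ↔ (y : G) ∈ W1 := fun {y} =>
    (QuotientGroup.eq_one_iff y).trans mem_subgroupOf
  have hπc : ∀ {x y : W}, (x : G) ∈ W' → Commute (π x) (π y) := fun {x y} hx => by
    rw [← commutatorElement_eq_one_iff_commute, ← map_commutatorElement, hπ1]
    simpa [commutatorElement_def] using hall x hx y y.2
  -- two pieces commute modulo the pieces of the derived group
  have hpair : ∀ l ∈ V, l ≠ 1 → ∀ z ∈ N l, ∀ g ∈ W, ⁅z, g⁆ ∈ W1 := by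
    intro l hl hl1 z hz
    obtain ⟨hzU, hzl⟩ := mem_inf.1 (D.le l hl hl1 hz)
    have hzW : z ∈ W := le_span hl hl1 hz
    have hin : ∀ p ∈ N l, ⁅z, p⁆ ∈ W1 := fun p hp => le_span (N := fun v => N v ⊓ W') hl hl1 (mem_inf.2
      ⟨mul_mem (mul_mem (mul_mem hz hp) (inv_mem hz)) (inv_mem hp),
        commutator_mem_commutator hzW (le_span hl hl1 hp)⟩)
    suffices h : W ≤ L z hzW from fun g hg => (h hg).2
    refine iSup_le fun i => ?_
    obtain ⟨i, hi, hi1⟩ := i
    show N i ≤ L z hzW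
    rcases eq_or_ne l i with rfl | hli
    · exact fun p hp => ⟨le_span hi hi1 hp, hin p hp⟩
    have hPU : N i ≤ U := (D.le i hi hi1).trans inf_le_left
    rw [← D.split hPU (D.ninv i hi hi1)]
    refine sup_le ?_ fun p hp => ⟨le_span hi hi1 (mem_inf.1 hp).1, hin p (D.fixed i hi hi1 l hl hl1 hp)⟩
    rw [commutator_le]
    intro p hp v hv
    have hpW : p ∈ W := le_span hi hi1 hp
    have hpi : p * i = i * p := mem_cc.1 (mem_inf.1 (D.le i hi hi1 hp)).2
    have key : ⁅p, l⁆ ∈ L z hzW := by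
      have hzl' : z * l = l * z := mem_cc.1 hzl
      set p' := l * p * l⁻¹ with hp'
      have hp'W : p' ∈ W := (mem_normalizer_iff.1 (hWV hl) p).1 hpW
      have e : ⁅p, l⁆ = p * p'⁻¹ := by rw [hp', commutatorElement_def]; group
      refine ⟨by rw [e]; exact mul_mem hpW (inv_mem hp'W), ?_⟩
      have hf : ⁅z, p⁆ ∈ W' := commutator_mem_commutator hzW hpW
      have e2 : ⁅z, p'⁆ = l * ⁅z, p⁆ * l⁻¹ := by
        calc ⁅z, p'⁆ = z * l * p * (z * l)⁻¹ * l * p⁻¹ * l⁻¹ := by
              rw [hp', commutatorElement_def]; group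
          _ = l * z * p * (l * z)⁻¹ * l * p⁻¹ * l⁻¹ := by rw [hzl']
          _ = _ := by rw [commutatorElement_def]; group
      let Z : W := ⟨z, hzW⟩
      let A : W := ⟨p, hpW⟩
      let B : W := ⟨p', hp'W⟩
      have h1 : π ⁅Z, A⁆ = π ⁅Z, B⁆ := by
        rw [← mul_inv_eq_one, ← map_inv, ← map_mul, hπ1]
        show ⁅z, p⁆ * ⁅z, p'⁆⁻¹ ∈ W1
        rw [e2]
        exact hmod l hl _ hf
      have hc := fun y : W => hπc (x := ⁅Z, A⁆) (y := y) hf
      have h2 : π ⁅Z, A * B⁻¹⁆ = 1 := by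
        have hc2 := hc (A * B⁻¹)
        rw [map_commutatorElement, map_mul, map_inv] at hc2
        rw [map_commutatorElement, map_commutatorElement] at h1
        rw [map_commutatorElement, map_mul, map_inv]
        rw [show ⁅π Z, π A * (π B)⁻¹⁆ = ⁅π Z, π A⁆ * ((π A * (π B)⁻¹) * ⁅π Z, π B⁆⁻¹ * (π A * (π B)⁻¹)⁻¹) by
          simp only [commutatorElement_def]; group, ← h1, hc2.inv_left.symm.eq, mul_inv_cancel_right,
          mul_inv_cancel]
      rw [e]
      exact hπ1.1 h2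
    rcases htwo i hi hi1 l hl hl1 hli v hv with rfl | rfl | rfl | rfl
    · rw [commutatorElement_one_right]; exact one_mem _
    · rw [show ⁅p, v⁆ = 1 from commutatorElement_eq_one_iff_mul_comm.2 hpi]; exact one_mem _
    · exact key
    · have e : ⁅p, i * l⁆ = ⁅p, l⁆ := by
        rw [Signalizer.ea_comm D.ea hi hl, commutatorElement_def, mul_inv_rev,
          show p * (l * i) * p⁻¹ * (i⁻¹ * l⁻¹) = p * l * (i * p⁻¹ * i⁻¹) * l⁻¹ by group,
          show i * p⁻¹ = p⁻¹ * i from ((show Commute p i from hpi).symm.inv_right).eq,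
          mul_inv_cancel_right, commutatorElement_def]
      rwa [e]
  have hW'1 : W' ≤ W1 := by
    rw [hW', commutator_le]
    intro g hg h hh
    have := (iSup_le fun v y hy => ⟨le_span v.2.1 v.2.2 hy, by
      have := inv_mem (hpair v.1 v.2.1 v.2.2 y hy g hg)
      rwa [commutatorElement_inv] at this⟩ : W ≤ L g hg) hh
    exact this.2
  -- the abelian quotient
  set T := ⁅W, V⁆ ⊔ W1 with hT
  set G0 := N u ⊓ centralizer (V : Set G) with hG0
  have hTW : T ≤ W := sup_le (CoprimeAct.commutator_le_left hWV) (hW1W.trans hW'W)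
  have hTn : W ≤ normalizer (T : Set G) :=
    (le_inf (normalizer_commutator_ge_left W V) hn1).trans (normalizer_inf_normalizer_le_normalizer_sup _ _)
  have hG0W : G0 ≤ W := inf_le_left.trans (le_span hu hu1)
  have hWT : W ≤ T ⊔ G0 := by
    refine iSup_le fun v => ?_
    obtain ⟨v, hv, hv1⟩ := v
    show N v ≤ _
    rw [← D.split ((D.le v hv hv1).trans inf_le_left) (D.ninv v hv hv1)]
    exact sup_le_sup ((commutator_mono (le_span hv hv1) le_rfl).trans le_sup_left)
      (le_inf (D.fixed v hv hv1 u hu hu1) inf_le_right)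
  intro k hk
  obtain ⟨hkW, hkV⟩ := mem_inf.1 hk
  have h := hWT hkW
  rw [← SetLike.mem_coe, coe_mul_of_right_le_normalizer_left _ _ (hG0W.trans hTn)] at h
  obtain ⟨d, hd, g, hg, rfl⟩ := h
  refine mul_mem (hfix1 u hu hu1 (mem_inf.2 ⟨?_, ?_⟩)) (mem_inf.1 hg).1
  swap
  · simpa using mul_mem hkV (inv_mem (mem_inf.1 hg).2)
  have hdV : ∀ v ∈ V, v * d = d * v := fun v hv =>
    mem_centralizer_iff.1 (by simpa using mul_mem hkV (inv_mem (mem_inf.1 hg).2)) v hv
  have hQc : ∀ a b : W ⧸ W1.subgroupOf W, a * b = b * a := by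
    intro a b
    induction a using QuotientGroup.induction_on with
    | _ a =>
      induction b using QuotientGroup.induction_on with
      | _ b =>
        rw [← commutatorElement_eq_one_iff_mul_comm]
        exact (map_commutatorElement π a b).symm.trans (hπ1.2 (hW'1 (commutator_mem_commutator a.2 b.2)))
  letI : CommGroup (W ⧸ W1.subgroupOf W) :=
    { (inferInstance : Group (W ⧸ W1.subgroupOf W)) with mul_comm := hQc }
  haveI := Fintype.ofFinite V
  let σ : V → W →* W ⧸ W1.subgroupOf W := fun s => MonoidHom.mk'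
    (fun x => π ⟨(s : G) * x * (s : G)⁻¹, (mem_normalizer_iff.1 (hWV s.2) x).1 x.2⟩) fun x y => by
      rw [← map_mul]; exact congrArg π (Subtype.ext (by simp [mul_assoc]))
  let τ : W →* W ⧸ W1.subgroupOf W := ∏ s : V, σ s
  have hτ : ∀ x, τ x = ∏ s : V, σ s x := fun x => MonoidHom.finsetProd_apply ..
  have hkill : T ≤ τ.ker.map W.subtype := by
    refine sup_le ?_ fun x hx => ⟨⟨x, hW'W (hW1W hx)⟩, ?_, rfl⟩
    swap
    · rw [SetLike.mem_coe, MonoidHom.mem_ker, hτ]
      exact Finset.prod_eq_one fun s _ => hπ1.2 ((mem_normalizer_iff.1 (hW1V s.2) x).1 hx)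
    rw [commutator_le]
    intro x hx v hv
    refine ⟨⟨x, hx⟩ * ⟨v * x * v⁻¹, (mem_normalizer_iff.1 (hWV hv) x).1 hx⟩⁻¹, ?_, ?_⟩
    · rw [SetLike.mem_coe, MonoidHom.mem_ker, map_mul, map_inv, mul_inv_eq_one, hτ, hτ]
      rw [← Equiv.prod_comp (Equiv.mulRight (⟨v, hv⟩ : V)) fun s => σ s ⟨x, hx⟩]
      exact Finset.prod_congr rfl fun s _ => congrArg π (Subtype.ext (by simp [mul_assoc]))
    · simp [commutatorElement_def, mul_assoc]
  obtain ⟨d', hd', hdd⟩ := hkill hd
  have h4 : τ d' = π d' ^ 4 := by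
    rw [hτ, ← D.card, Nat.card_eq_fintype_card, ← Finset.card_univ, ← Finset.prod_const]
    exact Finset.prod_congr rfl fun s _ => congrArg π (Subtype.ext (by
      show (s : G) * (d' : G) * (s : G)⁻¹ = d'
      rw [show (d' : G) = d from hdd, hdV _ s.2, mul_inv_cancel_right]))
  rw [SetLike.mem_coe, MonoidHom.mem_ker, h4, ← map_pow, hπ1, Subgroup.coe_pow, show (d' : G) = d from hdd] at hd'
  have hdo : Odd (orderOf d) := ClosedAbelian.odd_orderOf_of_mem D.odd (hWU (hTW hd))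
  refine ClosedAbelian.mem_of_sq_mem (ClosedAbelian.mem_of_sq_mem ?_ ?_) hdo
  · simpa [pow_succ, mul_assoc] using hd'
  · rw [← pow_two, orderOf_pow]
    exact hdo.of_dvd_nat (Nat.div_dvd_of_dvd (Nat.gcd_dvd_left _ _))

/-- The fixed points of the join. -/
theorem FourData.span_inf (D : FourData V U N) {v : G} (hv : v ∈ V) (h1 : v ≠ 1) :
    span V N ⊓ cc v ≤ N v := by
  have hV := D.inv_cc D.span_inv hv
  rw [← D.split (inf_le_left.trans D.span_le) hV]
  exact sup_le ((commutator_mono (inf_le_inf_right _ D.span_le) le_rfl).trans (D.comm v hv h1))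
    ((inf_le_inf_right _ inf_le_left).trans (span_fixed _ V U N D rfl v hv h1))

end Cfsg.Agent.CommPair
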