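import Cfsg.Agent.Lib.CommPair.Side
import Cfsg.Agent.Lib.Signalizer.Local
import Cfsg.Agent.Lib.Signalizer.SFT.Main
import Cfsg.Agent.Lib.Sims.Shift

/-!
The mixed parts over a pair of commuting four groups generate an odd group with the expected fixed points.
-/

set_option autoImplicit false
set_option linter.unusedSectionVars false
set_option linter.style.haveILetI false

namespace Cfsg.Agent.CommPair

open Subgroup Cfsg.Agent.SylowSplit
open Cfsg.Agent.ClosedAbelian (core core_le core_odd core_normalized conj_mem_core)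
open scoped commutatorElement

universe u

variable {G : Type u} [Group G] [Finite G]

/-- Two commuting four groups, one of each kind. -/
structure Rect (S₁ S₂ E₁ E₂ : Subgroup G) : Prop where
  four₁ : IsFour S₁ E₁
  four₂ : IsFour S₂ E₂
  comm : ∀ a ∈ E₁, ∀ b ∈ E₂, Commute a b

/-- The common part of the cores over a subgroup. -/
def meet (H : Subgroup G) : Subgroup G := ⨅ c : {c : G // c ∈ H ∧ c ≠ 1}, core (cc c.1)

/-- The join of the mixed parts. -/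
def joinF (E₁ E₂ : Subgroup G) : Subgroup G :=
  ⨆ p : {p : G × G // (p.1 ∈ E₁ ∧ p.1 ≠ 1) ∧ p.2 ∈ E₂ ∧ p.2 ≠ 1}, F p.1.1 p.1.2

/-- The value of the functor at an element. -/
def theta (E₁ E₂ : Subgroup G) (f : G) : Subgroup G :=
  ⨆ p : {p : G × G // (p.1 ∈ E₁ ∧ p.1 ≠ 1) ∧ p.2 ∈ E₂ ∧ p.2 ≠ 1}, F p.1.1 p.1.2 ⊓ cc f

theorem F_le_joinF {E₁ E₂ : Subgroup G} {a b : G} (ha : a ∈ E₁) (ha1 : a ≠ 1) (hb : b ∈ E₂) (hb1 : b ≠ 1) :
    F a b ≤ joinF E₁ E₂ :=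
  le_iSup (fun p : {p : G × G // (p.1 ∈ E₁ ∧ p.1 ≠ 1) ∧ p.2 ∈ E₂ ∧ p.2 ≠ 1} => F p.1.1 p.1.2)
    ⟨(a, b), ⟨ha, ha1⟩, hb, hb1⟩

theorem F_le_theta {E₁ E₂ : Subgroup G} {a b : G} (ha : a ∈ E₁) (ha1 : a ≠ 1) (hb : b ∈ E₂) (hb1 : b ≠ 1)
    (f : G) : F a b ⊓ cc f ≤ theta E₁ E₂ f :=
  le_iSup (fun p : {p : G × G // (p.1 ∈ E₁ ∧ p.1 ≠ 1) ∧ p.2 ∈ E₂ ∧ p.2 ≠ 1} => F p.1.1 p.1.2 ⊓ cc f)
    ⟨(a, b), ⟨ha, ha1⟩, hb, hb1⟩

theorem meet_le {H : Subgroup G} {c : G} (hc : c ∈ H) (hc1 : c ≠ 1) : meet H ≤ core (cc c) :=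
  iInf_le (fun c : {c : G // c ∈ H ∧ c ≠ 1} => core (cc c.1)) ⟨c, hc, hc1⟩

theorem meet_anti {H K : Subgroup G} (h : H ≤ K) : meet K ≤ meet H :=
  le_iInf fun c => meet_le (h c.2.1) c.2.2

theorem meet_le_centralizer (H : Subgroup G) : meet H ≤ centralizer (H : Set G) := fun x hx =>
  mem_centralizer_iff.2 fun c hc => by
    rcases eq_or_ne c 1 with rfl | hc1
    · rw [one_mul, mul_one]
    · exact (mem_cc.1 (core_le _ (meet_le hc hc1 hx))).eq.symm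

theorem cc_of_centralizer {H : Subgroup G} {c : G} (hc : c ∈ H) :
    centralizer (H : Set G) ≤ cc c := fun _ hx =>
  mem_cc.2 (mem_centralizer_iff.1 hx c hc).symm

theorem IsFour.cases {T E : Subgroup G} (h : IsFour T E) {a b : G} (ha : a ∈ E) (ha1 : a ≠ 1) (hb : b ∈ E)
    (hb1 : b ≠ 1) (hab : a ≠ b) {x : G} (hx : x ∈ E) : x = 1 ∨ x = a ∨ x = b ∨ x = a * b := by
  have hs : ∀ y ∈ E, y * y = 1 := fun y hy => (pow_two y).symm.trans (h.ea.2 y hy)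
  set K := four a b (hs a ha) (hs b hb) (h.comm ha hb) with hK
  have hKE : K ≤ E := by
    rintro y (rfl | rfl | rfl | rfl)
    exacts [one_mem _, ha, hb, mul_mem ha hb]
  have h4 : Nat.card K = 4 := by
    show Nat.card ({1, a, b, a * b} : Set G) = 4
    have h3 : a * b ≠ 1 := fun e => hab (by rw [mul_eq_one_iff_eq_inv.1 e, inv_eq_of_mul_eq_one_right (hs b hb)])
    have h4 : a ≠ a * b := fun e => hb1 (left_eq_mul.1 e)
    have h5 : b ≠ a * b := fun e => ha1 (right_eq_mul.1 e)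
    rw [Nat.card_coe_set_eq, Set.ncard_insert_of_notMem (by simp [ha1.symm, hb1.symm, h3.symm]),
      Set.ncard_insert_of_notMem (by simp [hab, h4]), Set.ncard_pair h5]
  have hx' : x ∈ K := by rwa [eq_of_le_of_card_ge hKE (by rw [h4, h.card])]
  exact hx'

variable {P : Sylow 2 G} {S₁ S₂ E₁ E₂ : Subgroup G}

namespace Rect

theorem symm (R : Rect S₁ S₂ E₁ E₂) : Rect S₂ S₁ E₂ E₁ :=
  ⟨R.four₂, R.four₁, fun b hb a ha => (R.comm a ha b hb).symm⟩

theorem le_normalizer (R : Rect S₁ S₂ E₁ E₂) : E₂ ≤ normalizer (E₁ : Set G) :=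
  le_trans (fun b hb => mem_centralizer_iff.2 fun a ha => (R.comm a ha b hb).eq)
    (centralizer_le_normalizer (E₁ : Set G))

theorem commute_sup (R : Rect S₁ S₂ E₁ E₂) {x y : G} (hx : x ∈ E₁ ⊔ E₂) (hy : y ∈ E₁ ⊔ E₂) :
    Commute x y := by
  rw [← SetLike.mem_coe, coe_mul_of_right_le_normalizer_left _ _ R.le_normalizer] at hx hy
  obtain ⟨a, ha, b, hb, rfl⟩ := hx
  obtain ⟨a', ha', b', hb', rfl⟩ := hy
  exact ((R.four₁.comm ha ha').mul_left (R.comm a' ha' b hb).symm).mul_right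
    ((R.comm a ha b' hb').mul_left (R.four₂.comm hb hb'))

theorem exists_mul (R : Rect S₁ S₂ E₁ E₂) {x : G} (hx : x ∈ E₁ ⊔ E₂) : ∃ a ∈ E₁, ∃ b ∈ E₂, a * b = x := by
  rw [← SetLike.mem_coe, coe_mul_of_right_le_normalizer_left _ _ R.le_normalizer] at hx
  exact hx

theorem ea (R : Rect S₁ S₂ E₁ E₂) : Cfsg.IsElementaryAbelian 2 (E₁ ⊔ E₂) := by
  refine ⟨⟨⟨fun x y => Subtype.ext (R.commute_sup x.2 y.2).eq⟩⟩, fun x hx => ?_⟩
  obtain ⟨a, ha, b, hb, rfl⟩ := R.exists_mul hx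
  rw [(R.comm a ha b hb).mul_pow, R.four₁.ea.2 a ha, R.four₂.ea.2 b hb, one_mul]

theorem card (C : Ctx P S₁ S₂) (R : Rect S₁ S₂ E₁ E₂) : Nat.card ↥(E₁ ⊔ E₂) = 16 := by
  rw [SolvBasic.card_sup_of_inf_eq_bot R.le_normalizer, R.four₁.card, R.four₂.card]
  rw [eq_bot_iff]
  intro x hx
  rw [mem_bot]
  by_contra h
  exact h (C.pair.eq_one (R.four₁.mem x (mem_inf.1 hx).1 h).2 (R.four₂.mem x (mem_inf.1 hx).2 h).2)

theorem meets (C : Ctx P S₁ S₂) (R : Rect S₁ S₂ E₁ E₂) {H : Subgroup G} (hH : H ≤ E₁ ⊔ E₂)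
    (h8 : 8 ≤ Nat.card H) : ∃ a ∈ E₁, a ≠ 1 ∧ a ∈ H := by
  by_contra hcon
  push_neg at hcon
  have hb : H ⊓ E₁ = ⊥ := eq_bot_iff.2 fun x hx => mem_bot.2 (by
    by_contra h
    exact hcon x (mem_inf.1 hx).2 h (mem_inf.1 hx).1)
  have h := Sims.card_mul_card_le hH (le_sup_left : E₁ ≤ E₁ ⊔ E₂)
  rw [R.card C, hb, card_bot, R.four₁.card] at h
  omega

theorem normalizes_core (R : Rect S₁ S₂ E₁ E₂) {c : G} (hc : c ∈ E₁ ⊔ E₂) :
    E₁ ⊔ E₂ ≤ normalizer (core (cc c) : Set G) :=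
  le_trans (fun _ hx => mem_cc.2 (R.commute_sup hx hc)) (core_normalized _)

theorem normalizes_meet (R : Rect S₁ S₂ E₁ E₂) {H : Subgroup G} (hH : H ≤ E₁ ⊔ E₂) :
    E₁ ⊔ E₂ ≤ normalizer (meet H : Set G) :=
  (le_iInf fun c : {c : G // c ∈ H ∧ c ≠ 1} => R.normalizes_core (hH c.2.1)).trans
    (iInf_normalizer_le_normalizer_iInf _)

theorem normalizes_cc (R : Rect S₁ S₂ E₁ E₂) {c : G} (hc : c ∈ E₁ ⊔ E₂) :
    E₁ ⊔ E₂ ≤ normalizer (cc c : Set G) :=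
  le_trans (fun _ hx => mem_cc.2 (R.commute_sup hx hc)) Subgroup.le_normalizer

/-- A mixed part, as far as it centralises `H`, lies in all the cores over `H`. -/
theorem F_inf_le_meet (C : Ctx P S₁ S₂) (R : Rect S₁ S₂ E₁ E₂) {a b : G} (ha : a ∈ E₁) (ha1 : a ≠ 1)
    (hb : b ∈ E₂) (hb1 : b ≠ 1) {H : Subgroup G} (hH : H ≤ E₁ ⊔ E₂) {X : Subgroup G} (hX : X ≤ F a b)
    (hXH : X ≤ centralizer (H : Set G)) : X ≤ meet H :=
  le_iInf fun c => (le_inf hX (hXH.trans (cc_of_centralizer c.2.1))).trans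
    (C.balance (R.four₁.mem a ha ha1) (R.four₂.mem b hb hb1) c.2.2
      (R.commute_sup (hH c.2.1) (mem_sup_left ha)) (R.commute_sup (hH c.2.1) (mem_sup_right hb)))

/-- Generation over the subgroups of index two at most containing a set centralised by `X`. -/
theorem gen (C : Ctx P S₁ S₂) (R : Rect S₁ S₂ E₁ E₂) {X Z K : Subgroup G}
    (hXA : E₁ ⊔ E₂ ≤ normalizer (X : Set G)) (hX : ¬ 2 ∣ Nat.card X) (hK : K ≤ E₁ ⊔ E₂)
    (hXK : X ≤ centralizer (K : Set G))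
    (h : ∀ H ≤ E₁ ⊔ E₂, K ≤ H → 8 ≤ Nat.card H → X ⊓ centralizer (H : Set G) ≤ Z) : X ≤ Z := by
  haveI : Fact (Nat.Prime 2) := ⟨Nat.prime_two⟩
  refine Signalizer.le_of_hyperplane_le R.ea (by rw [R.card C]; norm_num) hXA hX fun D hD hc => ?_
  have h8 : 8 ≤ Nat.card D := by rw [R.card C] at hc; omega
  refine le_trans (le_inf inf_le_left ?_)
    (h (D ⊔ K) (sup_le hD hK) le_sup_right (h8.trans (card_le_of_le le_sup_left)))
  rw [le_centralizer_iff]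
  exact sup_le (le_centralizer_iff.1 inf_le_right) ((le_centralizer_iff.1 hXK).trans (centralizer_le inf_le_left))

/-- Two of the large subgroups meeting in a member of the first kind. -/
theorem pair_pure (C : Ctx P S₁ S₂) (R : Rect S₁ S₂ E₁ E₂) {f c : G} (hf : f ∈ E₁ ⊔ E₂) (hf1 : f ≠ 1)
    (hc : c ∈ E₁) (hc1 : c ≠ 1) :
    ∃ X : Subgroup G, X ≤ core (cc f) ∧ E₁ ⊔ E₂ ≤ normalizer (X : Set G) ∧
      (∀ H ≤ E₁ ⊔ E₂, f ∈ H → 8 ≤ Nat.card H → c ∈ H → meet H ≤ X) ∧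
      ∀ L ≤ E₁ ⊔ E₂, 8 ≤ Nat.card L → X ⊓ centralizer (L : Set G) ≤ meet L := by
  have hcI := R.four₁.mem c hc hc1
  have hEc : E₂ ≤ cc c := fun b hb => mem_cc.2 (R.comm c hc b hb).symm
  have D := C.symm.fourData R.four₂ hcI hEc
  refine ⟨span E₂ (fun v => F v c) ⊓ core (cc f), inf_le_right, ?_, fun H hHA hfH h8 hcH => ?_,
    fun L hL h8 => ?_⟩
  · refine Signalizer.le_normalizer_inf ?_ (R.normalizes_core hf)
    refine le_trans (le_iInf fun v => ?_) (iInf_normalizer_le_normalizer_iSup _)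
    exact Signalizer.le_normalizer_inf (R.normalizes_core (mem_sup_right v.2.1))
      (R.normalizes_core (mem_sup_left hc))
  · obtain ⟨b, hb, hb1, hbH⟩ := R.symm.meets C.symm (H := H) (by rwa [sup_comm]) h8
    exact le_inf ((le_inf (meet_le hbH hb1) (meet_le hcH hc1)).trans
      (le_span (N := fun v => F v c) hb hb1)) (meet_le hfH hf1)
  · obtain ⟨b, hb, hb1, hbL⟩ := R.symm.meets C.symm (H := L) (by rwa [sup_comm]) h8
    refine R.F_inf_le_meet C hc hc1 hb hb1 hL ?_ inf_le_right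
    rw [F_comm]
    exact (le_inf (inf_le_left.trans inf_le_left) (inf_le_right.trans (cc_of_centralizer hbL))).trans
      (D.span_inf hb hb1)

/-- Two of the large subgroups meeting only in mixed elements. -/
theorem pair_mixed (C : Ctx P S₁ S₂) (R : Rect S₁ S₂ E₁ E₂) {f g a₀ b₀ a₁ b₁ : G} (hfe : a₀ * b₀ = f)
    (hge : a₁ * b₁ = g) (ha₀ : a₀ ∈ E₁) (ha₀' : a₀ ≠ 1) (hb₀ : b₀ ∈ E₂) (hb₀' : b₀ ≠ 1) (ha₁ : a₁ ∈ E₁)
    (ha₁' : a₁ ≠ 1) (hb₁ : b₁ ∈ E₂) (hb₁' : b₁ ≠ 1) (hna : a₀ ≠ a₁) (hnb : b₀ ≠ b₁) :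
    ∃ X : Subgroup G, X ≤ core (cc f) ∧ E₁ ⊔ E₂ ≤ normalizer (X : Set G) ∧
      (∀ H ≤ E₁ ⊔ E₂, f ∈ H → 8 ≤ Nat.card H → g ∈ H → meet H ≤ X) ∧
      ∀ L ≤ E₁ ⊔ E₂, 8 ≤ Nat.card L → X ⊓ centralizer (L : Set G) ≤ meet L := by
  have hfA : f ∈ E₁ ⊔ E₂ := hfe ▸ mul_mem (mem_sup_left ha₀) (mem_sup_right hb₀)
  have hgA : g ∈ E₁ ⊔ E₂ := hge ▸ mul_mem (mem_sup_left ha₁) (mem_sup_right hb₁)
  set J := closure ({f, g} : Set G) with hJ
  have hJA : J ≤ E₁ ⊔ E₂ := (closure_le _).2 (Set.insert_subset hfA (Set.singleton_subset_iff.2 hgA))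
  have hfJ : f ∈ J := subset_closure (Set.mem_insert _ _)
  have hgJ : g ∈ J := subset_closure (Set.mem_insert_of_mem _ rfl)
  have hf1 : f ≠ 1 := fun e => ha₀' (by
    rw [← hfe, mul_eq_one_iff_eq_inv] at e
    by_contra h
    exact h (C.pair.eq_one (R.four₁.mem a₀ ha₀ ha₀').2
      (e ▸ (R.four₂.mem _ (inv_mem hb₀) (inv_ne_one.2 hb₀')).2)))
  -- every involution of the first four group occurs in a product in `J`
  have hk : ∀ k ∈ E₁, k ≠ 1 → ∃ k₂ ∈ E₂, k₂ ≠ 1 ∧ k * k₂ ∈ J := by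
    intro k hk hk1
    rcases R.four₁.cases ha₀ ha₀' ha₁ ha₁' hna hk with h | rfl | rfl | rfl
    · exact absurd h hk1
    · exact ⟨b₀, hb₀, hb₀', hfe ▸ hfJ⟩
    · exact ⟨b₁, hb₁, hb₁', hge ▸ hgJ⟩
    · refine ⟨b₀ * b₁, mul_mem hb₀ hb₁, fun e => hnb ?_, ?_⟩
      · rw [mul_eq_one_iff_eq_inv.1 e, Invol.inv_self (R.four₂.mem b₁ hb₁ hb₁').1]
      · rw [show a₀ * a₁ * (b₀ * b₁) = a₀ * b₀ * (a₁ * b₁) by
          rw [mul_assoc, ← mul_assoc a₁, (R.comm a₁ ha₁ b₀ hb₀).eq]; group, hfe, hge]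
        exact mul_mem hfJ hgJ
  set U := core (cc f) ⊓ centralizer (J : Set G) with hU
  have hUA : E₁ ⊔ E₂ ≤ normalizer (U : Set G) := Signalizer.le_normalizer_inf (R.normalizes_core hfA)
    ((le_trans (fun x hx => mem_centralizer_iff.2 fun y hy => (R.commute_sup (hJA hy) hx).eq)
      Subgroup.le_normalizer : E₁ ⊔ E₂ ≤ normalizer (centralizer (J : Set G) : Set G)))
  have hsub : ∀ v ∈ E₁, J ⊔ zpowers v ≤ E₁ ⊔ E₂ := fun v hv =>
    sup_le hJA (zpowers_le.2 (mem_sup_left hv))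
  have hcen : ∀ v : G, U ⊓ cc v ≤ centralizer ((J ⊔ zpowers v : Subgroup G) : Set G) := fun v => by
    rw [le_centralizer_iff]
    exact sup_le ((le_centralizer_iff.1 inf_le_right).trans (centralizer_le inf_le_left))
      (zpowers_le.2 (mem_centralizer_iff.2 fun x hx => (mem_cc.1 (mem_inf.1 hx).2).eq))
  have D : FourData E₁ U fun v => meet (J ⊔ zpowers v) :=
    { ea := R.four₁.ea
      card := R.four₁.card
      odd := fun h => core_odd _ (h.trans (card_dvd_of_le inf_le_left))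
      inv := le_sup_left.trans hUA
      le := fun v hv hv1 => le_inf (le_inf (meet_le (mem_sup_left hfJ) hf1)
          ((meet_le_centralizer _).trans (centralizer_le (SetLike.coe_subset_coe.2 le_sup_left))))
        ((meet_le (mem_sup_right (mem_zpowers v)) hv1).trans (core_le _))
      norm := fun v hv hv1 => (le_iInf fun c : {c : G // c ∈ J ⊔ zpowers v ∧ c ≠ 1} =>
          ((hcen v).trans (cc_of_centralizer c.2.1)).trans (core_normalized _)).trans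
        (iInf_normalizer_le_normalizer_iInf _)
      ninv := fun v hv _ => le_sup_left.trans (R.normalizes_meet (hsub v hv))
      comm := fun v hv hv1 => by
        refine commutator_le.2 fun y hy k hk' => ?_
        rcases eq_or_ne k 1 with rfl | hk1
        · simp
        obtain ⟨v₂, hv₂, hv₂1, hvJ⟩ := hk v hv hv1
        obtain ⟨k₂, hk₂, hk₂1, hkJ⟩ := hk k hk' hk1
        have hv₂H : v₂ ∈ J ⊔ zpowers v := by
          rw [show v₂ = v⁻¹ * (v * v₂) by group]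
          exact mul_mem (inv_mem (mem_sup_right (mem_zpowers v))) (mem_sup_left hvJ)
        have hyc := hcen v hy
        have hk2 : k * k = 1 := Invol.mul_self (R.four₁.mem k hk' hk1).1
        have he : ⁅y, k⁆ = ⁅y, k₂⁆ := by
          have h1 : Commute y (k * k₂) :=
            mem_cc.1 (cc_of_centralizer (mem_sup_left hkJ) hyc)
          have h2 : k₂ * k₂ = 1 := Invol.mul_self (R.four₂.mem k₂ hk₂ hk₂1).1
          calc ⁅y, k⁆ = y * k * y⁻¹ * k := by rw [commutatorElement_def, inv_eq_of_mul_eq_one_right hk2]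
            _ = y * k₂ * (k * k₂) * y⁻¹ * k := by
              rw [show k * k₂ = k₂ * k from (R.comm k hk' k₂ hk₂).eq, ← mul_assoc (y * k₂), mul_assoc y k₂ k₂,
                h2, mul_one]
            _ = y * k₂ * y⁻¹ * (k * k₂) * k := by rw [mul_assoc (y * k₂), ← h1.inv_left.eq, ← mul_assoc]
            _ = y * k₂ * y⁻¹ * k₂ := by
              rw [show k * k₂ = k₂ * k from (R.comm k hk' k₂ hk₂).eq, mul_assoc _ (k₂ * k), mul_assoc k₂,
                hk2, mul_one]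
            _ = ⁅y, k₂⁆ := by rw [commutatorElement_def, inv_eq_of_mul_eq_one_right h2]
        have hya : Commute y v := mem_cc.1 (mem_inf.1 hy).2
        have hyb : Commute y v₂ := mem_cc.1 (cc_of_centralizer hv₂H hyc)
        refine R.F_inf_le_meet C hv hv1 hv₂ hv₂1 (hsub v hv) (X := zpowers ⁅y, k⁆) (zpowers_le.2 ?_)
          (zpowers_le.2 ?_) (mem_zpowers _)
        · refine C.commutator_mem_both (Or.inr (R.four₁.mem a₀ ha₀ ha₀')) (Or.inr (R.four₂.mem b₀ hb₀ hb₀'))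
            (R.comm a₀ ha₀ b₀ hb₀) (R.four₁.mem v hv hv1) (R.four₂.mem v₂ hv₂ hv₂1) (R.four₁.mem k hk' hk1)
            (R.four₂.mem k₂ hk₂ hk₂1) (hfe.symm ▸ (mem_inf.1 (mem_inf.1 hy).1).1)
            (hfe.symm ▸ R.commute_sup (mem_sup_left hk') hfA) he ?_
          have hcA : ∀ c ∈ E₁ ⊔ E₂, Commute c v ∧ Commute c v₂ := fun c hc =>
            ⟨R.commute_sup hc (mem_sup_left hv), R.commute_sup hc (mem_sup_right hv₂)⟩
          rintro c (rfl | rfl | rfl | rfl | rfl)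
          exacts [hcA _ (mem_sup_left ha₀), hcA _ (mem_sup_right hb₀), hcA _ (mem_sup_left hk'),
            hcA _ (mem_sup_right hk₂), ⟨hya, hyb⟩]
        · exact hcen v ((CoprimeAct.commutator_le_left (Signalizer.le_normalizer_inf (le_sup_left.trans hUA)
            (le_sup_left.trans (R.normalizes_cc (mem_sup_left hv))))) (commutator_mem_commutator hy hk'))
      fixed := fun v hv hv1 w hw _ => by
        obtain ⟨v₂, hv₂, hv₂1, hvJ⟩ := hk v hv hv1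
        have hv₂H : v₂ ∈ J ⊔ zpowers v := by
          rw [show v₂ = v⁻¹ * (v * v₂) by group]
          exact mul_mem (inv_mem (mem_sup_right (mem_zpowers v))) (mem_sup_left hvJ)
        refine R.F_inf_le_meet C hv hv1 hv₂ hv₂1 (hsub w hw) (inf_le_left.trans
          (le_inf (meet_le (mem_sup_right (mem_zpowers v)) hv1) (meet_le hv₂H hv₂1))) ?_
        rw [le_centralizer_iff]
        exact sup_le
          ((le_centralizer_iff.1 (meet_le_centralizer (J ⊔ zpowers v))).trans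
            (centralizer_le inf_le_left) |> le_trans le_sup_left)
          (zpowers_le.2 (mem_centralizer_iff.2 fun x hx =>
            (mem_centralizer_iff.1 (mem_inf.1 hx).2 w hw).symm)) }
  refine ⟨span E₁ fun v => meet (J ⊔ zpowers v), D.span_le.trans inf_le_left, ?_, fun H hHA hfH h8 hgH => ?_,
    fun L hL h8 => ?_⟩
  · exact (le_iInf fun v : {v : G // v ∈ E₁ ∧ v ≠ 1} => R.normalizes_meet (hsub v.1 v.2.1)).trans
      (iInf_normalizer_le_normalizer_iSup _)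
  · obtain ⟨v, hv, hv1, hvH⟩ := R.meets C hHA h8
    exact (meet_anti (sup_le ((closure_le _).2 (Set.insert_subset hfH (Set.singleton_subset_iff.2 hgH)))
      (zpowers_le.2 hvH))).trans (le_span (N := fun v => meet (J ⊔ zpowers v)) hv hv1)
  · obtain ⟨v, hv, hv1, hvL⟩ := R.meets C hL h8
    obtain ⟨v₂, hv₂, hv₂1, hvJ⟩ := hk v hv hv1
    have hv₂H : v₂ ∈ J ⊔ zpowers v := by
      rw [show v₂ = v⁻¹ * (v * v₂) by group]
      exact mul_mem (inv_mem (mem_sup_right (mem_zpowers v))) (mem_sup_left hvJ)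
    refine R.F_inf_le_meet C hv hv1 hv₂ hv₂1 hL ?_ inf_le_right
    exact ((le_inf inf_le_left (inf_le_right.trans (cc_of_centralizer hvL))).trans (D.span_inf hv hv1)).trans
      (le_inf (meet_le (mem_sup_right (mem_zpowers v)) hv1) (meet_le hv₂H hv₂1))

/-- The value of the functor is good. -/
theorem theta_inf (C : Ctx P S₁ S₂) (R : Rect S₁ S₂ E₁ E₂) {f : G} (hf : f ∈ E₁ ⊔ E₂) (hf1 : f ≠ 1) {a b : G}
    (ha : a ∈ E₁) (ha1 : a ≠ 1) (hb : b ∈ E₂) (hb1 : b ≠ 1) :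
    theta E₁ E₂ f ⊓ cc a ⊓ cc b ≤ F a b := by
  haveI : Fact (Nat.Prime 2) := ⟨Nat.prime_two⟩
  set A := E₁ ⊔ E₂ with hA
  set U := core (cc f) with hU
  have hUo : ¬ 2 ∣ Nat.card U := core_odd _
  have hUf : U ≤ centralizer (zpowers f : Set G) := by rw [centralizer_zpowers]; exact core_le _
  have hfH : ∀ H : Subgroup G, zpowers f ≤ H → f ∈ H := fun H h => h (mem_zpowers f)
  let I := {H : Subgroup G // H ≤ A ∧ f ∈ H ∧ 8 ≤ Nat.card H}
  have hgen : ∀ X Z : Subgroup G, A ≤ normalizer (X : Set G) → X ≤ U →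
      (∀ H : I, X ⊓ centralizer (H.1 : Set G) ≤ Z) → X ≤ Z := fun X Z hXA hXU h =>
    R.gen C hXA (fun e => hUo (e.trans (card_dvd_of_le hXU))) (zpowers_le.2 hf) (hXU.trans hUf)
      fun H hH hKH h8 => h ⟨H, hH, hfH H hKH, h8⟩
  have hW : ∀ H : I, (⨆ H : I, meet H.1) ⊓ centralizer (H.1 : Set G) ≤ meet H.1 := by
    refine Signalizer.complete_of_coherent (A := A) (K := U) (OddChar.oddSolvable _ ?_)
      (Signalizer.coprime_card (Signalizer.ea_isPGroup R.ea) hUo) (fun H : I => H.1) (fun H : I => meet H.1)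
      (fun H => H.2.1) (fun H => meet_le H.2.2.1 hf1) (fun H => R.normalizes_meet H.2.1) hgen ?_
    · rwa [← Nat.not_even_iff_odd, even_iff_two_dvd]
    rintro ⟨H, hH, hfH, hH8⟩ ⟨K, hK, hfK, hK8⟩
    have h4 : 4 ≤ Nat.card ↥(H ⊓ K) := by
      have h := Sims.card_mul_card_le hH hK
      rw [hA, R.card C] at h
      nlinarith [Nat.mul_le_mul hH8 hK8]
    obtain ⟨g, hg, hg1, hgf⟩ : ∃ g ∈ H ⊓ K, g ≠ 1 ∧ g ≠ f := by
      by_contra hcon
      push_neg at hcon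
      have hs : ((H ⊓ K : Subgroup G) : Set G) ⊆ {1, f} := fun x hx => by
        by_cases h1 : x = 1
        · exact Or.inl h1
        · exact Or.inr (hcon x hx h1)
      have h2 := (Set.ncard_le_ncard hs).trans (Set.ncard_insert_le _ _)
      rw [Set.ncard_singleton, ← Nat.card_coe_set_eq] at h2
      change Nat.card ↥(H ⊓ K) ≤ 1 + 1 at h2
      omega
    let Q : Prop := ∃ X : Subgroup G, X ≤ U ∧ A ≤ normalizer (X : Set G) ∧ meet H ≤ X ∧ meet K ≤ X ∧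
      ∀ L : I, X ⊓ centralizer (L.1 : Set G) ≤ meet L.1
    have key : ∀ c ∈ H ⊓ K, ∀ X : Subgroup G, X ≤ U → A ≤ normalizer (X : Set G) →
        (∀ L ≤ A, f ∈ L → 8 ≤ Nat.card L → c ∈ L → meet L ≤ X) →
        (∀ L ≤ A, 8 ≤ Nat.card L → X ⊓ centralizer (L : Set G) ≤ meet L) →
        ∃ X : Subgroup G, X ≤ U ∧ A ≤ normalizer (X : Set G) ∧ meet H ≤ X ∧ meet K ≤ X ∧
          ∀ L : I, X ⊓ centralizer (L.1 : Set G) ≤ meet L.1 :=
      fun c hc X h1 h2 h3 h4 => ⟨X, h1, h2, h3 H hH hfH hH8 (mem_inf.1 hc).1,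
        h3 K hK hfK hK8 (mem_inf.1 hc).2, fun L => h4 L.1 L.2.1 L.2.2.2⟩
    have hfHK : f ∈ H ⊓ K := mem_inf.2 ⟨hfH, hfK⟩
    have pure₁ : ∀ c ∈ H ⊓ K, c ∈ E₁ → c ≠ 1 → Q := fun c hc hc1 hc1' => by
      obtain ⟨X, h1, h2, h3, h4⟩ := R.pair_pure C hf hf1 hc1 hc1'
      exact key c hc X h1 h2 h3 h4
    have pure₂ : ∀ c ∈ H ⊓ K, c ∈ E₂ → c ≠ 1 → Q := fun c hc hc1 hc1' => by
      obtain ⟨X, h1, h2, h3, h4⟩ := R.symm.pair_pure C.symm (by rwa [sup_comm]) hf1 hc1 hc1'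
      rw [sup_comm] at h2 h3 h4
      exact key c hc X h1 h2 h3 h4
    obtain ⟨a₀, ha₀, b₀, hb₀, hfe⟩ := R.exists_mul hf
    obtain ⟨a₁, ha₁, b₁, hb₁, hge⟩ := R.exists_mul (hH (mem_inf.1 hg).1)
    by_cases ha₀' : a₀ = 1
    · rw [ha₀', one_mul] at hfe
      exact pure₂ f hfHK (hfe ▸ hb₀) hf1
    by_cases hb₀' : b₀ = 1
    · rw [hb₀', mul_one] at hfe
      exact pure₁ f hfHK (hfe ▸ ha₀) hf1
    by_cases ha₁' : a₁ = 1
    · rw [ha₁', one_mul] at hge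
      exact pure₂ g hg (hge ▸ hb₁) hg1
    by_cases hb₁' : b₁ = 1
    · rw [hb₁', mul_one] at hge
      exact pure₁ g hg (hge ▸ ha₁) hg1
    by_cases hna : a₀ = a₁
    · refine pure₂ (f⁻¹ * g) (mul_mem (inv_mem hfHK) hg) ?_ fun e => hgf (inv_mul_eq_one.1 e).symm
      rw [← hfe, ← hge, hna, show (a₁ * b₀)⁻¹ * (a₁ * b₁) = b₀⁻¹ * b₁ by group]
      exact mul_mem (inv_mem hb₀) hb₁
    by_cases hnb : b₀ = b₁
    · refine pure₁ (g * f⁻¹) (mul_mem hg (inv_mem hfHK)) ?_ fun e => hgf (mul_inv_eq_one.1 e)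
      rw [← hfe, ← hge, hnb, show a₁ * b₁ * (a₀ * b₁)⁻¹ = a₁ * a₀⁻¹ by group]
      exact mul_mem ha₁ (inv_mem ha₀)
    obtain ⟨X, h1, h2, h3, h4⟩ :=
      R.pair_mixed C hfe hge ha₀ ha₀' hb₀ hb₀' ha₁ ha₁' hb₁ hb₁' hna hnb
    exact key g hg X h1 h2 h3 h4
  -- the value is inside
  set W := ⨆ H : I, meet H.1 with hWdef
  have hWU : W ≤ U := iSup_le fun H => meet_le H.2.2.1 hf1
  have hWA : A ≤ normalizer (W : Set G) :=
    (le_iInf fun H : I => R.normalizes_meet H.2.1).trans (iInf_normalizer_le_normalizer_iSup _)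
  have hθ : theta E₁ E₂ f ≤ W := iSup_le fun p => by
    obtain ⟨⟨a, b⟩, ⟨ha, ha1⟩, hb, hb1⟩ := p
    refine hgen _ _ (Signalizer.le_normalizer_inf (Signalizer.le_normalizer_inf
      (R.normalizes_core (mem_sup_left ha)) (R.normalizes_core (mem_sup_right hb))) (R.normalizes_cc hf))
      (C.balance (R.four₁.mem a ha ha1) (R.four₂.mem b hb hb1) hf1 (R.commute_sup hf (mem_sup_left ha))
        (R.commute_sup hf (mem_sup_right hb))) fun H => ?_
    exact (R.F_inf_le_meet C ha ha1 hb hb1 H.2.1 (inf_le_left.trans inf_le_left) inf_le_right).trans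
      (le_iSup (fun H : I => meet H.1) H)
  refine le_trans (inf_le_inf_right _ (inf_le_inf_right _ hθ)) ?_
  have hK : zpowers f ⊔ zpowers a ⊔ zpowers b ≤ A :=
    sup_le (sup_le (zpowers_le.2 hf) (zpowers_le.2 (mem_sup_left ha))) (zpowers_le.2 (mem_sup_right hb))
  refine R.gen C (Signalizer.le_normalizer_inf (Signalizer.le_normalizer_inf hWA
      (R.normalizes_cc (mem_sup_left ha))) (R.normalizes_cc (mem_sup_right hb)))
    (fun e => hUo (e.trans (card_dvd_of_le ((inf_le_left.trans inf_le_left).trans hWU)))) hK ?_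
    fun H hH hKH h8 => ?_
  · rw [le_centralizer_iff]
    refine sup_le (sup_le (zpowers_le.2 ?_) (zpowers_le.2 ?_)) (zpowers_le.2 ?_) <;>
      refine mem_centralizer_iff.2 fun x hx => ?_
    · exact (mem_cc.1 (core_le _ (hWU (mem_inf.1 (mem_inf.1 hx).1).1))).eq
    · exact (mem_cc.1 (mem_inf.1 (mem_inf.1 hx).1).2).eq
    · exact (mem_cc.1 (mem_inf.1 hx).2).eq
  · exact ((inf_le_inf_right _ (inf_le_left.trans inf_le_left)).trans
      (hW ⟨H, hH, hKH (mem_sup_left (mem_sup_left (mem_zpowers f))), h8⟩)).trans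
      (le_inf (meet_le (hKH (mem_sup_left (mem_sup_right (mem_zpowers a)))) ha1)
        (meet_le (hKH (mem_sup_right (mem_zpowers b))) hb1))

theorem theta_le_core (C : Ctx P S₁ S₂) (R : Rect S₁ S₂ E₁ E₂) {f : G} (hf : f ∈ E₁ ⊔ E₂) (hf1 : f ≠ 1) :
    theta E₁ E₂ f ≤ core (cc f) :=
  iSup_le fun p => C.balance (R.four₁.mem _ p.2.1.1 p.2.1.2) (R.four₂.mem _ p.2.2.1 p.2.2.2) hf1
    (R.commute_sup hf (mem_sup_left p.2.1.1)) (R.commute_sup hf (mem_sup_right p.2.2.1))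

theorem normalizes_theta (R : Rect S₁ S₂ E₁ E₂) {f : G} (hf : f ∈ E₁ ⊔ E₂) :
    E₁ ⊔ E₂ ≤ normalizer (theta E₁ E₂ f : Set G) :=
  (le_iInf fun p : {p : G × G // (p.1 ∈ E₁ ∧ p.1 ≠ 1) ∧ p.2 ∈ E₂ ∧ p.2 ≠ 1} =>
    Signalizer.le_normalizer_inf (Signalizer.le_normalizer_inf (R.normalizes_core (mem_sup_left p.2.1.1))
      (R.normalizes_core (mem_sup_right p.2.2.1))) (R.normalizes_cc hf)).trans
    (iInf_normalizer_le_normalizer_iSup _)

theorem normalizes_joinF (R : Rect S₁ S₂ E₁ E₂) : E₁ ⊔ E₂ ≤ normalizer (joinF E₁ E₂ : Set G) :=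
  (le_iInf fun p : {p : G × G // (p.1 ∈ E₁ ∧ p.1 ≠ 1) ∧ p.2 ∈ E₂ ∧ p.2 ≠ 1} =>
    Signalizer.le_normalizer_inf (R.normalizes_core (mem_sup_left p.2.1.1))
      (R.normalizes_core (mem_sup_right p.2.2.1))).trans
    (iInf_normalizer_le_normalizer_iSup _)

theorem functor (C : Ctx P S₁ S₂) (R : Rect S₁ S₂ E₁ E₂) :
    Cfsg.IsSolvableSignalizerFunctor 2 (E₁ ⊔ E₂) (theta E₁ E₂) := by
  haveI : Fact (Nat.Prime 2) := ⟨Nat.prime_two⟩
  have hodd : ∀ f ∈ E₁ ⊔ E₂, f ≠ 1 → ¬ 2 ∣ Nat.card (theta E₁ E₂ f) := fun f hf hf1 h =>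
    core_odd _ (h.trans (card_dvd_of_le (R.theta_le_core C hf hf1)))
  refine ⟨⟨fun f _ _ => iSup_le fun _ => inf_le_right, hodd,
    fun f hf _ => Signalizer.le_normalizer_iff_conj_mem.1 (R.normalizes_theta hf), fun f hf hf1 g hg hg1 => ?_⟩,
    fun f hf hf1 => OddChar.oddSolvable _ (by
      rw [← Nat.not_even_iff_odd, even_iff_two_dvd]; exact hodd f hf hf1)⟩
  set X := theta E₁ E₂ f ⊓ cc g with hX
  have hXA : E₁ ⊔ E₂ ≤ normalizer (X : Set G) :=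
    Signalizer.le_normalizer_inf (R.normalizes_theta hf) (R.normalizes_cc hg)
  have hXo : ¬ 2 ∣ Nat.card X := fun h => hodd f hf hf1 (h.trans (card_dvd_of_le inf_le_left))
  refine Signalizer.le_of_centralizer_le R.four₁.ea (by rw [R.four₁.card]; norm_num)
    (le_sup_left.trans hXA) hXo fun a ha ha1 => ?_
  refine Signalizer.le_of_centralizer_le R.four₂.ea (by rw [R.four₂.card]; norm_num)
    (le_sup_right.trans (Signalizer.le_normalizer_inf hXA (R.normalizes_cc (mem_sup_left ha))))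
    (fun h => hXo (h.trans (card_dvd_of_le inf_le_left))) fun b hb hb1 => ?_
  exact (le_inf ((inf_le_inf_right _ (inf_le_inf_right _ inf_le_left)).trans (R.theta_inf C hf hf1 ha ha1 hb hb1))
    ((inf_le_left.trans inf_le_left).trans inf_le_right)).trans (F_le_theta ha ha1 hb hb1 g)

theorem joinF_eq (R : Rect S₁ S₂ E₁ E₂) :
    joinF E₁ E₂ = ⨆ f : {f : G // f ∈ E₁ ⊔ E₂ ∧ f ≠ 1}, theta E₁ E₂ f.1 := by
  refine le_antisymm (iSup_le fun p => ?_) (iSup_le fun f => iSup_le fun p =>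
    inf_le_left.trans (F_le_joinF p.2.1.1 p.2.1.2 p.2.2.1 p.2.2.2))
  exact ((le_inf le_rfl (inf_le_left.trans (core_le _))).trans
    (F_le_theta p.2.1.1 p.2.1.2 p.2.2.1 p.2.2.2 p.1.1)).trans
    (le_iSup (fun f : {f : G // f ∈ E₁ ⊔ E₂ ∧ f ≠ 1} => theta E₁ E₂ f.1)
      ⟨p.1.1, mem_sup_left p.2.1.1, p.2.1.2⟩)

theorem joinF_odd (C : Ctx P S₁ S₂) (R : Rect S₁ S₂ E₁ E₂) : ¬ 2 ∣ Nat.card (joinF E₁ E₂) := by
  haveI : Fact (Nat.Prime 2) := ⟨Nat.prime_two⟩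
  rw [R.joinF_eq]
  exact (Signalizer.SFT.iSup_props R.ea (by rw [R.card C]; norm_num) (R.functor C)).1.2.1

/-- The fixed points of the join. -/
theorem joinF_inf (C : Ctx P S₁ S₂) (R : Rect S₁ S₂ E₁ E₂) {a b : G} (ha : a ∈ E₁) (ha1 : a ≠ 1)
    (hb : b ∈ E₂) (hb1 : b ≠ 1) : joinF E₁ E₂ ⊓ cc a ≤ Y a b := by
  haveI : Fact (Nat.Prime 2) := ⟨Nat.prime_two⟩
  have h := (Signalizer.SFT.iSup_props R.ea (by rw [R.card C]; norm_num) (R.functor C)).2 a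
    (mem_sup_left ha) ha1
  rw [← R.joinF_eq] at h
  rw [C.symm.Y_eq_span R.four₂ (R.four₁.mem a ha ha1)
    (fun x hx => mem_cc.2 (R.comm a ha x hx).symm) hb hb1]
  refine h.le.trans (iSup_le fun p => ?_)
  refine le_trans ?_ (le_span (N := fun v => F v a) p.2.2.1 p.2.2.2)
  exact le_inf (inf_le_left.trans inf_le_right) (C.balance (R.four₁.mem _ p.2.1.1 p.2.1.2)
    (R.four₂.mem _ p.2.2.1 p.2.2.2) ha1 (R.four₁.comm ha p.2.1.1) (R.comm a ha _ p.2.2.1))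

/-- The join is generated by the parts at one four group. -/
theorem joinF_eq_Y (C : Ctx P S₁ S₂) (R : Rect S₁ S₂ E₁ E₂) {a : G} (ha : a ∈ E₁) (ha1 : a ≠ 1) :
    joinF E₁ E₂ = ⨆ b : {b : G // b ∈ E₂ ∧ b ≠ 1}, Y b.1 a := by
  have e : ∀ b : {b : G // b ∈ E₂ ∧ b ≠ 1}, Y b.1 a = span E₁ fun v => F v b.1 := fun b =>
    C.Y_eq_span R.four₁ (R.four₂.mem _ b.2.1 b.2.2) (fun x hx => mem_cc.2 (R.comm x hx _ b.2.1)) ha ha1
  refine le_antisymm (iSup_le fun p => ?_) (iSup_le fun b => ?_)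
  · refine le_trans ?_ (le_iSup (fun b : {b : G // b ∈ E₂ ∧ b ≠ 1} => Y b.1 a) ⟨p.1.2, p.2.2⟩)
    rw [e]
    exact le_span (N := fun v => F v p.1.2) p.2.1.1 p.2.1.2
  · rw [e]
    exact iSup_le fun v => F_le_joinF v.2.1 v.2.2 b.2.1 b.2.2

theorem joinF_symm (E₁ E₂ : Subgroup G) : joinF E₁ E₂ = joinF E₂ E₁ :=
  le_antisymm (iSup_le fun p => (F_comm _ _).le.trans (F_le_joinF p.2.2.1 p.2.2.2 p.2.1.1 p.2.1.2))
    (iSup_le fun p => (F_comm _ _).le.trans (F_le_joinF p.2.2.1 p.2.2.2 p.2.1.1 p.2.1.2))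

/-- Changing one four group inside the centraliser of the other, keeping an involution. -/
theorem joinF_change (C : Ctx P S₁ S₂) {E₁' : Subgroup G} (R : Rect S₁ S₂ E₁ E₂) (R' : Rect S₁ S₂ E₁' E₂)
    {a : G} (ha : a ∈ E₁) (ha' : a ∈ E₁') (ha1 : a ≠ 1) : joinF E₁ E₂ = joinF E₁' E₂ := by
  rw [R.joinF_eq_Y C ha ha1, R'.joinF_eq_Y C ha' ha1]

end Rect

end Cfsg.Agent.CommPair
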