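import Cfsg.Agent.Lib.CommPair.Side
import Cfsg.Agent.Lib.GateCons.Kernel
import Cfsg.Agent.Lib.TwoGroups.NormalFour

/-!
The commuting graph on the involutions of one kind inside a subgroup, and four groups around a given involution.
-/

set_option autoImplicit false
set_option linter.unusedSectionVars false
set_option linter.style.haveILetI false

namespace Cfsg.Agent.CommPair

open Subgroup Cfsg.Agent.SylowSplit
open Cfsg.Agent.ClosedAbelian (core core_le core_odd core_normalized conj_mem_core)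
open scoped commutatorElement

universe u

variable {G : Type u} [Group G] [Finite G]

/-- Adjacent involutions: commuting, or conjugate under the odd core. -/
def Adj (X T : Subgroup G) (x y : G) : Prop :=
  (x ∈ X ∧ x ∈ Invs T) ∧ (y ∈ X ∧ y ∈ Invs T) ∧ (Commute x y ∨ ∃ o ∈ core X, o * x * o⁻¹ = y)

/-- Being in one component. -/
def Conn (X T : Subgroup G) : G → G → Prop := Relation.EqvGen (Adj X T)

/-- One component only. -/
def Connected (X T : Subgroup G) : Prop :=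
  ∀ x y, x ∈ X → x ∈ Invs T → y ∈ X → y ∈ Invs T → Conn X T x y

variable {X T : Subgroup G}

theorem Conn.commute {x y : G} (hx : x ∈ X) (hx' : x ∈ Invs T) (hy : y ∈ X) (hy' : y ∈ Invs T)
    (h : Commute x y) : Conn X T x y :=
  Relation.EqvGen.rel _ _ ⟨⟨hx, hx'⟩, ⟨hy, hy'⟩, Or.inl h⟩

theorem Conn.trans {x y w : G} (h₁ : Conn X T x y) (h₂ : Conn X T y w) : Conn X T x w :=
  Relation.EqvGen.trans _ _ _ h₁ h₂

theorem Conn.symm {x y : G} (h : Conn X T x y) : Conn X T y x := Relation.EqvGen.symm _ _ h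

theorem Conn.refl (x : G) : Conn X T x x := Relation.EqvGen.refl x

theorem Conn.conj {x y g : G} (hg : g ∈ X) (h : Conn X T x y) :
    Conn X T (g * x * g⁻¹) (g * y * g⁻¹) := by
  induction h with
  | rel a b hab =>
    obtain ⟨⟨ha, ha'⟩, ⟨hb, hb'⟩, hab⟩ := hab
    refine Relation.EqvGen.rel _ _ ⟨⟨mul_mem (mul_mem hg ha) (inv_mem hg), Invs.conj ha' g⟩,
      ⟨mul_mem (mul_mem hg hb) (inv_mem hg), Invs.conj hb' g⟩, ?_⟩
    rcases hab with h | ⟨o, ho, rfl⟩
    · exact Or.inl (h.map (MulAut.conj g).toMonoidHom)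
    · exact Or.inr ⟨g * o * g⁻¹, conj_mem_core hg ho, by group⟩
  | refl a => exact Conn.refl _
  | symm a b _ ih => exact ih.symm
  | trans a b c _ _ ih₁ ih₂ => exact ih₁.trans ih₂

/-- The stabiliser of the component of `z`. -/
def stab (X T : Subgroup G) (z : G) : Subgroup G where
  carrier := {g | g ∈ X ∧ Conn X T z (g * z * g⁻¹)}
  one_mem' := ⟨one_mem X, by simpa using Conn.refl (X := X) (T := T) z⟩
  mul_mem' {a b} ha hb := ⟨mul_mem ha.1 hb.1, ha.2.trans (by
    simpa [mul_assoc] using hb.2.conj ha.1)⟩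
  inv_mem' {a} ha := ⟨inv_mem ha.1, by
    simpa [mul_assoc] using (ha.2.conj (inv_mem ha.1)).symm⟩

theorem mem_stab {z g : G} : g ∈ stab X T z ↔ g ∈ X ∧ Conn X T z (g * z * g⁻¹) := Iff.rfl

theorem stab_le (z : G) : stab X T z ≤ X := fun _ h => h.1

theorem cc_le_stab {z t : G} (h : Conn X T z t) : cc t ⊓ X ≤ stab X T z := fun g hg => by
  obtain ⟨hgt, hgX⟩ := mem_inf.1 hg
  refine ⟨hgX, h.trans ?_⟩
  have h' := h.symm.conj hgX
  rwa [(mem_cc.1 hgt).eq, mul_inv_cancel_right] at h'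

variable {P : Sylow 2 G}

/-- Two involutions are in one component or conjugate under what they generate. -/
theorem conn_or_conj (hT : Cfsg.IsStronglyClosed T (P : Subgroup G)) {a c : G} (haX : a ∈ X) (ha : a ∈ Invs T)
    (hcX : c ∈ X) (hc : c ∈ Invs T) :
    Conn X T a c ∨ ∃ d ∈ closure ({a, c} : Set G), d * a * d⁻¹ = c := by
  rcases dihedral hT ha hc with h | ⟨w, hw, hwC, hwa, hwc⟩
  · exact Or.inr h
  have hwX : w ∈ X := (closure_le X).2 (Set.insert_subset haX (Set.singleton_subset_iff.2 hcX)) hwC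
  exact Or.inl ((Conn.commute haX ha hwX hw hwa.symm).trans (Conn.commute hwX hw hcX hc hwc))

/-- The stabiliser fixes one point. -/
theorem stab_fix (hT : Cfsg.IsStronglyClosed T (P : Subgroup G)) {z g : G} (hzX : z ∈ X) (hz : z ∈ Invs T)
    (hgX : g ∈ X) (hg : g * z * g⁻¹ ∈ stab X T z) : g ∈ stab X T z := by
  refine ⟨hgX, ?_⟩
  have hzS : z ∈ stab X T z := cc_le_stab (Conn.refl z) (mem_inf.2 ⟨mem_cc.2 (Commute.refl z), hzX⟩)
  rcases conn_or_conj hT hzX hz (stab_le z hg) (Invs.conj hz g) with h | ⟨d, hd, hdz⟩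
  · exact h
  · rw [← hdz]
    exact ((closure_le (stab X T z)).2 (Set.insert_subset hzS (Set.singleton_subset_iff.2 hg)) hd).2

/-- A component stabiliser is proper unless there is one component. -/
theorem connected_of_stab (hT : Cfsg.IsStronglyClosed T (P : Subgroup G)) {z : G} (hzX : z ∈ X)
    (hz : z ∈ Invs T) (h : X ≤ stab X T z) : Connected X T := by
  have key : ∀ c, c ∈ X → c ∈ Invs T → Conn X T z c := fun c hcX hc => by
    rcases conn_or_conj hT hzX hz hcX hc with h' | ⟨d, hd, rfl⟩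
    · exact h'
    · exact (h ((closure_le X).2 (Set.insert_subset hzX (Set.singleton_subset_iff.2 hcX)) hd)).2
  exact fun x y hxX hx hyX hy => (key x hxX hx).symm.trans (key y hyX hy)

/-- With two components all involutions of the kind are conjugate. -/
theorem conj_of_not_connected (hT : Cfsg.IsStronglyClosed T (P : Subgroup G)) (hn : ¬ Connected X T)
    {a c : G} (haX : a ∈ X) (ha : a ∈ Invs T) (hcX : c ∈ X) (hc : c ∈ Invs T) :
    ∃ d ∈ X, d * a * d⁻¹ = c := by
  have hsep : ∀ p q, p ∈ X → p ∈ Invs T → q ∈ X → q ∈ Invs T → ¬ Conn X T p q →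
      ∃ d ∈ X, d * p * d⁻¹ = q := fun p q hpX hp hqX hq hpq => by
    obtain ⟨d, hd, hdq⟩ := (conn_or_conj hT hpX hp hqX hq).resolve_left hpq
    exact ⟨d, (closure_le X).2 (Set.insert_subset hpX (Set.singleton_subset_iff.2 hqX)) hd, hdq⟩
  by_cases hac : Conn X T a c
  swap
  · exact hsep a c haX ha hcX hc hac
  obtain ⟨e, heX, he, hea⟩ : ∃ e ∈ X, e ∈ Invs T ∧ ¬ Conn X T a e := by
    by_contra hcon
    push_neg at hcon
    exact hn fun x y hxX hx hyX hy => (hcon x hxX hx).symm.trans (hcon y hyX hy)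
  obtain ⟨d₁, hd₁, h₁⟩ := hsep a e haX ha heX he hea
  obtain ⟨d₂, hd₂, h₂⟩ := hsep c e hcX hc heX he fun h => hea (hac.trans h)
  refine ⟨d₂⁻¹ * d₁, mul_mem (inv_mem hd₂) hd₁, ?_⟩
  rw [show d₂⁻¹ * d₁ * a * (d₂⁻¹ * d₁)⁻¹ = d₂⁻¹ * (d₁ * a * d₁⁻¹) * d₂ by group, h₁, ← h₂]
  group

/-- A 2-subgroup containing a fused involution has a central one. -/
theorem exists_central (hT : Cfsg.IsStronglyClosed T (P : Subgroup G)) {W : Subgroup G} (hW : IsPGroup 2 W)
    {b : G} (hbW : b ∈ W) (hb : b ∈ Invs T) : ∃ z ∈ Invs T, z ∈ W ∧ ∀ w ∈ W, Commute w z := by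
  haveI : Fact (Nat.Prime 2) := ⟨Nat.prime_two⟩
  let N : Subgroup W :=
    { carrier := {y | InR T (y : G)}
      one_mem' := InR.of_mem (one_mem T)
      mul_mem' := fun {x y} hx hy => inR_mul hT hW x.2 y.2 hx hy
      inv_mem' := fun {x} hx => by
        obtain ⟨g, hg⟩ := hx
        exact ⟨g, by simpa [mul_assoc] using inv_mem hg⟩ }
  haveI : N.Normal := ⟨fun x hx w => by
    show InR T ((w : G) * x * (w : G)⁻¹)
    exact InR.conj hx _⟩
  have hN : N ≠ ⊥ := fun e => by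
    have h : (⟨b, hbW⟩ : W) ∈ N := hb.2
    rw [e, mem_bot] at h
    exact Invol.ne_one hb.1 (congrArg Subtype.val h)
  obtain ⟨z, hzN, hz, hzc⟩ := NormalFour.exists_central_mem hW hN
  refine ⟨z, ⟨?_, hzN⟩, z.2, fun w hw => congrArg Subtype.val (mem_center_iff.1 hzc ⟨w, hw⟩)⟩
  rwa [← Subgroup.orderOf_coe] at hz

/-- Outside the odd core and the centre, an involution commutes with another one of its kind. -/
theorem exists_partner (hT : Cfsg.IsStronglyClosed T (P : Subgroup G)) (hO : Cfsg.oddCore G = ⊥) {a : G}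
    (ha : a ∈ Invs T) (hproper : cc a ≠ ⊤) : ∃ a' ∈ Invs T, Commute a a' ∧ a' ≠ a := by
  by_contra hcon
  push_neg at hcon
  have h := BrauerSuzuki.zStar G a ha.1 fun g hc => hcon _ (Invs.conj ha g) hc
  refine hproper (eq_top_iff.2 fun g _ => mem_cc.2 ?_)
  have h' : g * a * g⁻¹ * a⁻¹ ∈ Cfsg.oddCore G := h g
  rw [hO, mem_bot, mul_inv_eq_one] at h'
  exact mul_inv_eq_iff_eq_mul.1 h'

/-- A four group around an involution of one kind, centralising the other kind in a given 2-group. -/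
theorem exists_four {T' : Subgroup G} (D : Pair P T T') (hO : Cfsg.oddCore G = ⊥) {Q : Subgroup G}
    (hQ : IsPGroup 2 Q) {a : G} (haQ : a ∈ Q) (ha : a ∈ Invs T) (hproper : ∀ y : G, y ≠ 1 → cc y ≠ ⊤) :
    ∃ E, IsFour T E ∧ a ∈ E ∧ ∀ x ∈ E, ∀ q ∈ Q, InR T' q → Commute x q := by
  haveI : Fact (Nat.Prime 2) := ⟨Nat.prime_two⟩
  obtain ⟨W, hQW⟩ := hQ.exists_le_sylow
  obtain ⟨z, hz, hzW, hzc⟩ := exists_central D.cl₁ W.isPGroup' (hQW haQ) ha
  have main : ∀ a', a' ∈ Invs T → a' ∈ (W : Subgroup G) → Commute a a' → a ≠ a' →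
      ∃ E, IsFour T E ∧ a ∈ E ∧ ∀ x ∈ E, ∀ q ∈ Q, InR T' q → Commute x q := by
    intro a' ha' ha'W hc hne
    refine ⟨_, IsFour.pair D.cl₁ ha ha' hc hne, Or.inr (Or.inl rfl), fun x hx q hq hqT => ?_⟩
    have h1 := D.commute W.isPGroup' (hQW haQ) (hQW hq) ha.2 hqT
    have h2 := D.commute W.isPGroup' ha'W (hQW hq) ha'.2 hqT
    rcases hx with rfl | rfl | rfl | rfl
    exacts [Commute.one_left q, h1, h2, h1.mul_left h2]
  by_cases hza : a = z
  swap
  · exact main z hz hzW (hzc a (hQW haQ)) hza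
  subst hza
  obtain ⟨a', ha', hc, hne⟩ := exists_partner D.cl₁ hO ha (hproper a (Invol.ne_one ha.1))
  obtain ⟨V, hV⟩ := (pGroup_pair (x := a) (y := a') ⟨1, by rw [ha.1, pow_one]⟩ ⟨1, by rw [ha'.1, pow_one]⟩
    (by rw [hc.eq, mul_inv_cancel_right]; exact mem_zpowers a')).exists_le_sylow
  obtain ⟨g, rfl⟩ := MulAction.exists_smul_eq G V W
  have hmem : ∀ x ∈ (V : Subgroup G), g * x * g⁻¹ ∈ ((g • V : Sylow 2 G) : Subgroup G) :=
    fun x hx => ⟨x, hx, rfl⟩
  have haV := hV (mem_sup_left (mem_zpowers a))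
  have ha'V := hV (mem_sup_right (mem_zpowers a'))
  -- a second involution of the kind in `W`
  by_cases h1 : g * a * g⁻¹ = a
  · refine main (g * a' * g⁻¹) (Invs.conj ha' g) (hmem a' ha'V) ((hzc _ (hmem a' ha'V)).symm) fun e => hne ?_
    have e' : g * a' * g⁻¹ = g * a * g⁻¹ := by rw [h1]; exact e.symm
    simpa using e'
  · exact main (g * a * g⁻¹) (Invs.conj ha g) (hmem a haV) ((hzc _ (hmem a haV)).symm) (Ne.symm h1)

end Cfsg.Agent.CommPair
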