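import Cfsg.Agent.Lib.CommPair.Balance
import Cfsg.Agent.Lib.CommPair.Four

/-!
The subgroup of a core generated by the mixed parts: it does not change along a commuting pair of involutions of
the first kind.
-/

set_option autoImplicit false
set_option linter.unusedSectionVars false
set_option linter.style.haveILetI false

namespace Cfsg.Agent.CommPair

open Subgroup Cfsg.Agent.SylowSplit
open Cfsg.Agent.ClosedAbelian (core core_le core_odd core_normalized conj_mem_core conj_core_le)
open scoped commutatorElement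

universe u

variable {G : Type u} [Group G] [Finite G]

/-- The subgroup `{1, a, a', a * a'}`. -/
def four (a a' : G) (ha : a * a = 1) (ha' : a' * a' = 1) (hc : Commute a a') : Subgroup G where
  carrier := {1, a, a', a * a'}
  one_mem' := Or.inl rfl
  mul_mem' := by
    have h1 : a' * a = a * a' := hc.eq.symm
    have h2 : a * (a * a') = a' := by rw [← mul_assoc, ha, one_mul]
    have h3 : a' * (a * a') = a := by rw [← mul_assoc, h1, mul_assoc, ha', mul_one]
    have h4 : a * a' * a = a' := by rw [mul_assoc, h1, h2]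
    have h5 : a * a' * a' = a := by rw [mul_assoc, ha', mul_one]
    have h6 : a * a' * (a * a') = 1 := by rw [mul_assoc, h3, ha]
    rintro x y (rfl | rfl | rfl | rfl) (rfl | rfl | rfl | rfl) <;>
      simp [ha, ha', h1, h2, h3, h4, h5, h6]
  inv_mem' := by
    have h6 : (a * a')⁻¹ = a * a' := by
      rw [mul_inv_rev, inv_eq_of_mul_eq_one_right ha, inv_eq_of_mul_eq_one_right ha']
      exact hc.eq.symm
    rintro x (rfl | rfl | rfl | rfl) <;>
      simp [inv_eq_of_mul_eq_one_right ha, inv_eq_of_mul_eq_one_right ha', h6]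

/-- A four group of involutions of one kind. -/
structure IsFour (T E : Subgroup G) : Prop where
  ea : Cfsg.IsElementaryAbelian 2 E
  card : Nat.card E = 4
  mem : ∀ x ∈ E, x ≠ 1 → x ∈ Invs T

namespace IsFour

variable {T E : Subgroup G}

theorem comm (h : IsFour T E) {x y : G} (hx : x ∈ E) (hy : y ∈ E) : Commute x y :=
  Signalizer.ea_comm h.ea hx hy

theorem exists_other (h : IsFour T E) {a : G} : ∃ x ∈ E, x ≠ 1 ∧ x ≠ a := by
  by_contra hcon
  push_neg at hcon
  have hs : (E : Set G) ⊆ {1, a} := fun x hx => by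
    by_cases h1 : x = 1
    · exact Or.inl h1
    · exact Or.inr (hcon x hx h1)
  have h2 := (Set.ncard_le_ncard hs).trans (Set.ncard_insert_le _ _)
  rw [Set.ncard_singleton] at h2
  have h4 : (E : Set G).ncard = 4 := (Nat.card_coe_set_eq _).symm.trans h.card
  omega

theorem pair {P : Sylow 2 G} (hT : Cfsg.IsStronglyClosed T (P : Subgroup G)) {a a' : G} (ha : a ∈ Invs T)
    (ha' : a' ∈ Invs T) (hc : Commute a a') (hne : a ≠ a') :
    IsFour T (four a a' (Invol.mul_self ha.1) (Invol.mul_self ha'.1) hc) := by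
  have hm : a * a' ∈ Invs T := invol_mul hT ha ha' hc hne
  have hsq : ∀ x ∈ four a a' (Invol.mul_self ha.1) (Invol.mul_self ha'.1) hc, x * x = 1 := by
    rintro x (rfl | rfl | rfl | rfl)
    exacts [one_mul 1, Invol.mul_self ha.1, Invol.mul_self ha'.1, Invol.mul_self hm.1]
  refine ⟨⟨⟨⟨fun x y => Subtype.ext ?_⟩⟩, fun x hx => (pow_two x).trans (hsq x hx)⟩, ?_, ?_⟩
  · have hxy := hsq _ (mul_mem x.2 y.2)
    show (x : G) * y = y * x
    rw [mul_eq_one_iff_eq_inv, mul_inv_rev, inv_eq_of_mul_eq_one_right (hsq _ x.2),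
      inv_eq_of_mul_eq_one_right (hsq _ y.2)] at hxy
    exact hxy
  · show Nat.card ({1, a, a', a * a'} : Set G) = 4
    have h1 := Invol.ne_one ha.1
    have h2 := Invol.ne_one ha'.1
    have h3 := Invol.ne_one hm.1
    have h4 : a ≠ a * a' := fun e => h2 (left_eq_mul.1 e)
    have h5 : a' ≠ a * a' := fun e => h1 (right_eq_mul.1 e)
    rw [Nat.card_coe_set_eq, Set.ncard_insert_of_notMem (by simp [h1.symm, h2.symm, h3.symm]),
      Set.ncard_insert_of_notMem (by simp [hne, h4]), Set.ncard_pair h5]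
  · rintro x (rfl | rfl | rfl | rfl) hx
    exacts [absurd rfl hx, ha, ha', hm]

end IsFour

/-- The part of the core at `b` attached to `a`. -/
def Y (b a : G) : Subgroup G := ⁅core (cc b), zpowers a⁆ ⊔ F a b

theorem centralizer_zpowers (a : G) : centralizer (zpowers a : Set G) = cc a := by
  rw [zpowers_eq_closure, centralizer_closure]
  rfl

theorem map_cc (g a : G) : (cc a).map (MulAut.conj g).toMonoidHom = cc (g * a * g⁻¹) := by
  ext x
  constructor
  · rintro ⟨y, hy, rfl⟩
    exact mem_cc.2 ((mem_cc.1 hy).map (MulAut.conj g).toMonoidHom)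
  · intro h
    refine ⟨g⁻¹ * x * g, mem_cc.2 ?_, by simp [mul_assoc]⟩
    have := (mem_cc.1 h).map (MulAut.conj g⁻¹).toMonoidHom
    simpa [mul_assoc] using this

theorem conj_core_cc (g a : G) {x : G} (hx : x ∈ core (cc a)) : g * x * g⁻¹ ∈ core (cc (g * a * g⁻¹)) := by
  rw [← map_cc]
  exact conj_core_le (cc a) g ⟨x, hx, rfl⟩

theorem conj_F (g a b : G) {x : G} (hx : x ∈ F a b) : g * x * g⁻¹ ∈ F (g * a * g⁻¹) (g * b * g⁻¹) :=
  mem_inf.2 ⟨conj_core_cc g a (mem_inf.1 hx).1, conj_core_cc g b (mem_inf.1 hx).2⟩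

theorem conj_Y (g b a : G) {x : G} (hx : x ∈ Y b a) : g * x * g⁻¹ ∈ Y (g * b * g⁻¹) (g * a * g⁻¹) := by
  suffices h : Y b a ≤ (Y (g * b * g⁻¹) (g * a * g⁻¹)).comap (MulAut.conj g).toMonoidHom by exact h hx
  refine sup_le (commutator_le.2 fun o ho z hz => ?_) fun y hy => mem_sup_right (conj_F g a b hy)
  show MulAut.conj g ⁅o, z⁆ ∈ Y (g * b * g⁻¹) (g * a * g⁻¹)
  rw [map_commutatorElement]
  refine mem_sup_left (commutator_mem_commutator (conj_core_cc g b ho) ?_)
  obtain ⟨i, rfl⟩ := mem_zpowers_iff.1 hz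
  exact mem_zpowers_iff.2 ⟨i, by rw [map_zpow]; rfl⟩

theorem Y_le_core (b a : G) (hab : Commute a b) : Y b a ≤ core (cc b) :=
  sup_le (CoprimeAct.commutator_le_left
    ((zpowers_le.2 (mem_cc.2 hab)).trans (core_normalized _))) inf_le_right

/-- The common centraliser normalises the parts. -/
theorem normalizes_Y {a b g : G} (hga : Commute g a) (hgb : Commute g b) :
    g ∈ normalizer (Y b a : Set G) := mem_normalizer_fintype fun x hx => by
  have h := conj_Y g b a hx
  rwa [hga.eq, hgb.eq, mul_inv_cancel_right, mul_inv_cancel_right] at h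

theorem normalizes_F {a b g : G} (hga : Commute g a) (hgb : Commute g b) :
    g ∈ normalizer (F a b : Set G) := mem_normalizer_fintype fun x hx => by
  have h := conj_F g a b hx
  rwa [hga.eq, hgb.eq, mul_inv_cancel_right, mul_inv_cancel_right] at h

variable {P : Sylow 2 G} {S₁ S₂ : Subgroup G}

namespace Ctx

/-- The data of a four group of the first kind acting on the core at an involution of the second. -/
theorem fourData (C : Ctx P S₁ S₂) {E : Subgroup G} (hE : IsFour S₁ E) {b : G} (hb : b ∈ Invs S₂)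
    (hEb : E ≤ cc b) : FourData E (core (cc b)) fun v => F v b where
  ea := hE.ea
  card := hE.card
  odd := core_odd _
  inv := hEb.trans (core_normalized _)
  le v _ _ := le_inf inf_le_right (inf_le_left.trans (core_le _))
  norm v _ _ x hx := normalizes_F (mem_cc.1 (mem_inf.1 hx).2) (mem_cc.1 (core_le _ (mem_inf.1 hx).1))
  ninv v hv _ x hx := normalizes_F (hE.comm hx hv) (mem_cc.1 (hEb hx))
  comm v hv hv1 := by
    refine commutator_le.2 fun y hy k hk => ?_
    obtain ⟨hyO, hyv⟩ := mem_inf.1 hy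
    rcases eq_or_ne k 1 with rfl | hk1
    · simp
    rw [F_comm]
    exact C.symm.commutator_mem hb (hE.mem v hv hv1) (hE.mem k hk hk1) (mem_cc.1 (hEb hv)).symm
      (mem_cc.1 (hEb hk)) (hE.comm hk hv) hyO (mem_cc.1 hyv)
  fixed v hv hv1 w hw hw1 := by
    intro x hx
    obtain ⟨hxF, hxE⟩ := mem_inf.1 hx
    refine mem_inf.2 ⟨C.balance (hE.mem v hv hv1) hb hw1 (hE.comm hw hv) (mem_cc.1 (hEb hw))
      (mem_inf.2 ⟨hxF, mem_cc.2 (mem_centralizer_iff.1 hxE w hw).symm⟩), (mem_inf.1 hxF).2⟩

/-- The part at `b` is generated by the mixed parts over a four group. -/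
theorem Y_eq_span (C : Ctx P S₁ S₂) {E : Subgroup G} (hE : IsFour S₁ E) {b : G} (hb : b ∈ Invs S₂)
    (hEb : E ≤ cc b) {a : G} (ha : a ∈ E) (ha1 : a ≠ 1) : Y b a = span E fun v => F v b := by
  have D := C.fourData hE hb hEb
  set X := span E fun v => F v b with hX
  set O := core (cc b) with hO
  set K := O ⊓ centralizer (E : Set G) with hK
  have hzE : zpowers a ≤ E := zpowers_le.2 ha
  have hXO : X ≤ O := D.span_le
  have hKX : K ≤ normalizer (X : Set G) := by
    refine le_trans (le_iInf fun v x hx => ?_) (iInf_normalizer_le_normalizer_iSup _)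
    exact normalizes_F (mem_centralizer_iff.1 (mem_inf.1 hx).2 _ v.2.1).symm
      (mem_cc.1 (core_le _ (mem_inf.1 hx).1))
  have hOX : O ≤ X ⊔ K := D.gen le_rfl D.inv fun v hv hv1 => by
    rw [← D.split (inf_le_left : O ⊓ cc v ≤ O) (D.inv_cc D.inv hv)]
    exact sup_le_sup ((D.comm v hv hv1).trans (le_span (N := fun v => F v b) hv hv1))
      (inf_le_inf_right _ inf_le_left)
  refine le_antisymm (sup_le (commutator_le.2 fun o ho z hz => ?_)
    (le_span (N := fun v => F v b) ha ha1)) ?_
  · have hoXK := hOX ho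
    rw [← SetLike.mem_coe, coe_mul_of_right_le_normalizer_left _ _ hKX] at hoXK
    obtain ⟨x, hx, c, hc, rfl⟩ := hoXK
    have hcz : ⁅c, z⁆ = 1 := commutatorElement_eq_one_iff_mul_comm.2
      (mem_centralizer_iff.1 (mem_inf.1 hc).2 z (hzE hz)).symm
    rw [show ⁅x * c, z⁆ = x * ⁅c, z⁆ * x⁻¹ * ⁅x, z⁆ by simp only [commutatorElement_def]; group, hcz,
      mul_one, mul_inv_cancel, one_mul]
    exact (CoprimeAct.commutator_le_left D.span_inv) (commutator_mem_commutator hx (hzE hz))
  · have hzX : zpowers a ≤ normalizer (X : Set G) := hzE.trans D.span_inv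
    rw [← CoprimeAct.commutator_sup_centralizer hzX ((D.cop hXO).coprime_dvd_left (card_dvd_of_le hzE))
      (Or.inr (D.solvable hXO))]
    refine sup_le_sup (commutator_mono hXO le_rfl) ?_
    rw [centralizer_zpowers]
    exact D.span_inf ha ha1

/-- The part does not change along commuting involutions. -/
theorem Y_eq (C : Ctx P S₁ S₂) {a a' b : G} (ha : a ∈ Invs S₁) (ha' : a' ∈ Invs S₁) (hb : b ∈ Invs S₂)
    (hab : Commute a b) (ha'b : Commute a' b) (hc : Commute a a') : Y b a = Y b a' := by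
  rcases eq_or_ne a a' with rfl | hne
  · rfl
  have hE := IsFour.pair C.pair.cl₁ ha ha' hc hne
  have hEb : four a a' (Invol.mul_self ha.1) (Invol.mul_self ha'.1) hc ≤ cc b := by
    rintro x (rfl | rfl | rfl | rfl)
    exacts [one_mem _, mem_cc.2 hab, mem_cc.2 ha'b, mem_cc.2 (hab.mul_left ha'b)]
  rw [C.Y_eq_span hE hb hEb (Or.inr (Or.inl rfl)) (Invol.ne_one ha.1),
    C.Y_eq_span hE hb hEb (Or.inr (Or.inr (Or.inl rfl))) (Invol.ne_one ha'.1)]

/-- The core at `b` normalises its parts. -/
theorem core_normalizes_Y {a b : G} (ha : a ∈ Invs S₁) (hab : Commute a b) :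
    core (cc b) ≤ normalizer (Y b a : Set G) := by
  haveI : Fact (Nat.Prime 2) := ⟨Nat.prime_two⟩
  set O := core (cc b) with hO
  have hz : zpowers a ≤ normalizer (O : Set G) := (zpowers_le.2 (mem_cc.2 hab)).trans (core_normalized _)
  have hcop : (Nat.card (zpowers a)).Coprime (Nat.card O) := by
    rw [Nat.card_zpowers, ha.1]
    exact (Nat.prime_two.coprime_iff_not_dvd).2 (core_odd _)
  haveI : Group.IsSolvable (zpowers a) := inferInstance
  have h := CoprimeAct.commutator_sup_centralizer hz hcop (Or.inl inferInstance)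
  conv_lhs => rw [← h]
  refine sup_le (le_trans ?_ le_normalizer) fun g hg => normalizes_Y ?_ ?_
  · exact le_sup_left
  · rw [centralizer_zpowers] at hg
    exact mem_cc.1 (mem_inf.1 hg).2
  · exact mem_cc.1 (core_le _ (mem_inf.1 hg).1)

end Ctx

end Cfsg.Agent.CommPair
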