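import Cfsg.Agent.Lib.CommPair.Disconnected
import Cfsg.Agent.Lib.GateCons.Basic
import Cfsg.Agent.Lib.Involutions.SwapCount

/-!
In a simple group one of the two sides has parts which depend on the involution alone.
-/

set_option autoImplicit false
set_option linter.unusedSectionVars false
set_option linter.style.haveILetI false

namespace Cfsg.Agent.CommPair

open Subgroup Cfsg.Agent.SylowSplit
open Cfsg.Agent.ClosedAbelian (core core_le core_odd core_normalized conj_mem_core)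
open Cfsg.Agent.GateCons (Gate)
open scoped commutatorElement

universe u

variable {G : Type u} [Group G] [Finite G] {P : Sylow 2 G} {S₁ S₂ : Subgroup G}

/-- A simple group with two nontrivial factors. -/
structure Simp (P : Sylow 2 G) (S₁ S₂ : Subgroup G) : Prop extends Ctx P S₁ S₂ where
  simple : IsSimpleGroup G
  ne₁ : S₁ ≠ ⊥
  ne₂ : S₂ ≠ ⊥

/-- The parts at the second kind depend on the involution alone. -/
def SideOn (S₁ S₂ : Subgroup G) : Prop :=
  ∀ b ∈ Invs S₂, ∀ a ∈ Invs S₁, ∀ a' ∈ Invs S₁, Commute a b → Commute a' b → Y b a = Y b a'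

/-- The parts are constant on components. -/
theorem Ctx.Y_conn (C : Ctx P S₁ S₂) {b : G} (hb : b ∈ Invs S₂) {x y : G} (h : Conn (cc b) S₁ x y) :
    Y b x = Y b y := by
  induction h with
  | rel a c hac =>
    obtain ⟨⟨ha, ha'⟩, ⟨hc, hc'⟩, h⟩ := hac
    rcases h with h | ⟨o, ho, rfl⟩
    · exact C.Y_eq ha' hc' hb (mem_cc.1 ha) (mem_cc.1 hc) h
    · have hn := Ctx.core_normalizes_Y ha' (mem_cc.1 ha) ho
      have hob : o * b * o⁻¹ = b := by rw [(mem_cc.1 (core_le _ ho)).eq, mul_inv_cancel_right]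
      refine le_antisymm (fun w hw => ?_) (fun w hw => ?_)
      · have h1 := conj_Y o b a ((mem_normalizer_iff.1 (inv_mem hn) w).1 hw)
        rw [hob, inv_inv] at h1
        simpa [mul_assoc] using h1
      · have hob' : o⁻¹ * b * o⁻¹⁻¹ = b := by
          rw [inv_inv]
          calc o⁻¹ * b * o = o⁻¹ * (o * b * o⁻¹) * o := by rw [hob]
            _ = b := by group
        have h1 := conj_Y o⁻¹ b (o * a * o⁻¹) hw
        rw [hob', show o⁻¹ * (o * a * o⁻¹) * o⁻¹⁻¹ = a by group] at h1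
        simpa [mul_assoc] using (mem_normalizer_iff.1 hn _).1 h1
  | refl a => rfl
  | symm a c _ ih => exact ih.symm
  | trans a c d _ _ ih₁ ih₂ => exact ih₁.trans ih₂

namespace Simp

theorem symm (C : Simp P S₁ S₂) : Simp P S₂ S₁ :=
  { C.toCtx.symm with simple := C.simple, ne₁ := C.ne₂, ne₂ := C.ne₁ }

/-- A central involution of the first kind. -/
theorem exists_z (C : Simp P S₁ S₂) :
    ∃ z ∈ Invs S₁, z ∈ S₁ ∧ ∀ p ∈ (P : Subgroup G), Commute p z := by
  haveI : Fact (Nat.Prime 2) := ⟨Nat.prime_two⟩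
  obtain ⟨n, hn⟩ := IsPGroup.iff_card.1 (P.isPGroup'.to_le C.pair.cl₁.1)
  have hn0 : n ≠ 0 := fun e => C.ne₁ (eq_bot_of_card_eq S₁ (by rw [hn, e, pow_zero]))
  obtain ⟨t, ht⟩ := exists_prime_orderOf_dvd_card' (G := S₁) 2 (hn ▸ dvd_pow_self 2 hn0)
  obtain ⟨z, hz, hzP, hzc⟩ := exists_central C.pair.cl₁ P.isPGroup' (C.pair.cl₁.1 t.2)
    (show (t : G) ∈ Invs S₁ from ⟨by rw [Subgroup.orderOf_coe, ht], InR.of_mem t.2⟩)
  exact ⟨z, hz, mem_of C.pair.cl₁ hzP hz.2, hzc⟩

theorem oddCore_eq_bot (C : Simp P S₁ S₂) : Cfsg.oddCore G = ⊥ := by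
  haveI := C.simple
  obtain ⟨z, hz, -⟩ := C.exists_z
  refine (FittingCores.pPrimeCore_normal (G := G) 2).eq_bot_or_eq_top.resolve_right fun h => ?_
  have h' : Odd (Nat.card (Cfsg.oddCore G)) := SEBrick.oddCore_odd
  exact Nat.not_even_iff_odd.2 h'
    (Invol.even_of_invol_mem hz.1 (show z ∈ Cfsg.oddCore G from by rw [show Cfsg.oddCore G = ⊤ from h]; exact mem_top z))

theorem core_top_eq_bot (C : Simp P S₁ S₂) : core (⊤ : Subgroup G) = ⊥ := by
  rw [eq_bot_iff, ← C.oddCore_eq_bot]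
  refine SEBrick.le_oddCore (normalizer_eq_top_iff.1 (top_le_iff.1 (core_normalized ⊤))) ?_
  rw [← Nat.not_even_iff_odd, even_iff_two_dvd]
  exact core_odd ⊤

/-- No proper subgroup holds the Sylow normaliser and the centralisers of one kind. -/
theorem no_local (C : Simp P S₁ S₂) (hg : Gate.{u}) {M : Subgroup G} (hM : M ≠ ⊤)
    (hN : normalizer ((P : Subgroup G) : Set G) ≤ M) (hc : ∀ t ∈ S₁, orderOf t = 2 → cc t ≤ M) : False := by
  haveI := C.simple
  obtain ⟨z, -, d⟩ := GateCons.data_of_strongly_closed P C.ne₁ C.pair.cl₁ hM hc hN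
  have hse := d.se_of_simple hg
  obtain ⟨z₁, hz₁, -⟩ := C.exists_z
  obtain ⟨z₂, hz₂, -⟩ := C.symm.exists_z
  obtain ⟨g, hg'⟩ := isConj_iff.1 (Invol.se_isConj hse hz₂.1 hz₁.1)
  exact Invol.ne_one hz₁.1 (C.pair.eq_one hz₁.2 (hg' ▸ hz₂.2.conj g))

/-- The commuting graph on one kind is connected. -/
theorem connected (C : Simp P S₁ S₂) (hg : Gate.{u}) : Connected (⊤ : Subgroup G) S₁ := by
  obtain ⟨z, hz, hzS, hzc⟩ := C.exists_z
  refine connected_of_stab C.pair.cl₁ (mem_top z) hz (le_of_eq ?_)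
  by_contra h
  refine C.no_local hg (Ne.symm h) (fun n hn => ⟨mem_top n, ?_⟩) fun t htS ht => ?_
  · refine Conn.commute (mem_top _) hz (mem_top _) (Invs.conj hz n) ?_
    exact (hzc _ ((mem_normalizer_iff.1 hn z).1 (C.pair.cl₁.1 hzS))).symm
  · refine le_trans (le_inf le_rfl le_top) (cc_le_stab (Conn.commute (mem_top _) hz (mem_top _)
      ⟨ht, InR.of_mem htS⟩ (hzc t (C.pair.cl₁.1 htS)).symm))

/-- One side has parts depending on the involution alone. -/
theorem exists_side (C : Simp P S₁ S₂) (hg : Gate.{u}) : SideOn S₁ S₂ ∨ SideOn S₂ S₁ := by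
  haveI : Fact (Nat.Prime 2) := ⟨Nat.prime_two⟩
  by_cases hall : ∀ a ∈ Invs S₁, Connected (cc a) S₂
  · exact Or.inr fun a ha b hb b' hb' hab hab' =>
      C.toCtx.symm.Y_conn ha (hall a ha b b' (mem_cc.2 hab) hb (mem_cc.2 hab') hb')
  refine Or.inl ?_
  push_neg at hall
  obtain ⟨a₀, ha₀, hdis⟩ := hall
  -- the full core
  have hfull : ∀ b ∈ Invs S₂, Commute a₀ b → core (cc b) ≤ Y b a₀ := by
    intro b hb hab
    have hz : zpowers a₀ ≤ normalizer (core (cc b) : Set G) :=
      (zpowers_le.2 (mem_cc.2 hab)).trans (core_normalized _)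
    have hcop : (Nat.card (zpowers a₀)).Coprime (Nat.card (core (cc b))) := by
      rw [Nat.card_zpowers, ha₀.1]
      exact (Nat.prime_two.coprime_iff_not_dvd).2 (core_odd _)
    conv_lhs => rw [← CoprimeAct.commutator_sup_centralizer hz hcop (Or.inl inferInstance)]
    refine sup_le le_sup_left (le_trans ?_ le_sup_right)
    rw [centralizer_zpowers]
    exact le_inf (C.toCtx.core_inf_le hg C.oddCore_eq_bot ha₀ hdis hb hab) inf_le_left
  have key : ∀ b ∈ Invs S₂, ∀ a ∈ Invs S₁, Commute a b → Y b a = core (cc b) := by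
    intro b hb a ha hab
    refine le_antisymm (Y_le_core b a hab) ?_
    -- a conjugate of the given involution commuting with `b`
    obtain ⟨g, hgS⟩ := ha₀.2
    obtain ⟨k, hkS⟩ := hb.2
    set c := k⁻¹ * g with hc
    have hcb : Commute (c * a₀ * c⁻¹) b := by
      have h := (C.pair.comm _ hgS _ hkS).map (MulAut.conj k⁻¹).toMonoidHom
      simpa [hc, mul_assoc] using h
    have h1 : core (cc b) ≤ Y b (c * a₀ * c⁻¹) := fun w hw => by
      have hab₀ : Commute a₀ (c⁻¹ * b * c⁻¹⁻¹) := by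
        have := hcb.map (MulAut.conj c⁻¹).toMonoidHom
        simpa [mul_assoc] using this
      have h2 := conj_Y c _ _ (hfull _ (Invs.conj hb c⁻¹) hab₀ (conj_core_cc c⁻¹ b hw))
      simpa [mul_assoc] using h2
    rcases conn_or_conj C.pair.cl₁ (mem_cc.2 hcb) (Invs.conj ha₀ c) (mem_cc.2 hab) ha with h | ⟨d, hd, rfl⟩
    · rwa [← C.toCtx.Y_conn hb h]
    · have hdb : Commute d b := mem_cc.1 ((closure_le (cc b)).2
        (Set.insert_subset (mem_cc.2 hcb) (Set.singleton_subset_iff.2 (mem_cc.2 hab))) hd)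
      intro w hw
      have hw' : d⁻¹ * w * d⁻¹⁻¹ ∈ core (cc b) := conj_mem_core (inv_mem (mem_cc.2 hdb)) hw
      have h2 := conj_Y d _ _ (h1 hw')
      rw [hdb.eq, mul_inv_cancel_right] at h2
      simpa [mul_assoc] using h2
  exact fun b hb a ha a' ha' hab hab' => (key b hb a ha hab).trans (key b hb a' ha' hab').symm

end Simp

end Cfsg.Agent.CommPair
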