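import Cfsg.Agent.Lib.CommPair.Sides
import Cfsg.Agent.Lib.CommPair.Functor

/-!
A simple group has no two nontrivial commuting strongly closed 2-subgroups meeting trivially.
-/

set_option autoImplicit false
set_option linter.unusedSectionVars false
set_option linter.style.haveILetI false

namespace Cfsg.Agent.CommPair

open Subgroup Cfsg.Agent.SylowSplit
open Cfsg.Agent.ClosedAbelian (core core_le core_odd core_normalized conj_mem_core exists_conj_over)
open Cfsg.Agent.GateCons (Gate)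
open scoped commutatorElement

universe u

variable {G : Type u} [Group G] [Finite G] {P : Sylow 2 G} {S₁ S₂ E₁ E₂ : Subgroup G}

theorem IsFour.map {T E : Subgroup G} (h : IsFour T E) (g : G) :
    IsFour T (E.map (MulAut.conj g).toMonoidHom) where
  ea := ⟨⟨⟨fun x y => Subtype.ext (by
      obtain ⟨a, ha, hax⟩ := x.2
      obtain ⟨b, hb, hby⟩ := y.2
      show (x : G) * y = y * x
      rw [← hax, ← hby]
      exact ((h.comm ha hb).map _).eq)⟩⟩, by
    rintro _ ⟨a, ha, rfl⟩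
    rw [← map_pow, h.ea.2 a ha, map_one]⟩
  card := by rw [LEBasic.card_map_conj, h.card]
  mem := by
    rintro _ ⟨a, ha, rfl⟩ h1
    exact Invs.conj (h.mem a ha fun e => h1 (by rw [e, map_one])) g

theorem IsFour.isPGroup {T E : Subgroup G} (h : IsFour T E) : IsPGroup 2 E := Signalizer.ea_isPGroup h.ea

theorem Rect.map (R : Rect S₁ S₂ E₁ E₂) (g : G) :
    Rect S₁ S₂ (E₁.map (MulAut.conj g).toMonoidHom) (E₂.map (MulAut.conj g).toMonoidHom) :=
  ⟨R.four₁.map g, R.four₂.map g, by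
    rintro _ ⟨a, ha, rfl⟩ _ ⟨b, hb, rfl⟩
    exact (R.comm a ha b hb).map _⟩

theorem map_joinF_le (g : G) (E₁ E₂ : Subgroup G) :
    (joinF E₁ E₂).map (MulAut.conj g).toMonoidHom ≤
      joinF (E₁.map (MulAut.conj g).toMonoidHom) (E₂.map (MulAut.conj g).toMonoidHom) := by
  rw [map_le_iff_le_comap]
  exact iSup_le fun p x hx => F_le_joinF (mem_map_of_mem (MulAut.conj g).toMonoidHom p.2.1.1)
    (fun e => p.2.1.2 ((MulAut.conj g).injective (e.trans (map_one _).symm)))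
    (mem_map_of_mem (MulAut.conj g).toMonoidHom p.2.2.1)
    (fun e => p.2.2.2 ((MulAut.conj g).injective (e.trans (map_one _).symm))) (conj_F g _ _ hx)

theorem map_map_conj (g h : G) (E : Subgroup G) :
    (E.map (MulAut.conj h).toMonoidHom).map (MulAut.conj g).toMonoidHom =
      E.map (MulAut.conj (g * h)).toMonoidHom := by
  rw [Subgroup.map_map]
  congr 1
  ext x
  simp [mul_assoc]

theorem map_conj_one (E : Subgroup G) : E.map (MulAut.conj (1 : G)).toMonoidHom = E := by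
  rw [map_one]
  exact Subgroup.map_id E

theorem map_joinF (g : G) (E₁ E₂ : Subgroup G) :
    (joinF E₁ E₂).map (MulAut.conj g).toMonoidHom =
      joinF (E₁.map (MulAut.conj g).toMonoidHom) (E₂.map (MulAut.conj g).toMonoidHom) := by
  refine le_antisymm (map_joinF_le g E₁ E₂) ?_
  have h := map_mono (f := (MulAut.conj g).toMonoidHom)
    (map_joinF_le g⁻¹ (E₁.map (MulAut.conj g).toMonoidHom) (E₂.map (MulAut.conj g).toMonoidHom))
  rwa [map_map_conj g⁻¹ g E₁, map_map_conj g⁻¹ g E₂, inv_mul_cancel, map_conj_one, map_conj_one,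
    map_map_conj, mul_inv_cancel, map_conj_one] at h

namespace Simp

theorem rect_of_le (C : Simp P S₁ S₂) (h₁ : IsFour S₁ E₁) (h₂ : IsFour S₂ E₂)
    (l₁ : E₁ ≤ (P : Subgroup G)) (l₂ : E₂ ≤ (P : Subgroup G)) : Rect S₁ S₂ E₁ E₂ :=
  ⟨h₁, h₂, fun a ha b hb => by
    rcases eq_or_ne a 1 with rfl | ha1
    · exact Commute.one_left b
    rcases eq_or_ne b 1 with rfl | hb1
    · exact Commute.one_right a
    exact C.pair.commute P.isPGroup' (l₁ ha) (l₂ hb) (h₁.mem a ha ha1).2 (h₂.mem b hb hb1).2⟩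

/-- Four groups through an involution and a central one. -/
theorem exists_four_le (C : Simp P S₁ S₂) {z : G} (hz : z ∈ Invs S₁) (hzP : z ∈ (P : Subgroup G))
    (hzc : ∀ p ∈ (P : Subgroup G), Commute p z) {a : G} (ha : a ∈ Invs S₁) (haP : a ∈ (P : Subgroup G)) :
    ∃ E, IsFour S₁ E ∧ E ≤ (P : Subgroup G) ∧ a ∈ E ∧ z ∈ E := by
  have main : ∀ y, y ∈ Invs S₁ → y ∈ (P : Subgroup G) → y ≠ z →
      ∃ E, IsFour S₁ E ∧ E ≤ (P : Subgroup G) ∧ y ∈ E ∧ z ∈ E := fun y hy hyP hyz => by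
    refine ⟨_, IsFour.pair C.pair.cl₁ hy hz (hzc y hyP) hyz, ?_, Or.inr (Or.inl rfl), Or.inr (Or.inr (Or.inl rfl))⟩
    rintro x (rfl | rfl | rfl | rfl)
    exacts [one_mem _, hyP, hzP, mul_mem hyP hzP]
  by_cases haz : a = z
  swap
  · exact main a ha haP haz
  -- some four group lies in `P`
  obtain ⟨E, hE, -, -⟩ := exists_four C.pair C.oddCore_eq_bot P.isPGroup' hzP hz C.proper
  obtain ⟨k, hk⟩ := exists_conj_le P hE.isPGroup
  obtain ⟨y, hy, hy1, hyz⟩ := (hE.map k).exists_other (a := z)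
  have hyP : y ∈ (P : Subgroup G) := by
    obtain ⟨x, hx, rfl⟩ := hy
    exact hk x hx
  obtain ⟨E', h1, h2, -, h4⟩ := main y ((hE.map k).mem y hy hy1) hyP hyz
  exact ⟨E', h1, h2, haz ▸ h4, h4⟩

/-- Over one four group of the second kind the join does not see the first. -/
theorem joinF_side (C : Simp P S₁ S₂) (hside : SideOn S₁ S₂) {E₁' : Subgroup G} (R : Rect S₁ S₂ E₁ E₂)
    (R' : Rect S₁ S₂ E₁' E₂) : joinF E₁ E₂ = joinF E₁' E₂ := by
  obtain ⟨a, ha, ha1, -⟩ := R.four₁.exists_other (a := 1)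
  obtain ⟨a', ha', ha'1, -⟩ := R'.four₁.exists_other (a := 1)
  rw [R.joinF_eq_Y C.toCtx ha ha1, R'.joinF_eq_Y C.toCtx ha' ha'1]
  exact iSup_congr fun b => hside _ (R.four₂.mem _ b.2.1 b.2.2) a (R.four₁.mem a ha ha1) a'
    (R'.four₁.mem a' ha' ha'1) (R.comm a ha _ b.2.1) (R'.comm a' ha' _ b.2.1)

theorem joinF_share (C : Simp P S₁ S₂) {E₂' : Subgroup G} (R : Rect S₁ S₂ E₁ E₂) (R' : Rect S₁ S₂ E₁ E₂')
    {b : G} (hb : b ∈ E₂) (hb' : b ∈ E₂') (hb1 : b ≠ 1) : joinF E₁ E₂ = joinF E₁ E₂' := by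
  rw [Rect.joinF_symm E₁ E₂, Rect.joinF_symm E₁ E₂', R.symm.joinF_change C.toCtx.symm R'.symm hb hb' hb1]

/-- All four groups inside the Sylow subgroup give the same join. -/
theorem joinF_le_P (C : Simp P S₁ S₂) (hside : SideOn S₁ S₂) {E₁' E₂' : Subgroup G} (h₁ : IsFour S₁ E₁)
    (h₂ : IsFour S₂ E₂) (l₁ : E₁ ≤ (P : Subgroup G)) (l₂ : E₂ ≤ (P : Subgroup G)) (h₁' : IsFour S₁ E₁')
    (h₂' : IsFour S₂ E₂') (l₁' : E₁' ≤ (P : Subgroup G)) (l₂' : E₂' ≤ (P : Subgroup G)) :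
    joinF E₁' E₂' = joinF E₁ E₂ := by
  obtain ⟨z, hz, hzS, hzc⟩ := C.symm.exists_z
  have hzP := C.pair.cl₂.1 hzS
  -- every one agrees with one through the central involution
  have key : ∀ E, IsFour S₂ E → E ≤ (P : Subgroup G) →
      ∃ E', IsFour S₂ E' ∧ E' ≤ (P : Subgroup G) ∧ z ∈ E' ∧ joinF E₁ E = joinF E₁ E' := by
    intro E hE lE
    obtain ⟨x, hx, hx1, -⟩ := hE.exists_other (a := z)
    obtain ⟨E', h', l', hxE', hzE'⟩ := C.symm.exists_four_le hz hzP hzc (hE.mem x hx hx1) (lE hx)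
    exact ⟨E', h', l', hzE', C.joinF_share (C.rect_of_le h₁ hE l₁ lE) (C.rect_of_le h₁ h' l₁ l') hx hxE' hx1⟩
  obtain ⟨A, hA, lA, zA, eA⟩ := key E₂ h₂ l₂
  obtain ⟨B, hB, lB, zB, eB⟩ := key E₂' h₂' l₂'
  rw [C.joinF_side hside (C.rect_of_le h₁' h₂' l₁' l₂') (C.rect_of_le h₁ h₂' l₁ l₂'), eA, eB]
  exact C.joinF_share (C.rect_of_le h₁ hB l₁ lB) (C.rect_of_le h₁ hA l₁ lA) zB zA (Invol.ne_one hz.1)

/-- The centraliser of an involution of the second kind normalises the join. -/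
theorem cc_normalizes (C : Simp P S₁ S₂) (hside : SideOn S₁ S₂) (R : Rect S₁ S₂ E₁ E₂) {b : G} (hb : b ∈ E₂)
    (hb1 : b ≠ 1) : cc b ≤ normalizer (joinF E₁ E₂ : Set G) := by
  intro g hg
  have hbI := R.four₂.mem b hb hb1
  set O := core (cc b) with hO
  set E := E₂.map (MulAut.conj g).toMonoidHom with hE
  have hE4 : IsFour S₂ E := R.four₂.map g
  have hbE : b ∈ E := ⟨b, hb, by simp [(mem_cc.1 hg).eq]⟩
  have hE1b : E₁ ≤ cc b := fun a ha => mem_cc.2 (R.comm a ha b hb)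
  have hEb : E ≤ cc b := fun r hr => mem_cc.2 (hE4.comm hr hbE)
  have hEO : E ≤ normalizer (O : Set G) := hEb.trans (core_normalized _)
  have hn1 : E₁ ≤ normalizer ((O ⊔ E : Subgroup G) : Set G) := by
    intro a ha
    refine mem_normalizer_fintype fun w hw => ?_
    suffices h : O ⊔ E ≤ (O ⊔ E).comap (MulAut.conj a).toMonoidHom from h hw
    refine sup_le (fun o ho => mem_sup_left (conj_mem_core (hE1b ha) ho)) fun r hr => ?_
    show a * r * a⁻¹ ∈ O ⊔ E
    rcases eq_or_ne a 1 with rfl | ha1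
    · simpa using mem_sup_right (S := O) hr
    rcases eq_or_ne r 1 with rfl | hr1
    · simp
    rw [show a * r * a⁻¹ = ⁅a, r⁆ * r by simp [commutatorElement_def, mul_assoc]]
    exact mul_mem (mem_sup_left (C.loc _ (C.cc_ne_top hbI.1) a (hE1b ha) r (hEb hr)
      (R.four₁.mem a ha ha1).2 (hE4.mem r hr hr1).2)) (mem_sup_right hr)
  -- move the first four group into the centraliser of the new one
  obtain ⟨c, hc, W, hW, hEW, -, hcW⟩ := exists_conj_over (X := O ⊔ E ⊔ E₁) hE4.isPGroup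
    (le_sup_right.trans le_sup_left : E ≤ O ⊔ E ⊔ E₁) R.four₁.isPGroup le_sup_right
  rw [← SetLike.mem_coe, coe_mul_of_right_le_normalizer_left _ _ hn1] at hc
  obtain ⟨m, hm, e, he, rfl⟩ := hc
  rw [coe_mul_of_right_le_normalizer_left _ _ hEO] at hm
  obtain ⟨o', ho', r, hr, rfl⟩ := hm
  set o := r⁻¹ * o' * r with ho
  have hoO : o ∈ O := by simpa [ho] using conj_mem_core (hEb (inv_mem hr)) ho'
  have hcomm : ∀ a ∈ E₁, ∀ s ∈ E, Commute (o * a * o⁻¹) s := by
    intro a ha s hs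
    rcases eq_or_ne a 1 with rfl | ha1
    · simp
    rcases eq_or_ne s 1 with rfl | hs1
    · exact Commute.one_right _
    have h := C.pair.commute hW (hcW a ha) (hEW hs) ((R.four₁.mem a ha ha1).2.conj _) (hE4.mem s hs hs1).2
    have e1 : o' * r * e * a * (o' * r * e)⁻¹ = r * (o * a * o⁻¹) * r⁻¹ := by
      rw [show o' * r * e * a * (o' * r * e)⁻¹ = o' * r * (e * a * e⁻¹) * (o' * r)⁻¹ by group,
        (R.four₁.comm he ha).eq, mul_inv_cancel_right, ho]
      group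
    rw [e1] at h
    have h' := h.map (MulAut.conj r⁻¹).toMonoidHom
    have hrs : r⁻¹ * s * r = s := by
      rw [(hE4.comm (inv_mem hr) hs).eq, inv_mul_cancel_right]
    have e2 : (MulAut.conj r⁻¹).toMonoidHom (r * (o * a * o⁻¹) * r⁻¹) = o * a * o⁻¹ := by simp [mul_assoc]
    have e3 : (MulAut.conj r⁻¹).toMonoidHom s = s := by simpa using hrs
    rwa [e2, e3] at h'
  set E' := E₁.map (MulAut.conj o).toMonoidHom with hE'
  have R' : Rect S₁ S₂ E' E := ⟨R.four₁.map o, hE4, by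
    rintro _ ⟨a, ha, rfl⟩ s hs
    exact hcomm a ha s hs⟩
  have R'' := R'.map o⁻¹
  rw [hE', map_map_conj, inv_mul_cancel, map_conj_one] at R''
  have hob : o * b * o⁻¹ = b := by rw [(mem_cc.1 (core_le _ hoO)).eq, mul_inv_cancel_right]
  have hbE' : b ∈ E.map (MulAut.conj o⁻¹).toMonoidHom := ⟨b, hbE, by
    show o⁻¹ * b * o⁻¹⁻¹ = b
    calc o⁻¹ * b * o⁻¹⁻¹ = o⁻¹ * (o * b * o⁻¹) * o := by rw [hob, inv_inv]
      _ = b := by group⟩
  have e3 : joinF E₁ E₂ = joinF E₁ (E.map (MulAut.conj o⁻¹).toMonoidHom) :=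
    C.joinF_share R R'' hb hbE' hb1
  have e4 : joinF E' E = (joinF E₁ E₂).map (MulAut.conj o).toMonoidHom := by
    rw [e3, map_joinF, map_map_conj, mul_inv_cancel, map_conj_one]
  have e5 : (joinF E₁ E₂).map (MulAut.conj g).toMonoidHom =
      (joinF E₁ E₂).map (MulAut.conj o).toMonoidHom := by
    rw [map_joinF, ← e4]
    exact C.joinF_side hside (R.map g) R'
  -- the core at the involution normalises the join
  have hOn : O ≤ normalizer (joinF E₁ E₂ : Set G) := by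
    haveI : Fact (Nat.Prime 2) := ⟨Nat.prime_two⟩
    have hsol : Group.IsSolvable O := OddChar.oddSolvable _ (by
      rw [← Nat.not_even_iff_odd, even_iff_two_dvd]; exact core_odd _)
    rw [← CoprimeAct.commutator_sup_centralizer (K := O) (hE1b.trans (core_normalized _))
      (Signalizer.coprime_card R.four₁.isPGroup (core_odd _)) (Or.inr hsol)]
    refine sup_le (le_trans ?_ Subgroup.le_normalizer) fun v hv => ?_
    · refine commutator_le.2 fun w hw a ha => ?_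
      rcases eq_or_ne a 1 with rfl | ha1
      · simp
      rw [R.joinF_eq_Y C.toCtx ha ha1]
      exact le_iSup (fun b : {b : G // b ∈ E₂ ∧ b ≠ 1} => Y b.1 a) ⟨b, hb, hb1⟩
        (mem_sup_left (commutator_mem_commutator hw (mem_zpowers a)))
    · rw [Rect.joinF_symm, R.symm.joinF_eq_Y C.toCtx.symm hb hb1]
      refine iInf_normalizer_le_normalizer_iSup _ (mem_iInf.2 fun a => ?_)
      exact normalizes_Y (mem_cc.1 (core_le _ (mem_inf.1 hv).1)) (mem_centralizer_iff.1 (mem_inf.1 hv).2 a.1 a.2.1).symm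
  rw [← LEBasic.map_conj_eq_iff_mem_normalizer, e5, LEBasic.map_conj_eq_iff_mem_normalizer]
  exact hOn hoO

/-- The mixed parts are trivial. -/
theorem F_eq_bot (C : Simp P S₁ S₂) (hg : Gate.{u}) (hside : SideOn S₁ S₂) {a b : G} (ha : a ∈ Invs S₁)
    (hb : b ∈ Invs S₂) (hab : Commute a b) : F a b = ⊥ := by
  haveI : Fact (Nat.Prime 2) := ⟨Nat.prime_two⟩
  obtain ⟨z₁, hz₁, hz₁S, hz₁c⟩ := C.exists_z
  obtain ⟨z₂, hz₂, hz₂S, hz₂c⟩ := C.symm.exists_z
  have hz₁P := C.pair.cl₁.1 hz₁S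
  have hz₂P := C.pair.cl₂.1 hz₂S
  obtain ⟨E₁, h₁, l₁, -, -⟩ := C.exists_four_le hz₁ hz₁P hz₁c hz₁ hz₁P
  obtain ⟨E₂, h₂, l₂, -, -⟩ := C.symm.exists_four_le hz₂ hz₂P hz₂c hz₂ hz₂P
  have R := C.rect_of_le h₁ h₂ l₁ l₂
  set W := joinF E₁ E₂ with hW
  have hWbot : W = ⊥ := by
    by_contra hne
    refine C.symm.no_local hg (M := normalizer (W : Set G)) (fun h => hne ?_) (fun n hn => ?_) fun t htS ht => ?_
    · rw [eq_bot_iff, ← C.oddCore_eq_bot]
      refine SEBrick.le_oddCore (normalizer_eq_top_iff.1 h) ?_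
      rw [← Nat.not_even_iff_odd, even_iff_two_dvd]
      exact R.joinF_odd C.toCtx
    · have hP : ∀ E : Subgroup G, E ≤ (P : Subgroup G) →
          E.map (MulAut.conj n).toMonoidHom ≤ (P : Subgroup G) := by
        rintro E hE _ ⟨x, hx, rfl⟩
        exact (mem_normalizer_iff.1 hn x).1 (hE hx)
      rw [← LEBasic.map_conj_eq_iff_mem_normalizer, hW, map_joinF]
      exact C.joinF_le_P hside h₁ h₂ l₁ l₂ (h₁.map n) (h₂.map n) (hP _ l₁) (hP _ l₂)
    · obtain ⟨E, hE, lE, htE, -⟩ :=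
        C.symm.exists_four_le hz₂ hz₂P hz₂c ⟨ht, InR.of_mem htS⟩ (C.pair.cl₂.1 htS)
      have h := C.cc_normalizes hside (C.rect_of_le h₁ hE l₁ lE) htE (Invol.ne_one ht)
      rwa [C.joinF_le_P hside h₁ h₂ l₁ l₂ h₁ hE l₁ lE] at h
  obtain ⟨k, hk⟩ := exists_conj_le P (pGroup_pair (x := a) (y := b) ⟨1, by rw [ha.1, pow_one]⟩
    ⟨1, by rw [hb.1, pow_one]⟩ (by rw [hab.eq, mul_inv_cancel_right]; exact mem_zpowers b))
  obtain ⟨A, hA, lA, haA, -⟩ := C.exists_four_le hz₁ hz₁P hz₁c (Invs.conj ha k)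
    (hk a (mem_sup_left (mem_zpowers a)))
  obtain ⟨B, hB, lB, hbB, -⟩ := C.symm.exists_four_le hz₂ hz₂P hz₂c (Invs.conj hb k)
    (hk b (mem_sup_right (mem_zpowers b)))
  rw [eq_bot_iff]
  intro x hx
  have h := F_le_joinF haA (Invol.ne_one (Invs.conj ha k).1) hbB (Invol.ne_one (Invs.conj hb k).1)
    (conj_F k a b hx)
  rw [C.joinF_le_P hside h₁ h₂ l₁ l₂ hA hB lA lB, ← hW, hWbot, mem_bot] at h
  exact mem_bot.2 (conj_eq_one_iff.1 h)

/-- The side case is impossible. -/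
theorem false_of_side (C : Simp P S₁ S₂) (hg : Gate.{u}) (hside : SideOn S₁ S₂) : False := by
  haveI : Fact (Nat.Prime 2) := ⟨Nat.prime_two⟩
  have hF : ∀ {a b : G}, a ∈ Invs S₁ → b ∈ Invs S₂ → Commute a b → F a b = ⊥ :=
    fun ha hb hab => C.F_eq_bot hg hside ha hb hab
  -- the second kind centralises the cores of the first
  have e1 : ∀ a ∈ Invs S₁, ∀ r ∈ Invs S₂, Commute r a → ∀ y ∈ core (cc a), Commute y r := by
    intro a ha r hr hra
    obtain ⟨E, hE, hrE, hEc⟩ := exists_four C.pair.symm C.oddCore_eq_bot (Q := zpowers a ⊔ zpowers r)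
      (pGroup_pair ⟨1, by rw [ha.1, pow_one]⟩ ⟨1, by rw [hr.1, pow_one]⟩
        (by rw [hra.symm.eq, mul_inv_cancel_right]; exact mem_zpowers r))
      (mem_sup_right (mem_zpowers r)) hr C.proper
    have hEa : ∀ k ∈ E, Commute k a := fun k hk => hEc k hk a (mem_sup_left (mem_zpowers a)) ha.2
    intro y hy
    refine mem_cc.1 ?_
    refine Signalizer.le_of_centralizer_le hE.ea (by rw [hE.card]; norm_num)
      (le_trans (fun k hk => mem_cc.2 (hEa k hk)) (core_normalized _)) (core_odd _)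
      (Y := cc r) (fun v hv hv1 w hw => mem_cc.2 ?_) hy
    have h := C.toCtx.commutator_mem ha (hE.mem v hv hv1) hr (hEa v hv).symm hra (hE.comm hrE hv)
      (mem_inf.1 hw).1 (mem_cc.1 (mem_inf.1 hw).2)
    rw [hF ha (hE.mem v hv hv1) (hEa v hv).symm, mem_bot] at h
    exact commutatorElement_eq_one_iff_mul_comm.1 h
  -- so the two kinds in one centraliser commute
  have e2 : ∀ a ∈ Invs S₁, ∀ r ∈ Invs S₂, Commute r a → ∀ s ∈ Invs S₁, Commute s a → Commute r s := by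
    intro a ha r hr hra s hs hsa
    have hc : ⁅s, r⁆ ∈ core (cc a) :=
      C.loc _ (C.cc_ne_top ha.1) s (mem_cc.2 hsa) r (mem_cc.2 hra) hs.2 hr.2
    have h1 := e1 a ha r hr hra _ hc
    have h2 : r * ⁅s, r⁆ * r⁻¹ = ⁅s, r⁆⁻¹ := by
      rw [commutatorElement_def, Invol.inv_self hs.1, Invol.inv_self hr.1, mul_inv_rev, mul_inv_rev,
        mul_inv_rev, Invol.inv_self hs.1, Invol.inv_self hr.1]
      calc r * (s * r * s * r) * r = r * s * r * s * (r * r) := by group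
        _ = r * (s * (r * s)) := by rw [Invol.mul_self hr.1, mul_one]; group
    rw [h1.symm.eq, mul_inv_cancel_right] at h2
    refine (commutatorElement_eq_one_iff_mul_comm.1 (Invol.eq_one_of_sq_of_odd
      (SEBrick.odd_order (by rw [← Nat.not_even_iff_odd, even_iff_two_dvd]; exact core_odd _) hc) ?_) :
      s * r = r * s).symm
    rw [pow_two]
    nth_rw 1 [h2]
    rw [inv_mul_cancel]
  -- connectivity
  obtain ⟨z₁, hz₁, hz₁S, hz₁c⟩ := C.exists_z
  obtain ⟨z₂, hz₂, hz₂S, -⟩ := C.symm.exists_z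
  have hconn := C.connected hg
  have key : ∀ x y, Conn (⊤ : Subgroup G) S₁ x y → (Commute z₂ x ↔ Commute z₂ y) := by
    intro x y h
    induction h with
    | rel p q hpq =>
      obtain ⟨⟨-, hp⟩, ⟨-, hq⟩, h⟩ := hpq
      rcases h with h | ⟨o, ho, rfl⟩
      · exact ⟨fun hc => e2 p hp z₂ hz₂ hc q hq h.symm, fun hc => e2 q hq z₂ hz₂ hc p hp h⟩
      · rw [C.core_top_eq_bot, mem_bot] at ho
        simp [ho]
    | refl p => exact Iff.rfl
    | symm p q _ ih => exact ih.symm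
    | trans p q r _ _ ih₁ ih₂ => exact ih₁.trans ih₂
  haveI := C.simple
  set N := centralizer (Invs S₁) with hN
  haveI hNn : N.Normal := ⟨fun x hx g => mem_centralizer_iff.2 fun y hy => by
    have h := mem_centralizer_iff.1 hx _ (Invs.conj hy g⁻¹)
    rw [inv_inv] at h
    calc y * (g * x * g⁻¹) = g * (g⁻¹ * y * g * x) * g⁻¹ := by group
      _ = g * (x * (g⁻¹ * y * g)) * g⁻¹ := by rw [h]
      _ = g * x * g⁻¹ * y := by group⟩
  have hz₂N : z₂ ∈ N := mem_centralizer_iff.2 fun y hy =>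
    ((key z₁ y (hconn z₁ y (mem_top _) hz₁ (mem_top _) hy)).1 (hz₁c z₂ (C.pair.cl₂.1 hz₂S))).eq.symm
  rcases hNn.eq_bot_or_eq_top with h | h
  · exact Invol.ne_one hz₂.1 (mem_bot.1 (h ▸ hz₂N))
  · refine C.cc_ne_top hz₁.1 (eq_top_iff.2 fun g _ => mem_cc.2 ?_)
    exact (mem_centralizer_iff.1 (show g ∈ N by rw [h]; exact mem_top g) z₁ hz₁).symm

/-- There is no such simple group. -/
theorem false (C : Simp P S₁ S₂) (hg : Gate.{u}) : False := by
  rcases C.exists_side hg with h | h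
  · exact C.false_of_side hg h
  · exact C.symm.false_of_side hg h

end Simp

end Cfsg.Agent.CommPair
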